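import Cfsg.Agent.Mrg.Omega.NO3S.NotFF.Basic
import Cfsg.Agent.Omega.NoFF.Main
import Cfsg.Agent.Mrg.Omega.Assembly
import Cfsg.Agent.MinSimple.Basic
import Cfsg.Agent.Mrg.Omega.Half.Basic
import Cfsg.Agent.Lib.CoprimeAbelian
import Cfsg.Agent.Mrg.Omega.S5.Syl

section


/-!
# The U-method (#13906): lines sharing a vector `a`

* `lemmaU` : `U` normalised by `H`, `V ≤ H`, `[U, V] = 1`, `C_H(U) ≤ C`, `V ≤ O₂(C)` imply `V ≤ O₂(H)`;
* `le_centralizer_of_ext` : `U = ⟨X^H⟩`, `X` centralised by the Sylow 2-subgroup `T` of `H`; a normal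
  subgroup `N` of `H` inducing a 2-group on `U` centralises `U`;
* `mem_centralizer_of_comm` : (3) of #13906: `f ∈ H` with `[f, U] ≤ A`, `A` central in `H` of exponent 2,
  centralises `U`;
* `le_normalizer_of_zType` : (4) of #13906, the Z-type principle;
* `lines_normalize` : (B2): if `[U, V] = 1` then all `H`-conjugates of `V` normalise each other.
-/

set_option autoImplicit false

namespace Cfsg.Agent.Omega.NO3b.UMethod

open Subgroup Cfsg Cfsg.Agent.ZN Cfsg.Agent.MinSimple.VModule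
open Cfsg.Agent.Omega.NO3S.NotFF (le_normalizer_of_forall conj_mem normalizer_inf normalizer_centralizer)
open scoped Pointwise

universe u

variable {G : Type u} [Group G]

/-- `O₂` of a normal subgroup. -/
theorem o2_le_o2_of_normal {H K : Subgroup G} (hK : K ≤ H) (hn : H ≤ normalizer (K : Set G)) :
    o2 K ≤ o2 H := by
  refine le_o2 ((o2_le K).trans hK) (o2_isPGroup K) (le_normalizer_of_forall fun h hh x hx => ?_)
  have hc : (o2 K).map (MulAut.conj h).toMonoidHom ≤ o2 K := by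
    apply le_o2
    · rintro _ ⟨y, hy, rfl⟩
      exact conj_mem hn hh (o2_le K hy)
    · exact (o2_isPGroup K).map _
    · refine le_normalizer_of_forall fun y hy z hz => ?_
      obtain ⟨w, hw, rfl⟩ := hz
      have h1 : h⁻¹ * y * h ∈ K := by
        have := conj_mem hn (inv_mem hh) hy
        rwa [inv_inv] at this
      refine ⟨(h⁻¹ * y * h) * w * (h⁻¹ * y * h)⁻¹, conj_mem (le_normalizer_o2 K) h1 hw, ?_⟩
      change h * ((h⁻¹ * y * h) * w * (h⁻¹ * y * h)⁻¹) * h⁻¹ = y * (h * w * h⁻¹) * y⁻¹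
      group
  exact hc ⟨x, hx, rfl⟩

/-- **LEMMA U.** -/
theorem lemmaU {H U V C : Subgroup G} (hU : H ≤ normalizer (U : Set G))
    (hC : H ⊓ centralizer (U : Set G) ≤ C) (hVH : V ≤ H) (hVU : V ≤ centralizer (U : Set G))
    (hV : V ≤ o2 C) : V ≤ o2 H := by
  set K := H ⊓ centralizer (U : Set G) with hK
  have hKn : H ≤ normalizer (K : Set G) := normalizer_inf le_normalizer (normalizer_centralizer hU)
  have h1 : K ⊓ o2 C ≤ o2 K := by
    refine le_o2 inf_le_left ((o2_isPGroup C).to_le inf_le_right) ?_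
    exact normalizer_inf le_normalizer (hC.trans (le_normalizer_o2 C))
  exact (le_inf (le_inf hVH hVU) hV).trans (h1.trans (o2_le_o2_of_normal inf_le_left hKn))

/-- `T ∩ N` is a Sylow 2-subgroup of the normal subgroup `N`. -/
theorem not_dvd_inf [Finite G] {H T N : Subgroup G} (hTH : T ≤ H) (hTS : ¬ 2 ∣ T.relIndex H)
    (hNH : N ≤ H) (hN : H ≤ normalizer (N : Set G)) : ¬ 2 ∣ (N ⊓ T).relIndex N := by
  have hn : (N.subgroupOf H).Normal := normal_subgroupOf_of_le_normalizer hN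
  have h1 : N.relIndex (N ⊔ T) = N.relIndex T := by
    have h := Subgroup.relIndex_sup_left (K := N.subgroupOf H) (H := T.subgroupOf H)
    rw [← Subgroup.subgroupOf_sup hNH hTH, Subgroup.relIndex_subgroupOf (sup_le hNH hTH),
      Subgroup.relIndex_subgroupOf hTH] at h
    exact h
  have h2 := Subgroup.relIndex_mul_relIndex (N ⊓ T) N (N ⊔ T) inf_le_left le_sup_left
  have h3 := Subgroup.relIndex_mul_relIndex (N ⊓ T) T (N ⊔ T) inf_le_right le_sup_right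
  have h4 : (N ⊓ T).relIndex T = N.relIndex T := Subgroup.inf_relIndex_right N T
  rw [h1] at h2
  rw [h4, ← h2, mul_comm] at h3
  have h5 : T.relIndex (N ⊔ T) = (N ⊓ T).relIndex N :=
    Nat.eq_of_mul_eq_mul_right (Nat.pos_of_ne_zero (Subgroup.index_ne_zero_of_finite
      (H := N.subgroupOf T))) h3
  intro h
  have h6 := Subgroup.relIndex_mul_relIndex T (N ⊔ T) H le_sup_right (sup_le hNH hTH)
  exact hTS (h6 ▸ (h5 ▸ h : 2 ∣ T.relIndex (N ⊔ T)).mul_right _)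

/-- A normal subgroup `N` of `H` which induces a 2-group on `U = ⟨X^H⟩` centralises `U`, if `X` is
centralised by a Sylow 2-subgroup `T` of `H`. -/
theorem le_centralizer_of_ext [Finite G] {H T U N X : Subgroup G} (hTH : T ≤ H)
    (hTS : ¬ 2 ∣ T.relIndex H) (hTX : T ≤ centralizer (X : Set G)) (hNH : N ≤ H)
    (hN : H ≤ normalizer (N : Set G)) (hXU : X ≤ U) (hUn : H ≤ normalizer (U : Set G))
    (hU : ∀ Y : Subgroup G, X ≤ Y → H ≤ normalizer (Y : Set G) → U ≤ Y)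
    (h2 : ∀ n ∈ N, ∃ k : ℕ, n ^ 2 ^ k ∈ centralizer (U : Set G)) : N ≤ centralizer (U : Set G) := by
  -- the subgroup `M = (N ∩ C(U)) (N ∩ T)` of `N`
  set D := N ⊓ centralizer (U : Set G) with hD
  have hDn : N ≤ normalizer (D : Set G) :=
    normalizer_inf le_normalizer (normalizer_centralizer (hNH.trans hUn))
  have hM : N ≤ D ⊔ (N ⊓ T) := by
    -- the index of `D ⊔ (N ⊓ T)` in `N` is odd and a power of 2
    have hdvd1 : (D ⊔ (N ⊓ T)).relIndex N ∣ D.relIndex N :=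
      Subgroup.relIndex_dvd_of_le_left N le_sup_left
    have hpow : ∃ k, D.relIndex N = 2 ^ k := by
      have hDn' : (D.subgroupOf N).Normal := normal_subgroupOf_of_le_normalizer hDn
      have hq : IsPGroup 2 (N ⧸ D.subgroupOf N) := by
        intro x
        obtain ⟨n, rfl⟩ := QuotientGroup.mk_surjective x
        obtain ⟨k, hk⟩ := h2 n n.2
        refine ⟨k, ?_⟩
        rw [← QuotientGroup.mk_pow, QuotientGroup.eq_one_iff]
        rw [mem_subgroupOf]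
        exact ⟨by simpa using N.pow_mem n.2 (2 ^ k), by simpa using hk⟩
      obtain ⟨k, hk⟩ := IsPGroup.iff_card.1 hq
      exact ⟨k, by rw [← hk]; rfl⟩
    have hodd : ¬ 2 ∣ (D ⊔ (N ⊓ T)).relIndex N := by
      intro h
      have h3 : (D ⊔ (N ⊓ T)).relIndex N ∣ (N ⊓ T).relIndex N :=
        Subgroup.relIndex_dvd_of_le_left N le_sup_right
      exact not_dvd_inf hTH hTS hNH hN (h.trans h3)
    rw [← Subgroup.relIndex_eq_one]
    obtain ⟨k, hk⟩ := hpow
    rw [hk] at hdvd1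
    obtain ⟨j, -, hj⟩ := (Nat.dvd_prime_pow Nat.prime_two).1 hdvd1
    rcases Nat.eq_zero_or_pos j with h0 | h0
    · rw [hj, h0, pow_zero]
    · exact absurd (hj ▸ dvd_pow_self 2 h0.ne') hodd
  have hNX : N ≤ centralizer (X : Set G) := by
    refine hM.trans (sup_le (inf_le_right.trans (centralizer_le hXU)) (inf_le_right.trans hTX))
  have h6 : U ≤ centralizer (N : Set G) := by
    refine hU _ (Subgroup.le_centralizer_iff.1 hNX) (normalizer_centralizer hN)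
  exact Subgroup.le_centralizer_iff.1 h6

/-- The elements of `H` which act on `U` by `u ↦ a u`, `a ∈ A`, `A` central in `H`. -/
def comm (H U A : Subgroup G) (hU : H ≤ normalizer (U : Set G))
    (hA : H ≤ centralizer (A : Set G)) : Subgroup G where
  carrier := {c | c ∈ H ∧ ∀ u ∈ U, c * u * c⁻¹ * u⁻¹ ∈ A}
  mul_mem' := by
    rintro c d ⟨hc, hc'⟩ ⟨hd, hd'⟩
    refine ⟨mul_mem hc hd, fun u hu => ?_⟩
    have h1 := mem_centralizer_iff.1 (hA hc) _ (hd' u hu)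
    have e : c * d * u * (c * d)⁻¹ * u⁻¹ =
        (c * (d * u * d⁻¹ * u⁻¹) * c⁻¹) * (c * u * c⁻¹ * u⁻¹) := by group
    rw [e, ← h1, mul_assoc _ c, mul_inv_cancel, mul_one]
    exact mul_mem (hd' u hu) (hc' u hu)
  one_mem' := ⟨one_mem _, fun u _ => by
    have : (1 : G) * u * 1⁻¹ * u⁻¹ = 1 := by group
    rw [this]; exact one_mem _⟩
  inv_mem' := by
    rintro c ⟨hc, hc'⟩
    refine ⟨inv_mem hc, fun u hu => ?_⟩
    have h1 : c⁻¹ * u * c ∈ U := by
      have := conj_mem hU (inv_mem hc) hu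
      rwa [inv_inv] at this
    have h2 := inv_mem (hc' _ h1)
    have e : c⁻¹ * u * c⁻¹⁻¹ * u⁻¹ = (c * (c⁻¹ * u * c) * c⁻¹ * (c⁻¹ * u * c)⁻¹)⁻¹ := by group
    rw [e]
    exact h2

theorem mem_comm {H U A : Subgroup G} {hU : H ≤ normalizer (U : Set G)}
    {hA : H ≤ centralizer (A : Set G)} {c : G} :
    c ∈ comm H U A hU hA ↔ c ∈ H ∧ ∀ u ∈ U, c * u * c⁻¹ * u⁻¹ ∈ A := Iff.rfl

theorem comm_le {H U A : Subgroup G} {hU : H ≤ normalizer (U : Set G)}
    {hA : H ≤ centralizer (A : Set G)} : comm H U A hU hA ≤ H := fun _ h => h.1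

theorem le_normalizer_comm {H U A : Subgroup G} {hU : H ≤ normalizer (U : Set G)}
    {hA : H ≤ centralizer (A : Set G)} : H ≤ normalizer (comm H U A hU hA : Set G) := by
  refine le_normalizer_of_forall fun h hh c hc => ?_
  refine ⟨mul_mem (mul_mem hh hc.1) (inv_mem hh), fun u hu => ?_⟩
  have h1 : h⁻¹ * u * h ∈ U := by
    have := conj_mem hU (inv_mem hh) hu
    rwa [inv_inv] at this
  have h2 := hc.2 _ h1
  have h3 := mem_centralizer_iff.1 (hA hh) _ h2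
  have e : h * c * h⁻¹ * u * (h * c * h⁻¹)⁻¹ * u⁻¹ =
      h * (c * (h⁻¹ * u * h) * c⁻¹ * (h⁻¹ * u * h)⁻¹) * h⁻¹ := by group
  rw [e, ← h3, mul_assoc, mul_inv_cancel, mul_one]
  exact h2

/-- **(3) of #13906**: `U = ⟨X^H⟩`, `X` centralised by a Sylow 2-subgroup of `H`, `A ≤ U` of exponent 2,
central in `H`: every `f ∈ H` with `[f, U] ≤ A` centralises `U`. -/
theorem mem_centralizer_of_comm [Finite G] {H T U A X : Subgroup G} (hTH : T ≤ H)
    (hTS : ¬ 2 ∣ T.relIndex H) (hTX : T ≤ centralizer (X : Set G)) (hXU : X ≤ U)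
    (hUn : H ≤ normalizer (U : Set G))
    (hU : ∀ Y : Subgroup G, X ≤ Y → H ≤ normalizer (Y : Set G) → U ≤ Y)
    (hA : H ≤ centralizer (A : Set G)) (hA2 : ∀ a ∈ A, a * a = 1) {f : G} (hf : f ∈ H)
    (hfU : ∀ u ∈ U, f * u * f⁻¹ * u⁻¹ ∈ A) : f ∈ centralizer (U : Set G) := by
  refine le_centralizer_of_ext (N := comm H U A hUn hA) hTH hTS hTX comm_le le_normalizer_comm hXU
    hUn hU ?_ ⟨hf, hfU⟩
  rintro c ⟨hc, hc'⟩
  refine ⟨1, ?_⟩
  rw [mem_centralizer_iff]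
  intro u hu
  have h1 := hc' u hu
  have h2 := mem_centralizer_iff.1 (hA hc) _ h1
  -- `c u c⁻¹ = a u`
  have e : c ^ 2 ^ 1 * u * (c ^ 2 ^ 1)⁻¹ * u⁻¹ =
      (c * (c * u * c⁻¹ * u⁻¹) * c⁻¹) * (c * u * c⁻¹ * u⁻¹) := by
    rw [pow_one, pow_two]; group
  rw [← h2, mul_assoc _ c, mul_inv_cancel, mul_one, hA2 _ h1] at e
  have h3 : c ^ 2 ^ 1 * u * (c ^ 2 ^ 1)⁻¹ = u := mul_inv_eq_one.1 e
  exact (mul_inv_eq_iff_eq_mul.1 h3).symm

/-! ### Lines -/

/-- `V^g ≤ O₂(C(a))` if `V ≤ O₂(C(a^(g⁻¹)))`. -/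
theorem conj_le_o2 {V : Subgroup G} {g a : G} (h : V ≤ o2 (centralizer {g⁻¹ * a * g})) :
    MulAut.conj g • V ≤ o2 (centralizer {a}) := by
  have h1 : (centralizer ({g⁻¹ * a * g} : Set G)).map (MulAut.conj g).toMonoidHom =
      centralizer ({a} : Set G) := by
    ext x
    constructor
    · rintro ⟨y, hy, rfl⟩
      rw [SetLike.mem_coe, mem_centralizer_singleton_iff] at hy
      rw [mem_centralizer_singleton_iff]
      change g * y * g⁻¹ * a = a * (g * y * g⁻¹)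
      have e : g * y * g⁻¹ * a = g * (y * (g⁻¹ * a * g)) * g⁻¹ := by group
      rw [e, hy]
      group
    · intro hx
      rw [mem_centralizer_singleton_iff] at hx
      refine ⟨g⁻¹ * x * g, ?_, ?_⟩
      · rw [SetLike.mem_coe, mem_centralizer_singleton_iff]
        have e : g⁻¹ * x * g * (g⁻¹ * a * g) = g⁻¹ * (x * a) * g := by group
        rw [e, hx]
        group
      · change g * (g⁻¹ * x * g) * g⁻¹ = x
        group
  rw [← h1, MinPar.o2_map_equiv]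
  exact Subgroup.map_mono h

/-- `O₂(C(a))` lies in the Sylow 2-subgroup `S^g` if `a ∈ Z(S^g)`. -/
theorem o2_le_conj [Finite G] (S : Sylow 2 G) {g a : G} (h : g⁻¹ * a * g ∈ zc (S : Subgroup G)) :
    o2 (centralizer ({a} : Set G)) ≤ MulAut.conj g • (S : Subgroup G) := by
  have h1 : ((g • S : Sylow 2 G) : Subgroup G) = MulAut.conj g • (S : Subgroup G) := rfl
  have h2 : ((g • S : Sylow 2 G) : Subgroup G) ≤ centralizer ({a} : Set G) := by
    rw [h1]
    intro x hx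
    rw [NoFF.Basic.mem_conj] at hx
    rw [mem_centralizer_singleton_iff]
    have h3 := (mem_zc.1 h).2.1 _ hx
    have e : x * a = g * ((g⁻¹ * x * g) * (g⁻¹ * a * g)) * g⁻¹ := by group
    rw [e, h3]
    group
  rw [← h1]
  exact o2_le_of_sylow (g • S : Sylow 2 G).isPGroup' (MinSimple.Basic.not_dvd_relIndex _ h2)

/-- **The Z-type principle** ((4) of #13906): `a` central in the Sylow 2-subgroups `S^g`, `S^h`. -/
theorem le_normalizer_of_zType [Finite G] (S : Sylow 2 G) {V : Subgroup G}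
    (hSV : (S : Subgroup G) ≤ normalizer (V : Set G))
    (hZ : ∀ z ∈ zc (S : Subgroup G), z ≠ 1 → V ≤ o2 (centralizer {z})) {g h a : G} (ha : a ≠ 1)
    (hg : g⁻¹ * a * g ∈ zc (S : Subgroup G)) (hh : h⁻¹ * a * h ∈ zc (S : Subgroup G)) :
    MulAut.conj g • V ≤ normalizer ((MulAut.conj h • V : Subgroup G) : Set G) := by
  have h1 : g⁻¹ * a * g ≠ 1 := fun h => ha (by
    have h3 : a = g * (g⁻¹ * a * g) * g⁻¹ := by group
    rw [h3, h]; group)
  refine (conj_le_o2 (hZ _ hg h1)).trans ((o2_le_conj S hh).trans ?_)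
  rw [NoFF.Main.normalizer_conj]
  exact NoFF.Basic.conj_le_iff.2 hSV

/-- **(B2)**: `U` normal in `H`, `T ≤ H` contains `O₂(H)` and normalises `V ≤ H`; if `[U, V] = 1`,
`C_H(U) ≤ C` and `V ≤ O₂(C)`, then all conjugates of `V` under `H` normalise each other. -/
theorem lines_normalize {H U V C T : Subgroup G} (hU : H ≤ normalizer (U : Set G))
    (hC : H ⊓ centralizer (U : Set G) ≤ C) (hVH : V ≤ H) (hVU : V ≤ centralizer (U : Set G))
    (hV : V ≤ o2 C) (hT : o2 H ≤ T) (hTV : T ≤ normalizer (V : Set G)) {x y : G} (hx : x ∈ H)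
    (hy : y ∈ H) :
    MulAut.conj x • V ≤ normalizer ((MulAut.conj y • V : Subgroup G) : Set G) := by
  have h1 : V ≤ o2 H := lemmaU hU hC hVH hVU hV
  have h2 : ∀ z ∈ H, MulAut.conj z • o2 H = o2 H := fun z hz =>
    NoFF.Main.conj_eq_of_mem_normalizer (le_normalizer_o2 H hz)
  have h3 : MulAut.conj x • V ≤ o2 H := by
    rw [← h2 x hx]
    exact NoFF.Basic.conj_le_iff.2 h1
  refine h3.trans ?_
  rw [NoFF.Main.normalizer_conj, ← h2 y hy]
  exact NoFF.Basic.conj_le_iff.2 (hT.trans hTV)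

end Cfsg.Agent.Omega.NO3b.UMethod

end

section


/-!
# `C_P(V_P)` centralises `Ω₁(Z(O₂(P)))` for `P ∈ P*(S)` (project OMEGA)
-/

set_option autoImplicit false

namespace Cfsg.Agent.Omega.IId.LFour

open Subgroup Cfsg Cfsg.Agent.ZN Cfsg.Agent.Omega.MinPar
open Cfsg.Agent.MinSimple.VModule (mem_zc zc_le zc_comm zc_sq zc_le_zl le_normalizer_o2 o2_isPGroup o2_le
  normalizer_le_normalizer_zc le_normalizer_zl)

universe u

variable {G : Type u} [Group G] [Finite G]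

/-- **`C_P(V_P)` centralises `Ω₁(Z(O₂(P)))`.** -/
theorem le_centralizer_zc_o2 (hG : IsCharacteristicTwoType G) (S : Sylow 2 G) {P : Subgroup G}
    (h : IsParS (S : Subgroup G) P) :
    P ⊓ centralizer (zl (S : Subgroup G) P : Set G) ≤ centralizer (zc (o2 P) : Set G) := by
  have h2 : Fact (Nat.Prime 2) := ⟨Nat.prime_two⟩
  set A := zc (o2 P) with hA
  set K := P ⊓ centralizer (zl (S : Subgroup G) P : Set G) with hK
  have hSP : (S : Subgroup G) ≤ P := h.isLoc.le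
  have hPA : P ≤ normalizer (A : Set G) := (le_normalizer_o2 P).trans (normalizer_le_normalizer_zc _)
  have hKA : K ≤ normalizer (A : Set G) := inf_le_left.trans hPA
  have hAS : A ≤ S := (zc_le _).trans (h.isLoc.o2_le S)
  have hA2 : IsPGroup 2 A := S.isPGroup'.to_le hAS
  have hKn : P ≤ normalizer (K : Set G) := MinSimple.VModule.le_normalizer_centralizer_zl _ _
  have hKS : K ⊓ (S : Subgroup G) = o2 P := by
    rw [← IsParS.inf_centralizer S hG h, hK]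
    apply le_antisymm
    · rintro x ⟨⟨-, h1⟩, h2⟩
      exact ⟨h2, h1⟩
    · rintro x ⟨h1, h2⟩
      exact ⟨⟨hSP h1, h2⟩, h1⟩
  have hodd : ¬ 2 ∣ (o2 P).relIndex K := by
    rw [← hKS]
    exact NO3b.UMethod.not_dvd_inf hSP (MinSimple.Basic.not_dvd_relIndex S hSP) inf_le_left hKn
  letI : CommGroup A := { (inferInstance : Group A) with
    mul_comm := fun x y => Subtype.ext (zc_comm (o2 P) x x.2 y y.2) }
  let φ : K →* MulAut A := (Subgroup.normalizerMonoidHom A).comp (Subgroup.inclusion hKA)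
  have hφ : ∀ (a : K) (v : A), ((φ a v : A) : G) = a * v * (a : G)⁻¹ := fun a v => rfl
  have hker : (o2 P).subgroupOf K ≤ φ.ker := by
    intro k hk
    rw [MonoidHom.mem_ker]
    ext v
    rw [hφ]
    have h3 := (mem_zc.1 v.2).2.1 k (mem_subgroupOf.1 hk)
    rw [h3, mul_inv_cancel_right]
    rfl
  have hcard : ¬ 2 ∣ Nat.card φ.range := by
    intro h3
    rw [← Subgroup.index_ker] at h3
    exact hodd (h3.trans (Subgroup.index_dvd_of_le hker))
  have hcop : (Nat.card φ.range).Coprime (Nat.card A) := by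
    obtain ⟨n, hn⟩ := IsPGroup.iff_card.1 hA2
    rw [hn]
    exact Nat.Coprime.pow_right n ((Nat.Prime.coprime_iff_not_dvd Nat.prime_two).2 hcard).symm
  -- the commutator
  set B := ⁅A, K⁆ with hB
  have hBA : B ≤ A := by
    rw [hB, commutator_le]
    intro v hv a ha
    rw [commutatorElement_def, mul_assoc, mul_assoc]
    apply A.mul_mem hv
    have := (hKA ha v⁻¹).mp (A.inv_mem hv)
    rwa [SetLike.mem_coe, mul_assoc] at this
  have hBcl : B ≤ (Subgroup.closure {w : A | ∃ (a : φ.range) (u : A), w = φ.range.subtype a u * u⁻¹}).map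
      A.subtype := by
    rw [hB, commutator_le]
    intro v hv a ha
    rw [Subgroup.mem_map]
    refine ⟨(φ ⟨a, ha⟩ ⟨v, hv⟩ * (⟨v, hv⟩ : A)⁻¹)⁻¹,
      Subgroup.inv_mem _ (Subgroup.subset_closure ⟨⟨φ ⟨a, ha⟩, ⟨a, ha⟩, rfl⟩, ⟨v, hv⟩, rfl⟩), ?_⟩
    rw [Subgroup.coe_subtype, Subgroup.coe_inv, Subgroup.coe_mul, hφ, commutatorElement_def]
    simp [mul_assoc]
  have hPB : P ≤ normalizer (B : Set G) := by
    intro g hg
    have e1 : A.map (MulAut.conj g).toMonoidHom = A := by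
      apply le_antisymm
      · rintro _ ⟨v, hv, rfl⟩
        exact (mem_normalizer_iff.1 (hPA hg) v).1 hv
      · intro v hv
        refine ⟨g⁻¹ * v * g, ?_, by simp [mul_assoc]⟩
        have := (mem_normalizer_iff.1 (hPA (inv_mem hg)) v).1 hv
        rwa [inv_inv] at this
    have e2 : K.map (MulAut.conj g).toMonoidHom = K := by
      apply le_antisymm
      · rintro _ ⟨v, hv, rfl⟩
        exact (mem_normalizer_iff.1 (hKn hg) v).1 hv
      · intro v hv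
        refine ⟨g⁻¹ * v * g, ?_, by simp [mul_assoc]⟩
        have := (mem_normalizer_iff.1 (hKn (inv_mem hg)) v).1 hv
        rwa [inv_inv] at this
    have e3 : B.map (MulAut.conj g).toMonoidHom = B := by
      rw [hB, map_commutator, e1, e2]
    exact MinSimple.VModule.mem_normalizer_of_map_le e3.le
  have hBbot : B = ⊥ := by
    by_contra hne
    obtain ⟨b, hb, hb1, hbS⟩ := Half.exists_fixed (hA2.to_le hBA) hne S.isPGroup' (hSP.trans hPB)
    apply hb1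
    have hbz : b ∈ zc (S : Subgroup G) := by
      refine mem_zc.2 ⟨hAS (hBA hb), fun y hy => ?_, zc_sq _ _ (hBA hb)⟩
      have := hbS y hy
      rwa [mul_inv_eq_iff_eq_mul] at this
    have hbV : b ∈ zl (S : Subgroup G) P := zc_le_zl _ _ hbz
    obtain ⟨w, hw, hwb⟩ := hBcl hb
    have hwb' : (w : G) = b := hwb
    have h4 := Lib.CoprimeAbelian.eq_one_of_fixed_of_mem_closure φ.range.subtype hcop w ?_ hw
    · rw [← hwb', h4]
      rfl
    · rintro ⟨_, k, rfl⟩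
      apply Subtype.ext
      change ((φ k w : A) : G) = w
      rw [hφ, hwb', ← mem_centralizer_iff.1 k.2.2 b hbV, mul_inv_cancel_right]
  rw [← le_centralizer_iff, ← commutator_eq_bot_iff_le_centralizer]
  exact hBbot

end Cfsg.Agent.Omega.IId.LFour

end

section


/-!
# The factors of a sum of even-subset modules (project OMEGA, II.d)

`M : SymK T H V ⊥ k m` (`Omega/FFThm.lean`): `V` is the sum of `k` even-subset modules of degree `2^m + 1`.

* `fac M i`, `cof M i` : the `i`-th summand and the sum of the others;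
* `lab M hm i x` : the labels of `fac M i` (`x` a vector of `F₂^(2^m+1)`, modulo `⟨1⟩`);
* `Act.conj` : the action on labels;
* `evenSet` : `EvenSet (2^m+1) (fac M i) (H ⊓ C(cof M i)) (lab M hm i)`;
* `not_dvd_grp` : `T ∩ grp M i` is a Sylow 2-subgroup of `grp M i`.
-/

set_option autoImplicit false

namespace Cfsg.Agent.Omega.IId.LFour.SymF

open Subgroup Pointwise Cfsg.Agent.Omega Cfsg.Agent.Omega.FFThm
open Cfsg.Agent.Omega.S5.Def
open Cfsg.Agent.Omega.S5.Of (hat hat_add hat_comp sum_hat hat_eq_zero_iff)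
open Cfsg.Agent.Omega.Half (Amb)

universe u

variable {G : Type u} [Group G] {T H V : Subgroup G} {k m : ℕ} (M : SymK T H V ⊥ k m)

theorem e_one : M.e 1 = 0 := by
  have h := M.mul 1 (one_mem V) 1 (one_mem V)
  rw [one_mul] at h
  exact left_eq_add.1 h

theorem e_inv {v : G} (hv : v ∈ V) : M.e v⁻¹ = M.e v := by
  have h := M.mul v hv v⁻¹ (inv_mem hv)
  rw [mul_inv_cancel, e_one] at h
  funext i x
  have h2 := congrFun (congrFun h i) x
  rw [Pi.zero_apply, Pi.zero_apply, Pi.add_apply, Pi.add_apply] at h2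
  have h3 : M.e v i x = M.e v⁻¹ i x := CharTwo.add_eq_zero.mp h2.symm
  exact h3.symm

theorem eq_one {v : G} (hv : v ∈ V) (h : M.e v = 0) : v = 1 := mem_bot.1 ((M.ker v hv).1 h)

theorem inj {v w : G} (hv : v ∈ V) (hw : w ∈ V) (h : M.e v = M.e w) : v = w := by
  rw [← mul_inv_eq_one]
  apply eq_one M (mul_mem hv (inv_mem hw))
  rw [M.mul v hv _ (inv_mem hw), e_inv M hw, h]
  funext i x
  exact CharTwo.add_self_eq_zero _

/-- the `i`-th summand -/
def fac (i : Fin k) : Subgroup G where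
  carrier := {v | v ∈ V ∧ ∀ j, j ≠ i → M.e v j = 0}
  mul_mem' := by
    rintro v w ⟨hv, h1⟩ ⟨hw, h2⟩
    refine ⟨mul_mem hv hw, fun i hi => ?_⟩
    rw [M.mul v hv w hw, Pi.add_apply, h1 i hi, h2 i hi, add_zero]
  one_mem' := ⟨one_mem V, fun i _ => by rw [e_one]; rfl⟩
  inv_mem' := by
    rintro v ⟨hv, h1⟩
    refine ⟨inv_mem hv, fun i hi => ?_⟩
    rw [e_inv M hv, h1 i hi]

/-- the sum of the other summands -/
def cof (i : Fin k) : Subgroup G where
  carrier := {v | v ∈ V ∧ M.e v i = 0}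
  mul_mem' := by
    rintro v w ⟨hv, h1⟩ ⟨hw, h2⟩
    refine ⟨mul_mem hv hw, ?_⟩
    rw [M.mul v hv w hw, Pi.add_apply, h1, h2, add_zero]
  one_mem' := ⟨one_mem V, by rw [e_one]; rfl⟩
  inv_mem' := by
    rintro v ⟨hv, h1⟩
    refine ⟨inv_mem hv, ?_⟩
    rw [e_inv M hv, h1]

theorem mem_fac {i : Fin k} {v : G} : v ∈ fac M i ↔ v ∈ V ∧ ∀ j, j ≠ i → M.e v j = 0 := Iff.rfl

theorem mem_cof {i : Fin k} {v : G} : v ∈ cof M i ↔ v ∈ V ∧ M.e v i = 0 := Iff.rfl

theorem fac_le (i : Fin k) : fac M i ≤ V := fun _ h => h.1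

theorem cof_le (i : Fin k) : cof M i ≤ V := fun _ h => h.1

theorem fac_le_cof {i j : Fin k} (h : i ≠ j) : fac M i ≤ cof M j := fun _ hv => ⟨hv.1, hv.2 j h.symm⟩

theorem fac_inf_cof (i : Fin k) : fac M i ⊓ cof M i = ⊥ := by
  rw [eq_bot_iff]
  rintro v ⟨h1, h2⟩
  rw [mem_bot]
  refine eq_one M h1.1 (funext fun j => ?_)
  by_cases hj : j = i
  · rw [hj, h2.2]; rfl
  · rw [h1.2 j hj]; rfl

/-! ### Labels -/

variable (hm : 1 ≤ m)

include hm in
theorem sum_single (i : Fin k) (x : Fin (2 ^ m + 1) → ZMod 2) (j : Fin k) :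
    ∑ y, (Pi.single i (hat x) : Fin k → Fin (2 ^ m + 1) → ZMod 2) j y = 0 := by
  by_cases hj : j = i
  · subst hj
    rw [Pi.single_eq_same]
    exact sum_hat hm x
  · rw [Pi.single_eq_of_ne hj]
    simp

/-- the labels of the `i`-th summand -/
noncomputable def lab (i : Fin k) (x : Fin (2 ^ m + 1) → ZMod 2) : G :=
  (M.surj (Pi.single i (hat x)) (sum_single hm i x)).choose

theorem lab_mem (i : Fin k) (x : Fin (2 ^ m + 1) → ZMod 2) : lab M hm i x ∈ V :=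
  (M.surj (Pi.single i (hat x)) (sum_single hm i x)).choose_spec.1

theorem e_lab (i : Fin k) (x : Fin (2 ^ m + 1) → ZMod 2) : M.e (lab M hm i x) = Pi.single i (hat x) :=
  (M.surj (Pi.single i (hat x)) (sum_single hm i x)).choose_spec.2

theorem lab_mem_fac (i : Fin k) (x : Fin (2 ^ m + 1) → ZMod 2) : lab M hm i x ∈ fac M i :=
  ⟨lab_mem M hm i x, fun j hj => by rw [e_lab, Pi.single_eq_of_ne hj]⟩

theorem hat_of_even {x : Fin (2 ^ m + 1) → ZMod 2} (h : ∑ i, x i = 0) : hat x = x := by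
  funext i
  change x i + ∑ j, x j = x i
  rw [h, add_zero]

/-- every element of the `i`-th summand is a label -/
theorem lab_e {i : Fin k} {v : G} (hv : v ∈ fac M i) : lab M hm i (M.e v i) = v := by
  refine inj M (lab_mem M hm _ _) hv.1 ?_
  rw [e_lab, hat_of_even (M.even v hv.1 i)]
  funext j
  by_cases hj : j = i
  · subst hj
    rw [Pi.single_eq_same]
  · rw [Pi.single_eq_of_ne hj, hv.2 j hj]

theorem lab_add (i : Fin k) (x y : Fin (2 ^ m + 1) → ZMod 2) :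
    lab M hm i (x + y) = lab M hm i x * lab M hm i y := by
  refine inj M (lab_mem M hm _ _) (mul_mem (lab_mem M hm _ _) (lab_mem M hm _ _)) ?_
  rw [M.mul _ (lab_mem M hm _ _) _ (lab_mem M hm _ _), e_lab, e_lab, e_lab, hat_add, Pi.single_add]

theorem lab_eq_one_iff (i : Fin k) (x : Fin (2 ^ m + 1) → ZMod 2) : lab M hm i x = 1 ↔ x = 0 ∨ x = 1 := by
  rw [← hat_eq_zero_iff hm]
  constructor
  · intro h1
    have h2 := e_lab M hm i x
    rw [h1, e_one M] at h2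
    have h3 := congrFun h2 i
    rw [Pi.single_eq_same] at h3
    exact h3.symm
  · intro h1
    refine eq_one M (lab_mem M hm i x) ?_
    rw [e_lab, h1]
    exact Pi.single_zero i

/-- the action on labels -/
theorem conj_lab {g : G} (hg : g ∈ normalizer (V : Set G)) {σ : Equiv.Perm (Fin k)}
    {τ : Fin k → Equiv.Perm (Fin (2 ^ m + 1))} (h : ActsSym M.e V g σ τ) (i : Fin k)
    (x : Fin (2 ^ m + 1) → ZMod 2) : g * lab M hm i x * g⁻¹ = lab M hm (σ i) (x ∘ (τ i).symm) := by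
  refine inj M ((mem_normalizer_iff.1 hg _).1 (lab_mem M hm i x)) (lab_mem M hm _ _) ?_
  funext j' y'
  obtain ⟨j, rfl⟩ := σ.surjective j'
  obtain ⟨y, rfl⟩ := (τ j).surjective y'
  rw [h _ (lab_mem M hm i x) j y, e_lab, e_lab]
  by_cases hj : j = i
  · subst hj
    rw [Pi.single_eq_same, Pi.single_eq_same, hat_comp]
    simp
  · rw [Pi.single_eq_of_ne hj, Pi.single_eq_of_ne fun h0 => hj (σ.injective h0)]
    rfl

theorem conj_fac {g : G} (hg : g ∈ normalizer (V : Set G)) {σ : Equiv.Perm (Fin k)}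
    {τ : Fin k → Equiv.Perm (Fin (2 ^ m + 1))} (h : ActsSym M.e V g σ τ) {i : Fin k} {v : G}
    (hv : v ∈ fac M i) : g * v * g⁻¹ ∈ fac M (σ i) := by
  refine ⟨(mem_normalizer_iff.1 hg _).1 hv.1, fun j' hj => ?_⟩
  obtain ⟨j, rfl⟩ := σ.surjective j'
  funext y'
  obtain ⟨y, rfl⟩ := (τ j).surjective y'
  rw [h v hv.1 j y, hv.2 j fun h0 => hj (by rw [h0])]
  rfl

/-- a label is moved to another summand by the action of `σ` -/
theorem fix_of_conj {i j : Fin k} {x y : Fin (2 ^ m + 1) → ZMod 2} (h : lab M hm i x = lab M hm j y)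
    (hx : lab M hm i x ≠ 1) : i = j := by
  by_contra hne
  have h1 : lab M hm i x ∈ cof M i := by
    rw [h]
    exact fac_le_cof M (Ne.symm hne) (lab_mem_fac M hm j y)
  have h2 : lab M hm i x ∈ fac M i ⊓ cof M i := ⟨lab_mem_fac M hm i x, h1⟩
  rw [fac_inf_cof, mem_bot] at h2
  exact hx h2

theorem exists_lab_ne (hm2 : 1 ≤ m) (i : Fin k) : lab M hm i (Pi.single 0 1) ≠ 1 := by
  rw [Ne, lab_eq_one_iff]
  rintro (h | h)
  · have := congrFun h 0
    rw [Pi.single_eq_same] at this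
    exact one_ne_zero this
  · have h1 : (1 : Fin (2 ^ m + 1)) ≠ 0 := by
      intro h3
      have h4 := congrArg Fin.val h3
      have h5 : 2 ^ 1 ≤ 2 ^ m := Nat.pow_le_pow_right (by norm_num) hm2
      rw [Fin.val_one', Fin.val_zero, Nat.mod_eq_of_lt (by omega)] at h4
      exact one_ne_zero h4
    have := congrFun h 1
    rw [Pi.single_eq_of_ne h1, Pi.one_apply] at this
    exact zero_ne_one this

/-- the elements of `H` which centralise the other summands -/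
def grp (i : Fin k) : Subgroup G := H ⊓ centralizer (cof M i : Set G)

theorem grp_le (i : Fin k) : grp M i ≤ H := inf_le_left

include hm in
theorem perm_eq {g : G} {i : Fin k} (hA : Amb T H V) (hg : g ∈ grp M i) {σ : Equiv.Perm (Fin k)}
    {τ : Fin k → Equiv.Perm (Fin (2 ^ m + 1))} (h : ActsSym M.e V g σ τ) : ∀ j, σ j = j := by
  have hm1 := hm
  have key : ∀ j, j ≠ i → σ j = j := by
    intro j hj
    have h1 : lab M hm j (Pi.single 0 1) ∈ cof M i := fac_le_cof M hj (lab_mem_fac M hm j _)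
    have h2 := mem_centralizer_iff.1 hg.2 _ h1
    have h3 := conj_lab M hm (hA.HV hg.1) h j (Pi.single 0 1)
    rw [← h2, mul_inv_cancel_right] at h3
    exact (fix_of_conj M hm h3 (exists_lab_ne M hm hm1 j)).symm
  intro j
  by_cases hj : j = i
  · subst hj
    by_contra hne
    have h1 := key _ hne
    exact hne (σ.injective h1)
  · exact key j hj

/-- **The summand as an even-subset module.** -/
theorem evenSet (hA : Amb T H V) (i : Fin k) : EvenSet (2 ^ m + 1) (fac M i) (grp M i) (lab M hm i) where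
  add := lab_add M hm i
  mem := lab_mem_fac M hm i
  surj v hv := ⟨M.e v i, lab_e M hm hv⟩
  ker := lab_eq_one_iff M hm i
  perm g hg := by
    obtain ⟨σ, τ, h1⟩ := M.perm g hg.1
    have h2 := perm_eq M hm hA hg h1
    refine ⟨τ i, fun x => ?_⟩
    rw [conj_lab M hm (hA.HV hg.1) h1, h2]
  full σ := by
    classical
    obtain ⟨g, hg, h1, -⟩ := M.lift (Function.update 1 i σ)
    refine ⟨g, ⟨hg, mem_centralizer_iff.2 fun v hv => ?_⟩, fun x => ?_⟩
    · have h2 : g * v * g⁻¹ = v := by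
        refine inj M (hA.conj_mem hg hv.1) hv.1 ?_
        funext j y'
        obtain ⟨y, rfl⟩ := (Function.update (1 : Fin k → Equiv.Perm (Fin (2 ^ m + 1))) i σ j).surjective y'
        have h3 := h1 v hv.1 j y
        rw [Equiv.Perm.one_apply] at h3
        rw [h3]
        by_cases hj : j = i
        · subst hj
          rw [hv.2]
          rfl
        · rw [Function.update_of_ne hj]
          rfl
      calc v * g = g * v * g⁻¹ * g := by rw [h2]
        _ = g * v := by group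
    · rw [conj_lab M hm (hA.HV hg) h1, Equiv.Perm.one_apply, Function.update_self]

theorem conj_cof {g : G} (hg : g ∈ normalizer (V : Set G)) {σ : Equiv.Perm (Fin k)}
    {τ : Fin k → Equiv.Perm (Fin (2 ^ m + 1))} (h : ActsSym M.e V g σ τ) {i : Fin k} {v : G}
    (hv : v ∈ cof M (σ i)) : g⁻¹ * v * g ∈ cof M i := by
  have h1 : g⁻¹ * v * g ∈ V := by
    have := (mem_normalizer_iff.1 (inv_mem hg) v).1 hv.1
    rwa [inv_inv] at this
  refine ⟨h1, funext fun y => ?_⟩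
  have h2 := h _ h1 i y
  rw [← h2]
  have e : g * (g⁻¹ * v * g) * g⁻¹ = v := by group
  rw [e, hv.2]
  rfl

theorem conj_grp (hA : Amb T H V) {g l : G} (hg : g ∈ H) {σ : Equiv.Perm (Fin k)}
    {τ : Fin k → Equiv.Perm (Fin (2 ^ m + 1))} (h : ActsSym M.e V g σ τ) {i : Fin k}
    (hl : l ∈ grp M i) : g * l * g⁻¹ ∈ grp M (σ i) := by
  refine ⟨H.mul_mem (H.mul_mem hg hl.1) (H.inv_mem hg), mem_centralizer_iff.2 fun v hv => ?_⟩
  have h1 := mem_centralizer_iff.1 hl.2 _ (conj_cof M (hA.HV hg) h hv)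
  calc v * (g * l * g⁻¹) = g * ((g⁻¹ * v * g) * l) * g⁻¹ := by group
    _ = g * (l * (g⁻¹ * v * g)) * g⁻¹ := by rw [h1]
    _ = g * l * g⁻¹ * v := by group

include hm in
/-- `T ∩ grp i` is a Sylow 2-subgroup of `grp i` -/
theorem not_dvd_grp [Finite G] (hA : Amb T H V) (hT : ¬ 2 ∣ T.relIndex H) (i : Fin k) :
    ¬ 2 ∣ (grp M i ⊓ T).relIndex (grp M i) := by
  set N := ⨆ j, grp M j with hN
  have hNH : N ≤ H := iSup_le fun j => grp_le M j
  have hn : H ≤ normalizer (N : Set G) := by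
    intro g hg
    refine Cfsg.Agent.MinSimple.VModule.mem_normalizer_of_map_le ?_
    rw [hN, Subgroup.map_iSup]
    refine iSup_le fun j => ?_
    rintro _ ⟨l, hl, rfl⟩
    obtain ⟨σ, τ, h1⟩ := M.perm g hg
    exact (le_iSup (fun j => grp M j) (σ j)) (conj_grp M hA hg h1 hl)
  have h1 := NO3b.UMethod.not_dvd_inf hA.TH hT hNH hn
  have h2 : N ≤ normalizer (grp M i : Set G) := by
    refine iSup_le fun j g hg => ?_
    refine Cfsg.Agent.MinSimple.VModule.mem_normalizer_of_map_le ?_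
    rintro _ ⟨l, hl, rfl⟩
    obtain ⟨σ, τ, h1⟩ := M.perm g (grp_le M j hg)
    have h3 := conj_grp M hA (grp_le M j hg) h1 hl
    rwa [perm_eq M hm hA hg h1] at h3
  have h3 := NO3b.UMethod.not_dvd_inf (inf_le_left : N ⊓ T ≤ N) h1 (le_iSup (fun j => grp M j) i) h2
  have h4 : grp M i ⊓ (N ⊓ T) = grp M i ⊓ T := by
    rw [← inf_assoc, inf_eq_left.2 (le_iSup (fun j => grp M j) i)]
  rwa [h4] at h3

/-- `V` is generated by `fac i` and `cof i` -/
theorem sup_eq (i : Fin k) : fac M i ⊔ cof M i = V := by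
  apply le_antisymm (sup_le (fac_le M i) (cof_le M i))
  intro v hv
  have h1 := M.even v hv i
  obtain ⟨w, hw, he⟩ := M.surj (Pi.single i (M.e v i)) (fun j => by
    by_cases hj : j = i
    · subst hj; rw [Pi.single_eq_same]; exact h1
    · rw [Pi.single_eq_of_ne hj]; simp)
  have h2 : v = w * (w⁻¹ * v) := by group
  rw [h2]
  refine Subgroup.mul_mem_sup (⟨hw, fun j hj => ?_⟩ : w ∈ fac M i)
    (⟨mul_mem (inv_mem hw) hv, ?_⟩ : w⁻¹ * v ∈ cof M i)
  · rw [he, Pi.single_eq_of_ne hj]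
  · rw [M.mul _ (inv_mem hw) _ hv, e_inv M hw, he, Pi.add_apply, Pi.single_eq_same]
    funext x
    exact CharTwo.add_self_eq_zero _

end Cfsg.Agent.Omega.IId.LFour.SymF

end

section


/-!
# `V_P` the sum of two even-subset modules of degree 5 (project OMEGA, II.d L4; text helper839 #14703)

`Wr S P M₁ M₂` (`Mᵢ : FiveMod Vᵢ Lᵢ`): `V_P = V₁ × V₂`, `Lᵢ = C_P(V₃₋ᵢ)` induces `S₅` on `Vᵢ`, `P` permutes
`V₁`, `V₂`, an element of `S` interchanges them; `S ∩ Lᵢ` induces `D₈ = C((0 1)(2 3))` on `Vᵢ`.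

Labels as in `S5/TT.lean`: `σ = e ss` (the point 4), `n = e nn = {0 1}`, `a = e aa = {2 3}`, `n a = σ`.

* `exists_wr` : from `FFThm.SymK S P V_P ⊥ 2 2`;
* `Wr.symm`; `Wr.dS` : `N_S(V₁)` induces `D₈`; `Wr.zS_le` : `Ω₁(Z(S)) ≤ ⟨σ₁σ₂⟩`;
  `Wr.zS₁_le` : `Ω₁(Z(N_S(V₁))) ≤ ⟨σ₁, σ₂⟩`; `Wr.card_T` : `|S| = 4 |C_S(n)|`.
-/

set_option autoImplicit false
set_option linter.unusedSectionVars false

namespace Cfsg.Agent.Omega.IId.LFour

open Subgroup Pointwise Cfsg Cfsg.Agent.ZN Cfsg.Agent.Omega.MinPar Cfsg.Agent.Omega.FFThm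
open Cfsg.Agent.ZN.ChoiceBase (cj mem_cj)
open Cfsg.Agent.Omega.S5.Mod Cfsg.Agent.Omega.S5.TT
open Cfsg.Agent.Omega.S5.TT.Pos (na ns as sn n_ne s_ne a_ne n_ne_a n_ne_s a_ne_s e_sq' mem_C)
open Cfsg.Agent.Omega.Half (Amb amb_of_loc)
open Cfsg.Agent.MinSimple.VModule (mem_zc zc_le zc_comm zc_sq zc_le_zl le_normalizer_o2 o2_isPGroup o2_le
  normalizer_le_normalizer_zc le_normalizer_zl)

universe u

variable {G : Type u} [Group G]

/-- `g` interchanges the two summands. -/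
def Sw {V₁ V₂ L₁ L₂ : Subgroup G} (M₁ : FiveMod V₁ L₁) (M₂ : FiveMod V₂ L₂) (g : G)
    (p q : Equiv.Perm (Fin 5)) : Prop :=
  (∀ x, g * M₁.e x * g⁻¹ = M₂.e (x ∘ p.symm)) ∧ ∀ x, g * M₂.e x * g⁻¹ = M₁.e (x ∘ q.symm)

/-- `V_P = V₁ × V₂`, two even-subset modules of degree 5 interchanged by `S`. -/
structure Wr (S : Sylow 2 G) (P : Subgroup G) {V₁ V₂ L₁ L₂ : Subgroup G} (M₁ : FiveMod V₁ L₁)
    (M₂ : FiveMod V₂ L₂) : Prop where
  hG : IsCharacteristicTwoType G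
  star : IsParS (S : Subgroup G) P
  L₁_eq : L₁ = P ⊓ centralizer (V₂ : Set G)
  L₂_eq : L₂ = P ⊓ centralizer (V₁ : Set G)
  sup : zl (S : Subgroup G) P = V₁ ⊔ V₂
  inf : V₁ ⊓ V₂ = ⊥
  mov : ∀ g ∈ P, (∃ p q, M₁.Ind g p ∧ M₂.Ind g q) ∨ ∃ p q, Sw M₁ M₂ g p q
  swap : ∃ s ∈ (S : Subgroup G), ∃ p q, Sw M₁ M₂ s p q
  d₁ : ∀ g ∈ (S : Subgroup G) ⊓ L₁, ∀ p, M₁.Ind g p → p * dd = dd * p
  d₁' : ∀ p, p * dd = dd * p → ∃ g ∈ (S : Subgroup G) ⊓ L₁, M₁.Ind g p
  d₂ : ∀ g ∈ (S : Subgroup G) ⊓ L₂, ∀ p, M₂.Ind g p → p * dd = dd * p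
  d₂' : ∀ p, p * dd = dd * p → ∃ g ∈ (S : Subgroup G) ⊓ L₂, M₂.Ind g p

/-! ### Permutations -/

theorem dd_of_comm : ∀ r : Equiv.Perm (Fin 5), r * tt = tt * r →
    r * Equiv.swap 0 1 = Equiv.swap 0 1 * r → r = 1 ∨ r = dd := by
  decide +kernel

theorem dd_of_normalizes {p : Equiv.Perm (Fin 5)}
    (h : ∀ r : Equiv.Perm (Fin 5), r * dd = dd * r → (p⁻¹ * r * p) * dd = dd * (p⁻¹ * r * p)) :
    p * dd = dd * p := by
  have key : ∀ r : Equiv.Perm (Fin 5), r * dd = dd * r → (p * dd * p⁻¹) * r = r * (p * dd * p⁻¹) := by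
    intro r hr
    have h1 := h r hr
    calc p * dd * p⁻¹ * r = p * (dd * (p⁻¹ * r * p)) * p⁻¹ := by group
      _ = p * ((p⁻¹ * r * p) * dd) * p⁻¹ := by rw [h1]
      _ = r * (p * dd * p⁻¹) := by group
  rcases dd_of_comm _ (key tt (by decide)) (key _ (by decide)) with h1 | h1
  · exfalso
    have h2 : dd = 1 := by
      calc dd = p⁻¹ * (p * dd * p⁻¹) * p := by group
        _ = 1 := by rw [h1]; group
    revert h2
    decide
  · calc p * dd = p * dd * p⁻¹ * p := by group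
      _ = dd * p := by rw [h1]

namespace Wr

variable {S : Sylow 2 G} {P V₁ V₂ L₁ L₂ : Subgroup G} {M₁ : FiveMod V₁ L₁} {M₂ : FiveMod V₂ L₂}

/-- Interchange the two summands. -/
theorem symm (w : Wr S P M₁ M₂) : Wr S P M₂ M₁ where
  hG := w.hG
  star := w.star
  L₁_eq := w.L₂_eq
  L₂_eq := w.L₁_eq
  sup := by rw [w.sup, sup_comm]
  inf := by rw [inf_comm, w.inf]
  mov g hg := by
    rcases w.mov g hg with ⟨p, q, h1, h2⟩ | ⟨p, q, h1, h2⟩
    · exact Or.inl ⟨q, p, h2, h1⟩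
    · exact Or.inr ⟨q, p, h2, h1⟩
  swap := by
    obtain ⟨s, hs, p, q, h1, h2⟩ := w.swap
    exact ⟨s, hs, q, p, h2, h1⟩
  d₁ := w.d₂
  d₁' := w.d₂'
  d₂ := w.d₁
  d₂' := w.d₁'

section

variable (w : Wr S P M₁ M₂)
include w

/-! ### Elementary facts -/

theorem V₁_le : V₁ ≤ zl (S : Subgroup G) P := w.sup ▸ le_sup_left

theorem V₂_le : V₂ ≤ zl (S : Subgroup G) P := w.sup ▸ le_sup_right

theorem L₁_le : L₁ ≤ P := by rw [w.L₁_eq]; exact inf_le_left

theorem L₂_le : L₂ ≤ P := w.symm.L₁_le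

theorem L₁_comm {g v : G} (hg : g ∈ L₁) (hv : v ∈ V₂) : g * v = v * g := by
  rw [w.L₁_eq] at hg
  exact (mem_centralizer_iff.1 hg.2 v hv).symm

theorem L₂_comm {g v : G} (hg : g ∈ L₂) (hv : v ∈ V₁) : g * v = v * g := w.symm.L₁_comm hg hv

theorem mem_L₁ {g : G} (hg : g ∈ P) (h : ∀ v ∈ V₂, g * v = v * g) : g ∈ L₁ := by
  rw [w.L₁_eq]
  exact ⟨hg, mem_centralizer_iff.2 fun v hv => (h v hv).symm⟩

theorem mem_L₂ {g : G} (hg : g ∈ P) (h : ∀ v ∈ V₁, g * v = v * g) : g ∈ L₂ := w.symm.mem_L₁ hg h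

/-- an element which interchanges the summands does not fix an element `≠ 1` of `V₁` -/
theorem not_mem_of_sw {g : G} {p q : Equiv.Perm (Fin 5)} (h : Sw M₁ M₂ g p q) {v : G} (hv : v ∈ V₁)
    (hv1 : v ≠ 1) : g * v * g⁻¹ ∉ V₁ := by
  intro h1
  obtain ⟨x, rfl⟩ := (M₁.mem_iff v).1 hv
  have h2 : g * M₁.e x * g⁻¹ ∈ V₁ ⊓ V₂ := ⟨h1, by rw [h.1]; exact M₂.e_mem _⟩
  rw [w.inf, mem_bot, mul_inv_eq_one, mul_eq_left] at h2
  exact hv1 h2

/-- an element of `P` which maps an element `≠ 1` of `V₁` into `V₁` acts on both summands -/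
theorem ind_of_mem {g v : G} (hg : g ∈ P) (hv : v ∈ V₁) (hv1 : v ≠ 1) (h : g * v * g⁻¹ ∈ V₁) :
    ∃ p q, M₁.Ind g p ∧ M₂.Ind g q := by
  rcases w.mov g hg with h1 | ⟨p, q, h1⟩
  · exact h1
  · exact absurd h (w.not_mem_of_sw h1 hv hv1)

theorem ind_of_comm {g v : G} (hg : g ∈ P) (hv : v ∈ V₁) (hv1 : v ≠ 1) (h : g * v = v * g) :
    ∃ p q, M₁.Ind g p ∧ M₂.Ind g q :=
  w.ind_of_mem hg hv hv1 (by rw [h, mul_inv_cancel_right]; exact hv)

theorem ind_of_norm {g : G} (hg : g ∈ P) (h : g ∈ normalizer (V₁ : Set G)) :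
    ∃ p q, M₁.Ind g p ∧ M₂.Ind g q :=
  w.ind_of_mem hg (M₁.e_mem nn) (n_ne M₁) ((mem_normalizer_iff.1 h _).1 (M₁.e_mem nn))

/-- the elements of `P` normalising `V₁` normalise `L₁` -/
theorem conj_L₁ {g l : G} (hg : g ∈ P) {q : Equiv.Perm (Fin 5)} (hi : M₂.Ind g q) (hl : l ∈ L₁) :
    g * l * g⁻¹ ∈ L₁ := by
  refine w.mem_L₁ (mul_mem (mul_mem hg (w.L₁_le hl)) (inv_mem hg)) fun v hv => ?_
  have h1 := (mem_normalizer_iff.1 (inv_mem hi.mem_normalizer) v).1 hv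
  rw [inv_inv] at h1
  have h2 := w.L₁_comm hl h1
  calc g * l * g⁻¹ * v = g * (l * (g⁻¹ * v * g)) * g⁻¹ := by group
    _ = g * ((g⁻¹ * v * g) * l) * g⁻¹ := by rw [h2]
    _ = v * (g * l * g⁻¹) := by group

theorem conj_L₂ {g l : G} (hg : g ∈ P) {q : Equiv.Perm (Fin 5)} (hi : M₁.Ind g q) (hl : l ∈ L₂) :
    g * l * g⁻¹ ∈ L₂ := w.symm.conj_L₁ hg hi hl

/-- `L₁` acts trivially on `V₂` -/
theorem ind₂_of_L₁ {g : G} (hg : g ∈ L₁) : M₂.Ind g 1 :=
  FiveMod.ind_one_iff.2 (mem_centralizer_iff.2 fun _ hv => (w.L₁_comm hg hv).symm)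

theorem ind₁_of_L₂ {g : G} (hg : g ∈ L₂) : M₁.Ind g 1 := w.symm.ind₂_of_L₁ hg

end

section

variable (w : Wr S P M₁ M₂)
include w

/-- `N_S(V₁)` induces `D₈` on `V₁`. -/
theorem dS (hSP : (S : Subgroup G) ≤ P) {g : G} (hg : g ∈ (S : Subgroup G)) {p : Equiv.Perm (Fin 5)}
    (hp : M₁.Ind g p) : p * dd = dd * p := by
  obtain ⟨p', q, -, hq⟩ := w.ind_of_norm (hSP hg) hp.mem_normalizer
  refine dd_of_normalizes fun r hr => ?_
  obtain ⟨t, ht, hi⟩ := w.d₁' r hr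
  have h1 : g⁻¹ * t * g ∈ (S : Subgroup G) ⊓ L₁ := by
    refine ⟨(S : Subgroup G).mul_mem ((S : Subgroup G).mul_mem ((S : Subgroup G).inv_mem hg) ht.1) hg, ?_⟩
    have := w.conj_L₁ (inv_mem (hSP hg)) hq.inv ht.2
    rwa [inv_inv] at this
  have h2 := (hp.inv.mul hi).mul hp
  exact w.d₁ _ h1 _ h2

/-- the fixed points of `S ∩ L₁` on `V₁` -/
theorem fixed₁ {v : G} (hv : v ∈ V₁) (h : ∀ t ∈ (S : Subgroup G) ⊓ L₁, t * v = v * t) :
    v = 1 ∨ v = M₁.e ss := by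
  obtain ⟨y, rfl⟩ := (M₁.mem_iff v).1 hv
  have h1 : ∀ p, p * dd = dd * p → y ∘ p.symm = y ∨ y ∘ p.symm = y + 1 := by
    intro p hp
    obtain ⟨g, hg, hi⟩ := w.d₁' p hp
    exact (hi.commute_iff y).1 (h g hg)
  rcases fix_all y (h1 _ (by decide)) (h1 _ (by decide)) (h1 _ (by decide)) with h2 | h2
  · exact Or.inl ((M₁.ker y).2 h2)
  · exact Or.inr (M₁.e_eq_iff.2 h2)

theorem comm_ss (hSP : (S : Subgroup G) ≤ P) {g : G} (hg : g ∈ (S : Subgroup G))
    (hn : g ∈ normalizer (V₁ : Set G)) : g * M₁.e ss = M₁.e ss * g := by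
  obtain ⟨p, q, hp, -⟩ := w.ind_of_norm (hSP hg) hn
  exact (hp.commute_iff _).2 (Or.inl (fix_ss p (w.dS hSP hg hp)))

/-- an element of `S` which interchanges the summands maps `σ₁` to `σ₂` -/
theorem sw_ss (hSP : (S : Subgroup G) ≤ P) {s : G} (hs : s ∈ (S : Subgroup G)) {p q : Equiv.Perm (Fin 5)}
    (h : Sw M₁ M₂ s p q) : s * M₁.e ss * s⁻¹ = M₂.e ss := by
  have h1 : s * M₁.e ss * s⁻¹ ∈ V₂ := by rw [h.1]; exact M₂.e_mem _
  have h2 : ∀ t ∈ (S : Subgroup G) ⊓ L₂, t * (s * M₁.e ss * s⁻¹) = s * M₁.e ss * s⁻¹ * t := by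
    intro t ht
    have h3 : s⁻¹ * t * s ∈ L₁ := by
      refine w.mem_L₁ (mul_mem (mul_mem (inv_mem (hSP hs)) (w.L₂_le ht.2)) (hSP hs)) fun v hv => ?_
      obtain ⟨x, rfl⟩ := (M₂.mem_iff v).1 hv
      have h4 : s * M₂.e x * s⁻¹ ∈ V₁ := by rw [h.2]; exact M₁.e_mem _
      have h5 := w.L₂_comm ht.2 h4
      calc s⁻¹ * t * s * M₂.e x = s⁻¹ * (t * (s * M₂.e x * s⁻¹)) * s := by group
        _ = s⁻¹ * ((s * M₂.e x * s⁻¹) * t) * s := by rw [h5]
        _ = M₂.e x * (s⁻¹ * t * s) := by group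
    have h6 := w.comm_ss hSP (mul_mem (mul_mem (inv_mem hs) ht.1) hs) (M₁.le_normalizer h3)
    calc t * (s * M₁.e ss * s⁻¹) = s * ((s⁻¹ * t * s) * M₁.e ss) * s⁻¹ := by group
      _ = s * (M₁.e ss * (s⁻¹ * t * s)) * s⁻¹ := by rw [h6]
      _ = s * M₁.e ss * s⁻¹ * t := by group
  rcases w.symm.fixed₁ h1 h2 with h3 | h3
  · exfalso
    rw [mul_inv_eq_one, mul_eq_left] at h3
    exact s_ne M₁ h3
  · exact h3

end

section fin

variable [Finite G] (w : Wr S P M₁ M₂)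
include w

omit [Finite G] in
theorem S_le : (S : Subgroup G) ≤ P := w.star.isLoc.le

theorem amb : Amb (S : Subgroup G) P (zl (S : Subgroup G) P) := amb_of_loc w.hG S w.star.isLoc

theorem V₁_le_S : V₁ ≤ (S : Subgroup G) := w.V₁_le.trans w.amb.VT

theorem V₂_le_S : V₂ ≤ (S : Subgroup G) := w.V₂_le.trans w.amb.VT

theorem comm {v v' : G} (hv : v ∈ V₁) (hv' : v' ∈ V₂) : v * v' = v' * v :=
  w.amb.comm v (w.V₁_le hv) v' (w.V₂_le hv')

theorem V₁_le_L₁ : V₁ ≤ L₁ := fun _ hv => w.mem_L₁ (w.S_le (w.V₁_le_S hv)) fun _ hv' => w.comm hv hv'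

theorem V₂_le_L₂ : V₂ ≤ L₂ := w.symm.V₁_le_L₁

/-- `Ω₁(Z(S)) ≤ ⟨σ₁ σ₂⟩` -/
theorem zS_le {x : G} (hx : x ∈ zc (S : Subgroup G)) : x = 1 ∨ x = M₁.e ss * M₂.e ss := by
  obtain ⟨hxS, hxc, hx2⟩ := mem_zc.1 hx
  have h1 : x ∈ V₁ ⊔ V₂ := w.sup ▸ zc_le_zl _ _ hx
  have hn : V₂ ≤ normalizer (V₁ : Set G) := fun v hv => by
    refine centralizer_le_normalizer _ (mem_centralizer_iff.2 fun u hu => w.comm hu hv)
  obtain ⟨v₁, hv₁, v₂, hv₂, rfl⟩ : ∃ v₁ ∈ V₁, ∃ v₂ ∈ V₂, v₁ * v₂ = x := by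
    have h2 : x ∈ ((V₁ ⊔ V₂ : Subgroup G) : Set G) := h1
    rw [coe_mul_of_right_le_normalizer_left _ _ hn] at h2
    exact Set.mem_mul.1 h2
  have f₁ : v₁ = 1 ∨ v₁ = M₁.e ss := by
    refine w.fixed₁ hv₁ fun t ht => ?_
    have h3 := hxc t ht.1
    have h4 := w.L₁_comm ht.2 hv₂
    refine mul_right_cancel (b := v₂) ?_
    calc t * v₁ * v₂ = v₁ * v₂ * t := by rw [mul_assoc, h3]
      _ = v₁ * (t * v₂) := by rw [h4, mul_assoc]
      _ = v₁ * t * v₂ := by group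
  have f₂ : v₂ = 1 ∨ v₂ = M₂.e ss := by
    refine w.symm.fixed₁ hv₂ fun t ht => ?_
    have h3 := hxc t ht.1
    have h4 := w.L₂_comm ht.2 hv₁
    refine mul_left_cancel (a := v₁) ?_
    calc v₁ * (t * v₂) = (v₁ * t) * v₂ := by group
      _ = t * (v₁ * v₂) := by rw [← h4]; group
      _ = v₁ * (v₂ * t) := by rw [h3, mul_assoc]
  obtain ⟨s, hs, p, q, hsw⟩ := w.swap
  have hs1 := w.sw_ss w.S_le hs hsw
  have hs2 := w.symm.sw_ss w.S_le hs (p := q) (q := p) ⟨hsw.2, hsw.1⟩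
  have hxs : s * (v₁ * v₂) * s⁻¹ = v₁ * v₂ := by rw [hxc s hs, mul_inv_cancel_right]
  rcases f₁ with rfl | rfl <;> rcases f₂ with rfl | rfl
  · left; group
  · exfalso
    rw [one_mul, hs2] at hxs
    have h5 : M₁.e ss ∈ V₁ ⊓ V₂ := ⟨M₁.e_mem _, by rw [hxs]; exact M₂.e_mem _⟩
    rw [w.inf, mem_bot] at h5
    exact s_ne M₁ h5
  · exfalso
    rw [mul_one, hs1] at hxs
    have h5 : M₂.e ss ∈ V₁ ⊓ V₂ := ⟨by rw [hxs]; exact M₁.e_mem _, M₂.e_mem _⟩
    rw [w.inf, mem_bot] at h5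
    exact s_ne M₂ h5
  · right; rfl

/-- `S₁ = N_S(V₁)` -/
theorem mem_or {s : G} (hs : s ∈ (S : Subgroup G)) {p q : Equiv.Perm (Fin 5)} (h : Sw M₁ M₂ s p q) {x : G}
    (hx : x ∈ (S : Subgroup G)) : x ∈ (S : Subgroup G) ⊓ normalizer (V₁ : Set G) ∨
      x * s ∈ (S : Subgroup G) ⊓ normalizer (V₁ : Set G) := by
  rcases w.mov x (w.S_le hx) with ⟨p', q', h1, -⟩ | ⟨p', q', h1⟩
  · exact Or.inl ⟨hx, h1.mem_normalizer⟩
  · right
    refine ⟨mul_mem hx hs, ?_⟩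
    have h2 : M₁.Ind (x * s) (q' * p) := by
      intro y
      calc x * s * M₁.e y * (x * s)⁻¹ = x * (s * M₁.e y * s⁻¹) * x⁻¹ := by group
        _ = x * M₂.e (y ∘ p.symm) * x⁻¹ := by rw [h.1]
        _ = M₁.e ((y ∘ p.symm) ∘ q'.symm) := h1.2 _
        _ = M₁.e (y ∘ (q' * p).symm) := rfl
    exact h2.mem_normalizer

omit [Finite G] in
theorem sw_not_mem {s : G} {p q : Equiv.Perm (Fin 5)} (h : Sw M₁ M₂ s p q) :
    s ∉ normalizer (V₁ : Set G) := fun hn =>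
  w.not_mem_of_sw h (M₁.e_mem nn) (n_ne M₁) ((mem_normalizer_iff.1 hn _).1 (M₁.e_mem nn))

/-- `|S : S₁| = 2` -/
theorem card_S₁ : Nat.card (S : Subgroup G) =
    2 * Nat.card ((S : Subgroup G) ⊓ normalizer (V₁ : Set G) : Subgroup G) := by
  obtain ⟨s, hs, p, q, hsw⟩ := w.swap
  set T := (S : Subgroup G) ⊓ normalizer (V₁ : Set G) with hT
  have h1 : (T.subgroupOf S).index = 2 := by
    rw [index_eq_two_iff]
    refine ⟨⟨s, hs⟩, fun x => ?_⟩
    have hsT : s ∉ T := fun h0 => w.sw_not_mem hsw h0.2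
    by_cases hx : (x : G) ∈ T
    · right
      refine ⟨mem_subgroupOf.2 hx, fun h0 => hsT ?_⟩
      have h2 := mem_subgroupOf.1 h0
      have h3 := mul_mem (inv_mem hx) h2
      have h4 : (x : G)⁻¹ * ((x * ⟨s, hs⟩ : (S : Subgroup G)) : G) = s := by
        rw [coe_mul]; group
      rwa [h4] at h3
    · left
      refine ⟨mem_subgroupOf.2 ?_, fun h0 => hx (mem_subgroupOf.1 h0)⟩
      rcases w.mem_or hs hsw x.2 with h2 | h2
      · exact absurd h2 hx
      · exact h2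
  have h2 := (T.subgroupOf (S : Subgroup G)).card_mul_index
  rw [h1] at h2
  have h3 : Nat.card (T.subgroupOf (S : Subgroup G)) = Nat.card T :=
    Nat.card_congr (subgroupOfEquivOfLe inf_le_left).toEquiv
  rw [← h2, h3, mul_comm]

/-- `C_S(n) ≤ S₁` -/
theorem T_le : (S : Subgroup G) ⊓ centralizer ({M₁.e nn} : Set G) ≤
    (S : Subgroup G) ⊓ normalizer (V₁ : Set G) := by
  rintro x ⟨hx, hc⟩
  obtain ⟨p, q, hp, -⟩ := w.ind_of_comm (w.S_le hx) (M₁.e_mem nn) (n_ne M₁) (mem_C.1 hc)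
  exact ⟨hx, hp.mem_normalizer⟩

omit [Finite G] in
/-- an element of `S ∩ L₁` interchanging `n` and `a` -/
theorem exists_x : ∃ x ∈ (S : Subgroup G) ⊓ L₁, M₁.Ind x tt := w.d₁' tt (by decide)

theorem T_ind {g : G} (hg : g ∈ (S : Subgroup G) ⊓ centralizer ({M₁.e nn} : Set G)) :
    ∃ p q, TTp p ∧ M₁.Ind g p ∧ M₂.Ind g q := by
  obtain ⟨p, q, hp, hq⟩ := w.ind_of_comm (w.S_le hg.1) (M₁.e_mem nn) (n_ne M₁) (mem_C.1 hg.2)
  exact ⟨p, q, ttp_of p (w.dS w.S_le hg.1 hp) ((hp.commute_iff _).1 (mem_C.1 hg.2)), hp, hq⟩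

omit [Finite G] w in
theorem mem_T_of_ind {g : G} (hg : g ∈ (S : Subgroup G)) {p : Equiv.Perm (Fin 5)} (hp : TTp p)
    (hi : M₁.Ind g p) : g ∈ (S : Subgroup G) ⊓ centralizer ({M₁.e nn} : Set G) :=
  ⟨hg, mem_C.2 ((hi.commute_iff _).2 (Or.inl (ttp_nn p hp)))⟩

theorem T_comm_a {g : G} (hg : g ∈ (S : Subgroup G) ⊓ centralizer ({M₁.e nn} : Set G)) :
    g * M₁.e aa = M₁.e aa * g := by
  obtain ⟨p, q, hp, hi, -⟩ := w.T_ind hg
  exact (hi.commute_iff _).2 (Or.inl (ttp_aa p hp))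

theorem T_comm_s₁ {g : G} (hg : g ∈ (S : Subgroup G) ⊓ centralizer ({M₁.e nn} : Set G)) :
    g * M₁.e ss = M₁.e ss * g := w.comm_ss w.S_le hg.1 (w.T_le hg).2

theorem T_comm_s₂ {g : G} (hg : g ∈ (S : Subgroup G) ⊓ centralizer ({M₁.e nn} : Set G)) :
    g * M₂.e ss = M₂.e ss * g := by
  obtain ⟨p, q, -, -, hq⟩ := w.T_ind hg
  exact w.symm.comm_ss w.S_le hg.1 hq.mem_normalizer

/-- `S₁ = T ∪ T x` -/
theorem mem_or₁ {x : G} (hx : x ∈ (S : Subgroup G)) (hi : M₁.Ind x tt) {y : G}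
    (hy : y ∈ (S : Subgroup G) ⊓ normalizer (V₁ : Set G)) :
    y ∈ (S : Subgroup G) ⊓ centralizer ({M₁.e nn} : Set G) ∨
      y * x ∈ (S : Subgroup G) ⊓ centralizer ({M₁.e nn} : Set G) := by
  obtain ⟨p, q, hp, -⟩ := w.ind_of_norm (w.S_le hy.1) hy.2
  rcases ttp_or p (w.dS w.S_le hy.1 hp) with h1 | h1
  · exact Or.inl (mem_T_of_ind hy.1 h1 hp)
  · exact Or.inr (mem_T_of_ind (mul_mem hy.1 hx) h1 (hp.mul hi))

omit [Finite G] w in
theorem tt_n {g : G} (hg : M₁.Ind g tt) : g * M₁.e nn * g⁻¹ = M₁.e aa := by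
  rw [hg, M₁.e_eq_iff]; decide

omit [Finite G] w in
theorem tt_a {g : G} (hg : M₁.Ind g tt) : g * M₁.e aa * g⁻¹ = M₁.e nn := by
  rw [hg, M₁.e_eq_iff]; decide

/-- `x` normalises `T = C_S(n)` -/
theorem conj_T {x : G} (hx : x ∈ (S : Subgroup G)) (hi : M₁.Ind x tt) {y : G}
    (hy : y ∈ (S : Subgroup G) ⊓ centralizer ({M₁.e nn} : Set G)) :
    x * y * x⁻¹ ∈ (S : Subgroup G) ⊓ centralizer ({M₁.e nn} : Set G) := by
  refine mem_inf.2 ⟨mul_mem (mul_mem hx hy.1) (inv_mem hx), mem_C.2 ?_⟩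
  rw [← tt_a hi]
  calc x * y * x⁻¹ * (x * M₁.e aa * x⁻¹) = x * (y * M₁.e aa) * x⁻¹ := by group
    _ = x * (M₁.e aa * y) * x⁻¹ := by rw [w.T_comm_a hy]
    _ = x * M₁.e aa * x⁻¹ * (x * y * x⁻¹) := by group

/-- `|S₁ : T| = 2` -/
theorem card_T₁ : Nat.card ((S : Subgroup G) ⊓ normalizer (V₁ : Set G) : Subgroup G) =
    2 * Nat.card ((S : Subgroup G) ⊓ centralizer ({M₁.e nn} : Set G) : Subgroup G) := by
  obtain ⟨x, hx, hi⟩ := w.exists_x
  set S₁ := (S : Subgroup G) ⊓ normalizer (V₁ : Set G) with hS₁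
  set T := (S : Subgroup G) ⊓ centralizer ({M₁.e nn} : Set G) with hT
  have hxS : x ∈ S₁ := ⟨hx.1, hi.mem_normalizer⟩
  have h1 : (T.subgroupOf S₁).index = 2 := by
    rw [index_eq_two_iff]
    refine ⟨⟨x, hxS⟩, fun y => ?_⟩
    have hxT : x ∉ T := by
      intro h0
      have h2 := tt_n hi
      rw [mem_C.1 h0.2, mul_inv_cancel_right] at h2
      exact n_ne_a M₁ h2
    by_cases hy : (y : G) ∈ T
    · right
      refine ⟨mem_subgroupOf.2 hy, fun h0 => hxT ?_⟩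
      have h2 := mem_subgroupOf.1 h0
      have h3 := mul_mem (inv_mem hy) h2
      have h4 : (y : G)⁻¹ * ((y * ⟨x, hxS⟩ : S₁) : G) = x := by
        rw [coe_mul]; group
      rwa [h4] at h3
    · left
      refine ⟨mem_subgroupOf.2 ?_, fun h0 => hy (mem_subgroupOf.1 h0)⟩
      rcases w.mem_or₁ hx.1 hi y.2 with h2 | h2
      · exact absurd h2 hy
      · exact h2
  have h2 := (T.subgroupOf S₁).card_mul_index
  rw [h1] at h2
  have h3 : Nat.card (T.subgroupOf S₁) = Nat.card T :=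
    Nat.card_congr (subgroupOfEquivOfLe w.T_le).toEquiv
  rw [← h2, h3, mul_comm]

/-- `|S : C_S(n)| = 4` -/
theorem card_T : Nat.card (S : Subgroup G) =
    4 * Nat.card ((S : Subgroup G) ⊓ centralizer ({M₁.e nn} : Set G) : Subgroup G) := by
  rw [w.card_S₁, w.card_T₁]
  ring

/-- `Ω₁(Z(S₁)) ≤ ⟨σ₁, σ₂⟩` -/
theorem zS₁_le {x : G} (hx : x ∈ zc ((S : Subgroup G) ⊓ normalizer (V₁ : Set G))) :
    x = 1 ∨ x = M₁.e ss ∨ x = M₂.e ss ∨ x = M₁.e ss * M₂.e ss := by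
  obtain ⟨s, hs, p, q, hsw⟩ := w.swap
  have hs1 := w.sw_ss w.S_le hs hsw
  obtain ⟨hxS, hxc, hx2⟩ := mem_zc.1 hx
  set S₁ := (S : Subgroup G) ⊓ normalizer (V₁ : Set G) with hS₁
  -- `s` normalises `S₁`
  have hssw : M₁.Ind (s * s) (q * p) := by
    intro y
    calc s * s * M₁.e y * (s * s)⁻¹ = s * (s * M₁.e y * s⁻¹) * s⁻¹ := by group
      _ = s * M₂.e (y ∘ p.symm) * s⁻¹ := by rw [hsw.1]
      _ = M₁.e ((y ∘ p.symm) ∘ q.symm) := hsw.2 _
      _ = M₁.e (y ∘ (q * p).symm) := rfl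
  have hss : s * s ∈ S₁ := ⟨mul_mem hs hs, hssw.mem_normalizer⟩
  have hnS : ∀ y ∈ S₁, s * y * s⁻¹ ∈ S₁ := by
    rintro y ⟨hy, hyn⟩
    refine ⟨(S : Subgroup G).mul_mem ((S : Subgroup G).mul_mem hs hy) ((S : Subgroup G).inv_mem hs), ?_⟩
    obtain ⟨p', q', -, hq'⟩ := w.ind_of_norm (w.S_le hy) hyn
    have h1 : ∀ v ∈ V₁, s * y * s⁻¹ * v * (s * y * s⁻¹)⁻¹ ∈ V₁ := by
      intro v hv
      obtain ⟨z, rfl⟩ := (M₁.mem_iff v).1 hv
      have e1 := hsw.2 (z ∘ q)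
      have e2 : (z ∘ q) ∘ q.symm = z := by funext i; simp
      rw [e2] at e1
      have e3 : s * y * s⁻¹ * M₁.e z * (s * y * s⁻¹)⁻¹ = s * (y * M₂.e (z ∘ q) * y⁻¹) * s⁻¹ := by
        rw [← e1]; group
      rw [e3, hq', hsw.2]
      exact M₁.e_mem _
    refine MinSimple.VModule.mem_normalizer_of_map_le ?_
    rintro _ ⟨v, hv, rfl⟩
    exact h1 v hv
  -- the fixed points of `s`
  have key : ∀ y ∈ zc S₁, s * y * s⁻¹ = y → y = 1 ∨ y = M₁.e ss * M₂.e ss := by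
    intro y hy hys
    obtain ⟨hyS, hyc, hy2⟩ := mem_zc.1 hy
    refine w.zS_le (mem_zc.2 ⟨hyS.1, fun b hb => ?_, hy2⟩)
    have hys' : s * y = y * s := by rwa [mul_inv_eq_iff_eq_mul] at hys
    rcases w.mem_or hs hsw hb with h4 | h4
    · exact hyc b h4
    · have h5 := hyc _ h4
      have h6 : b * y * s = y * b * s := by
        calc b * y * s = b * (y * s) := by group
          _ = b * (s * y) := by rw [hys']
          _ = b * s * y := by group
          _ = y * (b * s) := h5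
          _ = y * b * s := by group
      exact mul_right_cancel h6
  have hxx : x * x = 1 := by rw [← pow_two]; exact hx2
  have hxsz : s * x * s⁻¹ ∈ zc S₁ := by
    refine mem_zc.2 ⟨hnS x hxS, fun b hb => ?_, ?_⟩
    · have h1 : s⁻¹ * b * s ∈ S₁ := by
        have h2 := hnS b hb
        have h3 := mul_mem (mul_mem (inv_mem hss) h2) hss
        have e : (s * s)⁻¹ * (s * b * s⁻¹) * (s * s) = s⁻¹ * b * s := by group
        rwa [e] at h3
      have h2 := hxc _ h1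
      calc b * (s * x * s⁻¹) = s * (s⁻¹ * b * s * x) * s⁻¹ := by group
        _ = s * (x * (s⁻¹ * b * s)) * s⁻¹ := by rw [h2]
        _ = s * x * s⁻¹ * b := by group
    · rw [pow_two]
      calc s * x * s⁻¹ * (s * x * s⁻¹) = s * (x * x) * s⁻¹ := by group
        _ = 1 := by rw [hxx]; group
  have hcomm : x * (s * x * s⁻¹) = s * x * s⁻¹ * x := (hxc _ (mem_zc.1 hxsz).1).symm
  have hy : x * (s * x * s⁻¹) ∈ zc S₁ := by
    refine mem_zc.2 ⟨mul_mem hxS (mem_zc.1 hxsz).1, fun b hb => ?_, ?_⟩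
    · calc b * (x * (s * x * s⁻¹)) = (b * x) * (s * x * s⁻¹) := by group
        _ = x * (b * (s * x * s⁻¹)) := by rw [hxc b hb]; group
        _ = x * (s * x * s⁻¹) * b := by rw [(mem_zc.1 hxsz).2.1 b hb]; group
    · rw [pow_two]
      calc x * (s * x * s⁻¹) * (x * (s * x * s⁻¹)) = x * ((s * x * s⁻¹) * x) * (s * x * s⁻¹) := by group
        _ = x * (x * (s * x * s⁻¹)) * (s * x * s⁻¹) := by rw [← hcomm]
        _ = (x * x) * (s * (x * x) * s⁻¹) := by group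
        _ = 1 := by rw [hxx]; group
  have hyfix : s * (x * (s * x * s⁻¹)) * s⁻¹ = x * (s * x * s⁻¹) := by
    have h1 : s * s * x = x * (s * s) := hxc _ hss
    calc s * (x * (s * x * s⁻¹)) * s⁻¹ = (s * x * s⁻¹) * ((s * s * x) * (s * s)⁻¹) := by group
      _ = (s * x * s⁻¹) * x := by rw [h1]; group
      _ = x * (s * x * s⁻¹) := hcomm.symm
  rcases key _ hy hyfix with h1 | h1
  · have h2 : s * x * s⁻¹ = x := by
      have h3 := eq_inv_of_mul_eq_one_right h1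
      rw [h3]
      exact inv_eq_of_mul_eq_one_left hxx
    rcases key x hx h2 with h3 | h3
    · exact Or.inl h3
    · exact Or.inr (Or.inr (Or.inr h3))
  · -- `x σ₁` is fixed by `s`
    have hσS : M₁.e ss ∈ S₁ := ⟨w.V₁_le_S (M₁.e_mem ss), M₁.le_normalizer (w.V₁_le_L₁ (M₁.e_mem ss))⟩
    have hσz : M₁.e ss ∈ zc S₁ :=
      mem_zc.2 ⟨hσS, fun b hb => w.comm_ss w.S_le hb.1 hb.2, e_sq' M₁ ss⟩
    have hxσ : x * M₁.e ss = M₁.e ss * x := (hxc _ hσS).symm
    have hz2 : x * M₁.e ss ∈ zc S₁ := by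
      refine mem_zc.2 ⟨mul_mem hxS hσS, fun b hb => ?_, ?_⟩
      · calc b * (x * M₁.e ss) = (b * x) * M₁.e ss := by group
          _ = x * (b * M₁.e ss) := by rw [hxc b hb]; group
          _ = x * M₁.e ss * b := by rw [(mem_zc.1 hσz).2.1 b hb]; group
      · rw [pow_two]
        calc x * M₁.e ss * (x * M₁.e ss) = x * (M₁.e ss * x) * M₁.e ss := by group
          _ = (x * x) * (M₁.e ss * M₁.e ss) := by rw [← hxσ]; group
          _ = 1 := by rw [hxx, M₁.e_sq, one_mul]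
    have h12 : M₁.e ss * M₂.e ss = M₂.e ss * M₁.e ss := w.comm (M₁.e_mem _) (M₂.e_mem _)
    have h2 : s * (x * M₁.e ss) * s⁻¹ = x * M₁.e ss := by
      have h3 : s * x * s⁻¹ = x * (M₁.e ss * M₂.e ss) := by
        rw [← h1, ← mul_assoc, hxx, one_mul]
      calc s * (x * M₁.e ss) * s⁻¹ = (s * x * s⁻¹) * (s * M₁.e ss * s⁻¹) := by group
        _ = x * (M₁.e ss * (M₂.e ss * M₂.e ss)) := by rw [h3, hs1]; group
        _ = x * M₁.e ss := by rw [M₂.e_sq, mul_one]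
    rcases key _ hz2 h2 with h3 | h3
    · right; left
      have := congrArg (· * M₁.e ss) h3
      simpa [mul_assoc, M₁.e_sq] using this
    · right; right; left
      have h4 : x = (M₁.e ss * M₂.e ss) * M₁.e ss := by
        rw [← h3, mul_assoc, M₁.e_sq, mul_one]
      rw [h4, h12, mul_assoc, M₁.e_sq, mul_one]

end fin

end Wr

end Cfsg.Agent.Omega.IId.LFour

end

section


/-!
# Equivariant maps of the even-subset module of degree 5 (project OMEGA, II.d L4)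

`M : FiveMod V L`; `Hom5 M K c` : `c : Vec → G` induces a homomorphism `V → G` which is equivariant for
`K ≤ L`.  `Ker L W W₀` : the elements of `L` acting trivially on `W / W₀`.  If `|W : W₀| ≤ 4`, `W₀ ≤ C(V)`,
`L` normalises `W`, `W₀` and `V ≤ L`, then `K = Ker L W W₀` contains `V` and an element inducing a 5-cycle
(`exists_five`, `V_le_Ker`), the maps `v ↦ w v w⁻¹` are equivariant for `K` (`hom_conj`), and there is an
equivariant map whose value at `ss` is fixed by `T W` (`exists_fixed_hom`).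
-/

set_option autoImplicit false

namespace Cfsg.Agent.Omega.IId.LFour

open Subgroup Cfsg Cfsg.Agent.ZN Cfsg.Agent.Omega.S5.Mod Cfsg.Agent.Omega.S5.TT
open Cfsg.Agent.Omega.S5.TT.Pos (s_ne)

universe u

variable {G : Type u} [Group G]

/-! ### The 5-cycle -/

/-- the 5-cycle -/
def c5 : Equiv.Perm (Fin 5) := ⟨fun i => i + 1, fun i => i - 1, by decide, by decide⟩

/-- rotation of labels -/
abbrev rot (x : Vec) : Vec := x ∘ c5.symm

theorem c5_pow : (c5⁻¹) ^ 24 = c5 := by decide +kernel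

theorem rot_surj : ∀ y : Vec, ∃ x : Vec, x + rot x = y ∨ x + rot x = y + 1 := by decide +kernel

theorem rot_sum : ∀ x : Vec, x + rot x + rot (rot x) + rot (rot (rot x)) + rot (rot (rot (rot x))) = 0 ∨
    x + rot x + rot (rot x) + rot (rot (rot x)) + rot (rot (rot (rot x))) = 1 := by decide +kernel

theorem rot_span : ∀ x y : Vec, x = 0 ∨ x = 1 ∨ ∃ b₀ b₁ b₂ b₃ : Bool,
    (cond b₀ x 0 + cond b₁ (rot x) 0 + cond b₂ (rot (rot x)) 0 + cond b₃ (rot (rot (rot x))) 0 = y ∨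
      cond b₀ x 0 + cond b₁ (rot x) 0 + cond b₂ (rot (rot x)) 0 + cond b₃ (rot (rot (rot x))) 0 = y + 1) := by
  decide +kernel

theorem ss_ne : ss ≠ 0 ∧ ss ≠ 1 := by decide

/-! ### Equivariant maps -/

/-- `c` induces a homomorphism of `V` into `G`, equivariant for `K`. -/
structure Hom5 {V L : Subgroup G} (M : FiveMod V L) (K : Subgroup G) (c : Vec → G) : Prop where
  add : ∀ x y, c (x + y) = c x * c y
  one : c 1 = 1
  eqv : ∀ g ∈ K, ∀ p, M.Ind g p → ∀ x, g * c x * g⁻¹ = c (x ∘ p.symm)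

namespace Hom5

variable {V L K : Subgroup G} {M : FiveMod V L} {c c' : Vec → G}

theorem zero (h : Hom5 M K c) : c 0 = 1 := by
  have := h.add 0 0
  rw [add_zero] at this
  exact mul_eq_left.1 this.symm

theorem sq (h : Hom5 M K c) (x : Vec) : c x * c x = 1 := by rw [← h.add, add_self, h.zero]

theorem inv (h : Hom5 M K c) (x : Vec) : (c x)⁻¹ = c x := inv_eq_of_mul_eq_one_left (h.sq x)

theorem comm (h : Hom5 M K c) (x y : Vec) : c x * c y = c y * c x := by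
  rw [← h.add, ← h.add, add_comm]

theorem add_one (h : Hom5 M K c) (x : Vec) : c (x + 1) = c x := by rw [h.add, h.one, mul_one]

theorem base (M : FiveMod V L) (K : Subgroup G) : Hom5 M K M.e where
  add := M.e_add
  one := M.e_one
  eqv _ _ _ hp x := hp x

theorem mul (h : Hom5 M K c) (h' : Hom5 M K c') (hc : ∀ x y, c x * c' y = c' y * c x) :
    Hom5 M K fun x => c x * c' x where
  add x y := by
    rw [h.add, h'.add]
    calc c x * c y * (c' x * c' y) = c x * (c y * c' x) * c' y := by group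
      _ = c x * c' x * (c y * c' y) := by rw [hc y x]; group
  one := by rw [h.one, h'.one, mul_one]
  eqv g hg p hp x := by
    rw [← h.eqv g hg p hp, ← h'.eqv g hg p hp]; group

theorem inv_hom (h : Hom5 M K c) : Hom5 M K fun x => (c x)⁻¹ := by
  have : (fun x => (c x)⁻¹) = c := funext h.inv
  rwa [this]

theorem triv (M : FiveMod V L) (K : Subgroup G) : Hom5 M K fun _ => 1 where
  add _ _ := (mul_one _).symm
  one := rfl
  eqv g _ _ _ _ := by group

/-- conjugation by an element commuting with `K` modulo the centralizer of the image -/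
theorem conj (h : Hom5 M K c) {w : G} (hw : ∀ g ∈ K, ∀ x, w⁻¹ * (g * w * g⁻¹) * c x = c x * (w⁻¹ * (g * w * g⁻¹))) :
    Hom5 M K fun x => w * c x * w⁻¹ where
  add x y := by rw [h.add]; group
  one := by rw [h.one]; group
  eqv g hg p hp x := by
    have h1 := hw g hg (x ∘ p.symm)
    calc g * (w * c x * w⁻¹) * g⁻¹ = w * ((w⁻¹ * (g * w * g⁻¹)) * (g * c x * g⁻¹)) * (g * w⁻¹ * g⁻¹) := by group
      _ = w * (c (x ∘ p.symm) * (w⁻¹ * (g * w * g⁻¹))) * (g * w⁻¹ * g⁻¹) := by rw [h.eqv g hg p hp, h1]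
      _ = w * c (x ∘ p.symm) * w⁻¹ := by group

/-- the action of an element normalising `K` and `V` -/
theorem twist (h : Hom5 M K c) {t : G} {q : Equiv.Perm (Fin 5)} (hq : M.Ind t q)
    (ht : ∀ g ∈ K, t⁻¹ * g * t ∈ K) : Hom5 M K fun x => t * c (x ∘ q) * t⁻¹ where
  add x y := by
    have e : (x + y) ∘ q = x ∘ q + y ∘ q := rfl
    rw [e, h.add]; group
  one := by
    have e : (1 : Vec) ∘ q = 1 := rfl
    rw [e, h.one]; group
  eqv g hg p hp x := by
    have h1 : M.Ind (t⁻¹ * g * t) (q⁻¹ * p * q) := (hq.inv.mul hp).mul hq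
    have h2 := h.eqv _ (ht g hg) _ h1 (x ∘ q)
    have e : (x ∘ q) ∘ (q⁻¹ * p * q).symm = (x ∘ p.symm) ∘ q := by
      funext i
      change x (q ((q⁻¹ * p * q)⁻¹ i)) = x (p⁻¹ (q i))
      rw [← Equiv.Perm.mul_apply, ← Equiv.Perm.mul_apply]
      congr 2
      group
    rw [e] at h2
    rw [← h2]; group

/-- a subgroup normalised by a 5-cycle which contains one value contains all -/
theorem mem_of_mem (h : Hom5 M K c) {g : G} (hg : g ∈ K) (hi : M.Ind g c5) {X : Subgroup G}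
    (hX : ∀ u ∈ X, g * u * g⁻¹ ∈ X) {x : Vec} (hx0 : x ≠ 0) (hx1 : x ≠ 1) (hx : c x ∈ X) (y : Vec) :
    c y ∈ X := by
  have key : ∀ z, c z ∈ X → c (rot z) ∈ X := by
    intro z hz
    rw [← h.eqv g hg c5 hi]
    exact hX _ hz
  have key2 : ∀ (b : Bool) (z : Vec), c z ∈ X → c (cond b z 0) ∈ X := by
    intro b z hz
    cases b
    · exact (congrArg (· ∈ X) h.zero).mpr (one_mem X)
    · exact hz
  rcases rot_span x y with h0 | h0 | ⟨b₀, b₁, b₂, b₃, h1⟩
  · exact absurd h0 hx0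
  · exact absurd h0 hx1
  · have h2 : c (cond b₀ x 0 + cond b₁ (rot x) 0 + cond b₂ (rot (rot x)) 0 + cond b₃ (rot (rot (rot x))) 0) ∈ X := by
      rw [h.add, h.add, h.add]
      exact X.mul_mem (X.mul_mem (X.mul_mem (key2 _ _ hx) (key2 _ _ (key _ hx)))
        (key2 _ _ (key _ (key _ hx)))) (key2 _ _ (key _ (key _ (key _ hx))))
    rcases h1 with h1 | h1
    · rwa [h1] at h2
    · rwa [h1, h.add_one] at h2

/-- if one value is `1` then all are -/
theorem eq_one_of_eq_one (h : Hom5 M K c) {g : G} (hg : g ∈ K) (hi : M.Ind g c5)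
    {x : Vec} (hx0 : x ≠ 0) (hx1 : x ≠ 1) (hx : c x = 1) (y : Vec) : c y = 1 := by
  have := h.mem_of_mem hg hi (X := ⊥) (fun u hu => by rw [mem_bot.1 hu]; simp) hx0 hx1 (mem_bot.2 hx) y
  exact mem_bot.1 this

/-- a value fixed by a 5-cycle is `1` -/
theorem eq_one_of_fixed (h : Hom5 M K c) {g : G} (hg : g ∈ K) (hi : M.Ind g c5) {x : Vec}
    (hx : g * c x = c x * g) : c x = 1 := by
  have h1 : c (rot x) = c x := by
    rw [← h.eqv g hg c5 hi, hx, mul_inv_cancel_right]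
  have h2 : c (rot (rot x)) = c x := by
    have := h.eqv g hg c5 hi (rot x)
    rw [h1, hx, mul_inv_cancel_right] at this
    exact this.symm
  have h3 : c (rot (rot (rot x))) = c x := by
    have := h.eqv g hg c5 hi (rot (rot x))
    rw [h2, hx, mul_inv_cancel_right] at this
    exact this.symm
  have h4 : c (rot (rot (rot (rot x)))) = c x := by
    have := h.eqv g hg c5 hi (rot (rot (rot x)))
    rw [h3, hx, mul_inv_cancel_right] at this
    exact this.symm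
  have h5 : c (x + rot x + rot (rot x) + rot (rot (rot x)) + rot (rot (rot (rot x)))) = 1 := by
    rcases rot_sum x with h5 | h5
    · rw [h5, h.zero]
    · rw [h5, h.one]
  rw [h.add, h.add, h.add, h.add, h1, h2, h3, h4] at h5
  calc c x = (c x * c x) * (c x * c x) * c x := by rw [h.sq, one_mul, one_mul]
    _ = c x * c x * c x * c x * c x := by group
    _ = 1 := h5

/-- `V ≤ K` commutes with the values -/
theorem comm_of_mem (h : Hom5 M K c) {v : G} (hvK : v ∈ K) (hv : v ∈ V) (x : Vec) :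
    v * c x = c x * v := by
  have h1 : M.Ind v 1 := FiveMod.ind_one_iff.2 (mem_centralizer_iff.2 fun u hu => M.comm hu hv)
  have h2 := h.eqv v hvK 1 h1 x
  have e : x ∘ (1 : Equiv.Perm (Fin 5)).symm = x := rfl
  rw [e, mul_inv_eq_iff_eq_mul] at h2
  exact h2

end Hom5

/-! ### Elements of `L` acting trivially on `W / W₀` -/

/-- The elements of `L` acting trivially on `W / W₀`. -/
def Ker (L W W₀ : Subgroup G) : Subgroup G where
  carrier := {g | g ∈ L ∧ g ∈ normalizer (W : Set G) ∧ ∀ w ∈ W, w⁻¹ * (g * w * g⁻¹) ∈ W₀}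
  mul_mem' := by
    rintro g h ⟨hg, hgW, hg0⟩ ⟨hh, hhW, hh0⟩
    refine ⟨mul_mem hg hh, mul_mem hgW hhW, fun w hw => ?_⟩
    have h1 : h * w * h⁻¹ ∈ W := (mem_normalizer_iff.1 hhW w).1 hw
    have h2 := mul_mem (hh0 w hw) (hg0 _ h1)
    have e : w⁻¹ * (h * w * h⁻¹) * ((h * w * h⁻¹)⁻¹ * (g * (h * w * h⁻¹) * g⁻¹)) =
        w⁻¹ * (g * h * w * (g * h)⁻¹) := by group
    rwa [e] at h2
  one_mem' := ⟨one_mem _, one_mem _, fun w _ => by
    have e : w⁻¹ * (1 * w * 1⁻¹) = 1 := by group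
    rw [e]; exact one_mem _⟩
  inv_mem' := by
    rintro g ⟨hg, hgW, hg0⟩
    refine ⟨inv_mem hg, inv_mem hgW, fun w hw => ?_⟩
    have h1 : g⁻¹ * w * g⁻¹⁻¹ ∈ W := (mem_normalizer_iff.1 (inv_mem hgW) w).1 hw
    have h2 := inv_mem (hg0 _ h1)
    have e : ((g⁻¹ * w * g⁻¹⁻¹)⁻¹ * (g * (g⁻¹ * w * g⁻¹⁻¹) * g⁻¹))⁻¹ = w⁻¹ * (g⁻¹ * w * g⁻¹⁻¹) := by group
    rwa [e] at h2

variable {V L W W₀ : Subgroup G}

theorem mem_Ker {g : G} : g ∈ Ker L W W₀ ↔
    g ∈ L ∧ g ∈ normalizer (W : Set G) ∧ ∀ w ∈ W, w⁻¹ * (g * w * g⁻¹) ∈ W₀ := Iff.rfl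

theorem Ker_le : Ker L W W₀ ≤ L := fun _ h => h.1

theorem Ker_conj {t g : G} (htL : t ∈ normalizer (L : Set G)) (htW : t ∈ normalizer (W : Set G))
    (ht0 : t ∈ normalizer (W₀ : Set G)) (hg : g ∈ Ker L W W₀) : t * g * t⁻¹ ∈ Ker L W W₀ := by
  refine ⟨(mem_normalizer_iff.1 htL g).1 hg.1, mul_mem (mul_mem htW hg.2.1) (inv_mem htW), fun w hw => ?_⟩
  have h1 : t⁻¹ * w * t⁻¹⁻¹ ∈ W := (mem_normalizer_iff.1 (inv_mem htW) w).1 hw
  have h2 := (mem_normalizer_iff.1 ht0 _).1 (hg.2.2 _ h1)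
  have e : t * ((t⁻¹ * w * t⁻¹⁻¹)⁻¹ * (g * (t⁻¹ * w * t⁻¹⁻¹) * g⁻¹)) * t⁻¹ =
      w⁻¹ * (t * g * t⁻¹ * w * (t * g * t⁻¹)⁻¹) := by group
  rwa [e] at h2

theorem Ker_conj' {t g : G} (htL : t ∈ normalizer (L : Set G)) (htW : t ∈ normalizer (W : Set G))
    (ht0 : t ∈ normalizer (W₀ : Set G)) (hg : g ∈ Ker L W W₀) : t⁻¹ * g * t ∈ Ker L W W₀ := by
  have := Ker_conj (inv_mem htL) (inv_mem htW) (inv_mem ht0) hg
  rwa [inv_inv] at this

/-- `g ^ 24` acts trivially on `W / W₀` if `|W : W₀| ≤ 4`. -/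
theorem pow_mem_Ker [Finite G] (hW₀ : W₀ ≤ W) (hLW : L ≤ normalizer (W : Set G))
    (hL0 : L ≤ normalizer (W₀ : Set G)) (hcard : Nat.card W ≤ 4 * Nat.card W₀) {g : G} (hg : g ∈ L) :
    g ^ 24 ∈ Ker L W W₀ := by
  classical
  let X := W ⧸ W₀.subgroupOf W
  have hX : Nat.card X ≤ 4 := by
    have h1 : Nat.card W₀ * W₀.relIndex W = Nat.card W := Half.card_mul_relIndex hW₀
    have h2 : Nat.card X = W₀.relIndex W := rfl
    rw [h2]
    by_contra h3
    push Not at h3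
    have h4 : 4 * Nat.card W₀ < Nat.card W₀ * W₀.relIndex W := by
      rw [mul_comm]
      exact Nat.mul_lt_mul_of_pos_left h3 Nat.card_pos
    omega
  let f : L → X → X := fun l => Quotient.map' (fun w : W => (⟨(l : G) * w * (l : G)⁻¹,
    (mem_normalizer_iff.1 (hLW l.2) _).1 w.2⟩ : W)) (by
      intro a b hab
      rw [QuotientGroup.leftRel_apply] at hab ⊢
      rw [mem_subgroupOf] at hab ⊢
      have h1 := (mem_normalizer_iff.1 (hL0 l.2) _).1 hab
      have e : (l : G) * ((a⁻¹ * b : W) : G) * (l : G)⁻¹ =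
          ((⟨(l : G) * a * (l : G)⁻¹, (mem_normalizer_iff.1 (hLW l.2) _).1 a.2⟩ : W)⁻¹ *
            (⟨(l : G) * b * (l : G)⁻¹, (mem_normalizer_iff.1 (hLW l.2) _).1 b.2⟩ : W) : W) := by
        push_cast
        group
      rwa [e] at h1)
  let _ : MulAction L X :=
    { smul := f
      one_smul := by
        intro x
        induction x using Quotient.inductionOn'
        rename_i a
        change Quotient.mk'' _ = _
        congr 1
        apply Subtype.ext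
        simp
      mul_smul := by
        intro l l' x
        induction x using Quotient.inductionOn'
        rename_i a
        change Quotient.mk'' _ = Quotient.mk'' _
        congr 1
        apply Subtype.ext
        simp [mul_assoc] }
  let φ : L →* Equiv.Perm X := MulAction.toPermHom L X
  have h24 : Nat.card (Equiv.Perm X) ∣ 24 := by
    rw [Nat.card_perm]
    exact Nat.factorial_dvd_factorial hX
  have h1 : φ (⟨g, hg⟩ ^ 24) = 1 := by
    rw [map_pow]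
    obtain ⟨k, hk⟩ := h24
    rw [hk, pow_mul, pow_card_eq_one', one_pow]
  refine ⟨pow_mem hg 24, hLW (pow_mem hg 24), fun w hw => ?_⟩
  have h2 : φ (⟨g, hg⟩ ^ 24) (Quotient.mk'' (⟨w, hw⟩ : W)) = Quotient.mk'' (⟨w, hw⟩ : W) := by
    rw [h1]; rfl
  have h3 : (Quotient.mk'' (⟨w, hw⟩ : W) : X) = Quotient.mk'' (⟨g ^ 24 * w * (g ^ 24)⁻¹,
      (mem_normalizer_iff.1 (hLW (pow_mem hg 24)) _).1 hw⟩ : W) := h2.symm
  rw [Quotient.eq'', QuotientGroup.leftRel_apply, mem_subgroupOf] at h3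
  simpa using h3

end Cfsg.Agent.Omega.IId.LFour

end

section


/-!
# An equivariant map fixed by `T W` (project OMEGA, II.d L4)
-/

set_option autoImplicit false

namespace Cfsg.Agent.Omega.IId.LFour

open Subgroup Cfsg Cfsg.Agent.ZN Cfsg.Agent.Omega.S5.Mod Cfsg.Agent.Omega.S5.TT
open Cfsg.Agent.Omega.S5.TT.Pos (s_ne)

universe u

variable {G : Type u} [Group G]

/-- `L` acts on `W / W₀`, `|W : W₀| ≤ 4`, `W₀ ≤ C(V)`. -/
structure QD {V L : Subgroup G} (M : FiveMod V L) (W W₀ : Subgroup G) : Prop where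
  VL : V ≤ L
  LW : L ≤ normalizer (W : Set G)
  W₀W : W₀ ≤ W
  L0 : L ≤ normalizer (W₀ : Set G)
  W₀V : W₀ ≤ centralizer (V : Set G)
  card : Nat.card W ≤ 4 * Nat.card W₀

namespace QD

variable {V L W W₀ : Subgroup G} {M : FiveMod V L}

theorem exists_five [Finite G] (h : QD M W W₀) : ∃ g ∈ Ker L W W₀, M.Ind g c5 := by
  obtain ⟨l, hl, hi⟩ := M.exists_lift c5⁻¹
  refine ⟨l ^ 24, pow_mem_Ker h.W₀W h.LW h.L0 h.card hl, ?_⟩
  have key : ∀ n : ℕ, M.Ind (l ^ n) (c5⁻¹ ^ n) := by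
    intro n
    induction n with
    | zero => rw [pow_zero, pow_zero]; exact M.ind_one
    | succ n ih => rw [pow_succ, pow_succ]; exact ih.mul hi
  have h1 := key 24
  rwa [c5_pow] at h1

theorem V_le_Ker [Finite G] (h : QD M W W₀) : V ≤ Ker L W W₀ := by
  intro v hv
  obtain ⟨g, hg, hi⟩ := h.exists_five
  obtain ⟨y, rfl⟩ := (M.mem_iff v).1 hv
  obtain ⟨x, hx⟩ := rot_surj y
  have hxL : M.e x ∈ L := h.VL (M.e_mem x)
  have h1 : M.e x * g * (M.e x)⁻¹ ∈ Ker L W W₀ :=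
    Ker_conj (le_normalizer hxL) (h.LW hxL) (h.L0 hxL) hg
  have h2 := mul_mem h1 (inv_mem hg)
  have e : M.e x * g * (M.e x)⁻¹ * g⁻¹ = M.e y := by
    calc M.e x * g * (M.e x)⁻¹ * g⁻¹ = M.e x * (g * M.e x * g⁻¹) := by rw [M.e_inv]; group
      _ = M.e (x + rot x) := by rw [hi, M.e_add]
      _ = M.e y := by rw [M.e_eq_iff]; exact hx
  rwa [e] at h2

theorem key {g w w' : G} (hg : g ∈ Ker L W W₀) (hw : w ∈ W) (hw' : w' ∈ W) :
    w'⁻¹ * (w⁻¹ * (g * w * g⁻¹)) * w' ∈ W₀ := by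
  have h1 := mul_mem (hg.2.2 _ (mul_mem hw hw')) (inv_mem (hg.2.2 _ hw'))
  have e : (w * w')⁻¹ * (g * (w * w') * g⁻¹) * (w'⁻¹ * (g * w' * g⁻¹))⁻¹ =
      w'⁻¹ * (w⁻¹ * (g * w * g⁻¹)) * w' := by group
  rwa [e] at h1

theorem hom_conj (h : QD M W W₀) {w : G} (hw : w ∈ W) :
    Hom5 M (Ker L W W₀) fun x => w * M.e x * w⁻¹ :=
  (Hom5.base M _).conj fun g hg x =>
    (mem_centralizer_iff.1 (h.W₀V (hg.2.2 w hw)) _ (M.e_mem x)).symm

theorem comm_conj [Finite G] (h : QD M W W₀) {w w' : G} (hw : w ∈ W) (hw' : w' ∈ W) (x y : Vec) :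
    w * M.e x * w⁻¹ * (w' * M.e y * w'⁻¹) = w' * M.e y * w'⁻¹ * (w * M.e x * w⁻¹) := by
  have h1 := (h.hom_conj (mul_mem (inv_mem hw) hw')).comm_of_mem (h.V_le_Ker (M.e_mem x)) (M.e_mem x) y
  calc w * M.e x * w⁻¹ * (w' * M.e y * w'⁻¹) =
      w * (M.e x * (w⁻¹ * w' * M.e y * (w⁻¹ * w')⁻¹)) * w⁻¹ := by group
    _ = w * ((w⁻¹ * w' * M.e y * (w⁻¹ * w')⁻¹) * M.e x) * w⁻¹ := by rw [h1]
    _ = w' * M.e y * w'⁻¹ * (w * M.e x * w⁻¹) := by group

/-- `⟨V^W⟩` -/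
def UU (M : FiveMod V L) (W : Subgroup G) : Subgroup G :=
  closure {u | ∃ w ∈ W, ∃ x, u = w * M.e x * w⁻¹}

theorem mem_UU {w : G} (hw : w ∈ W) (x : Vec) : w * M.e x * w⁻¹ ∈ UU M W :=
  subset_closure ⟨w, hw, x, rfl⟩

theorem UU_comm [Finite G] (h : QD M W W₀) {u u' : G} (hu : u ∈ UU M W) (hu' : u' ∈ UU M W) :
    u * u' = u' * u := by
  have h1 : UU M W ≤ centralizer {u | ∃ w ∈ W, ∃ x, u = w * M.e x * w⁻¹} := by
    rw [UU, closure_le]
    rintro _ ⟨w, hw, x, rfl⟩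
    refine mem_centralizer_iff.2 ?_
    rintro _ ⟨w', hw', y, rfl⟩
    exact h.comm_conj hw' hw y x
  have h2 : UU M W ≤ centralizer (UU M W : Set G) := by
    rw [UU, closure_le]
    intro s hs
    refine mem_centralizer_iff.2 fun g hg => ?_
    exact (mem_centralizer_iff.1 (h1 hg) s hs).symm
  exact (mem_centralizer_iff.1 (h2 hu) u' hu').symm

theorem UU_conj_w {w u : G} (hw : w ∈ W) (hu : u ∈ UU M W) : w * u * w⁻¹ ∈ UU M W := by
  have h1 : UU M W ≤ (UU M W).comap (MulAut.conj w).toMonoidHom := by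
    rw [UU, closure_le]
    rintro _ ⟨w', hw', x, rfl⟩
    change w * (w' * M.e x * w'⁻¹) * w⁻¹ ∈ UU M W
    have e : w * (w' * M.e x * w'⁻¹) * w⁻¹ = w * w' * M.e x * (w * w')⁻¹ := by group
    rw [e]
    exact mem_UU (mul_mem hw hw') x
  exact h1 hu

theorem UU_conj_t {t u : G} (htW : t ∈ normalizer (W : Set G)) {q : Equiv.Perm (Fin 5)} (hq : M.Ind t q)
    (hu : u ∈ UU M W) : t * u * t⁻¹ ∈ UU M W := by
  have h1 : UU M W ≤ (UU M W).comap (MulAut.conj t).toMonoidHom := by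
    rw [UU, closure_le]
    rintro _ ⟨w', hw', x, rfl⟩
    change t * (w' * M.e x * w'⁻¹) * t⁻¹ ∈ UU M W
    have e : t * (w' * M.e x * w'⁻¹) * t⁻¹ = (t * w' * t⁻¹) * (t * M.e x * t⁻¹) * (t * w' * t⁻¹)⁻¹ := by group
    rw [e, hq]
    exact mem_UU ((mem_normalizer_iff.1 htW _).1 hw') _
  exact h1 hu

theorem hom_conj' (h : QD M W W₀) {w : G} (hw : w ∈ W) {c : Vec → G}
    (hc : Hom5 M (Ker L W W₀) c) (hcU : ∀ x, c x ∈ UU M W) :
    Hom5 M (Ker L W W₀) fun x => w * c x * w⁻¹ := by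
  refine hc.conj fun g hg x => ?_
  have h1 : UU M W ≤ centralizer {w⁻¹ * (g * w * g⁻¹)} := by
    rw [UU, closure_le]
    rintro _ ⟨w', hw', y, rfl⟩
    refine mem_centralizer_iff.2 ?_
    rintro _ rfl
    have h2 := mem_centralizer_iff.1 (h.W₀V (key hg hw hw')) _ (M.e_mem y)
    calc w⁻¹ * (g * w * g⁻¹) * (w' * M.e y * w'⁻¹) =
        w' * ((w'⁻¹ * (w⁻¹ * (g * w * g⁻¹)) * w') * M.e y) * w'⁻¹ := by group
      _ = w' * (M.e y * (w'⁻¹ * (w⁻¹ * (g * w * g⁻¹)) * w')) * w'⁻¹ := by rw [h2]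
      _ = w' * M.e y * w'⁻¹ * (w⁻¹ * (g * w * g⁻¹)) := by group
  exact mem_centralizer_iff.1 (h1 (hcU x)) _ rfl

/-- the values at `ss` of the equivariant maps `V → ⟨V^W⟩` -/
def CC [Finite G] (h : QD M W W₀) : Subgroup G where
  carrier := {u | ∃ c, Hom5 M (Ker L W W₀) c ∧ (∀ x, c x ∈ UU M W) ∧ c ss = u}
  mul_mem' := by
    rintro _ _ ⟨c, hc, hcU, rfl⟩ ⟨c', hc', hcU', rfl⟩
    exact ⟨fun x => c x * c' x, hc.mul hc' fun x y => h.UU_comm (hcU x) (hcU' y),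
      fun x => mul_mem (hcU x) (hcU' x), rfl⟩
  one_mem' := ⟨fun _ => 1, Hom5.triv _ _, fun _ => one_mem _, rfl⟩
  inv_mem' := by
    rintro _ ⟨c, hc, hcU, rfl⟩
    exact ⟨fun x => (c x)⁻¹, hc.inv_hom, fun x => inv_mem (hcU x), rfl⟩

theorem ss_mem_CC [Finite G] (h : QD M W W₀) : M.e ss ∈ h.CC := by
  refine ⟨M.e, Hom5.base _ _, fun x => ?_, rfl⟩
  have := mem_UU (M := M) (one_mem W) x
  simpa using this

/-- **A map fixed by `T W`.** -/
theorem exists_fixed_hom [Finite G] (h : QD M W W₀) {T : Subgroup G} (hT2 : IsPGroup 2 (T ⊔ W : Subgroup G))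
    (hTL : T ≤ normalizer (L : Set G)) (hTW : T ≤ normalizer (W : Set G))
    (hT0 : T ≤ normalizer (W₀ : Set G)) (hT : ∀ t ∈ T, ∃ q, M.Ind t q ∧ ss ∘ q = ss) :
    ∃ c, Hom5 M (Ker L W W₀) c ∧ (∀ x, c x ∈ UU M W) ∧ c ss ≠ 1 ∧
      ∀ g ∈ T ⊔ W, g * c ss = c ss * g := by
  have hC2 : IsPGroup 2 h.CC := by
    rintro ⟨u, hu⟩
    refine ⟨1, Subtype.ext ?_⟩
    obtain ⟨c, hc, -, rfl⟩ := hu
    change (c ss) ^ (2 ^ 1) = 1
    rw [pow_one, pow_two]
    exact hc.sq ss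
  have hC1 : h.CC ≠ ⊥ := by
    intro h0
    have h1 := h.ss_mem_CC
    rw [h0, mem_bot] at h1
    exact s_ne M h1
  have hn : T ⊔ W ≤ normalizer (h.CC : Set G) := by
    refine sup_le (fun t ht => ?_) fun w hw => ?_
    · refine MinSimple.VModule.mem_normalizer_of_map_le ?_
      rintro _ ⟨_, ⟨c, hc, hcU, rfl⟩, rfl⟩
      obtain ⟨q, hq, hqs⟩ := hT t ht
      refine ⟨fun x => t * c (x ∘ q) * t⁻¹, hc.twist hq fun g hg =>
        Ker_conj' (hTL ht) (hTW ht) (hT0 ht) hg, fun x => UU_conj_t (hTW ht) hq (hcU _), ?_⟩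
      change t * c (ss ∘ q) * t⁻¹ = t * c ss * t⁻¹
      rw [hqs]
    · refine MinSimple.VModule.mem_normalizer_of_map_le ?_
      rintro _ ⟨_, ⟨c, hc, hcU, rfl⟩, rfl⟩
      exact ⟨fun x => w * c x * w⁻¹, h.hom_conj' hw hc hcU, fun x => UU_conj_w hw (hcU x), rfl⟩
  obtain ⟨u, ⟨c, hc, hcU, rfl⟩, hu1, hu⟩ := Half.exists_fixed hC2 hC1 hT2 hn
  exact ⟨c, hc, hcU, hu1, fun g hg => by
    have := hu g hg
    rwa [mul_inv_eq_iff_eq_mul] at this⟩

end QD

end Cfsg.Agent.Omega.IId.LFour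

end

section


/-!
# `Wr` from `FFThm.SymK` with `k = m = 2` (project OMEGA, II.d L4)
-/

set_option autoImplicit false

namespace Cfsg.Agent.Omega.IId.LFour

open Subgroup Pointwise Cfsg Cfsg.Agent.ZN Cfsg.Agent.Omega.MinPar Cfsg.Agent.Omega.FFThm
open Cfsg.Agent.ZN.ChoiceBase (cj mem_cj)
open Cfsg.Agent.Omega.S5.Mod Cfsg.Agent.Omega.S5.TT
open Cfsg.Agent.Omega.Half (Amb amb_of_loc)
open Cfsg.Agent.Omega.IId.LFour.SymF

universe u

variable {G : Type u} [Group G] [Finite G]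

/-- Labels of `V` such that `T` induces `D₈ = C((0 1)(2 3))` on `V` (`S5.Types.exists_relabel` for a Sylow
2-subgroup `T` of `L`). -/
theorem exists_relabel {V L T : Subgroup G} (M : FiveMod V L) (hT : IsPGroup 2 T) (hTL : T ≤ L)
    (hsy : ¬ 2 ∣ T.relIndex L) : ∃ σ : Equiv.Perm (Fin 5),
      (∀ g ∈ T, ∀ p, (M.relabel σ).Ind g p → p * dd = dd * p) ∧
      (∀ p, p * dd = dd * p → ∃ g ∈ T, (M.relabel σ).Ind g p) := by
  have : Fact (Nat.Prime 2) := ⟨Nat.prime_two⟩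
  set S1 : Sylow 2 L := (hT.comap_of_injective _ L.subtype_injective).toSylow hsy with hS1
  set P : Sylow 2 (Equiv.Perm (Fin 5)) := S1.mapSurjective M.pi_surjective with hP
  -- the centralizer of `dd`
  set D : Subgroup (Equiv.Perm (Fin 5)) := centralizer ({dd} : Set (Equiv.Perm (Fin 5))) with hD
  have hDcard : Nat.card D = 8 := by
    have h1 : Nat.card D = (Finset.univ.filter fun p : Equiv.Perm (Fin 5) => p * dd = dd * p).card := by
      rw [← Fintype.card_subtype, ← Nat.card_eq_fintype_card]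
      refine Nat.card_congr (Equiv.subtypeEquivRight fun p => ?_)
      exact mem_centralizer_singleton_iff
    rw [h1, S5.Types.card_D8]
  have hDp : IsPGroup 2 D := IsPGroup.of_card (n := 3) (by rw [hDcard]; norm_num)
  obtain ⟨Q, hQ⟩ := hDp.exists_le_sylow
  obtain ⟨τ, hτ⟩ := MulAction.exists_smul_eq (Equiv.Perm (Fin 5)) P Q
  have hQcard : Nat.card Q = 8 := by
    have h1 : Nat.card Q = 2 ^ (Nat.card (Equiv.Perm (Fin 5))).factorization 2 :=
      Q.card_eq_multiplicity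
    have h2 : Nat.card (Equiv.Perm (Fin 5)) = 120 := by
      rw [Nat.card_eq_fintype_card, Fintype.card_perm, Fintype.card_fin]; rfl
    have h3 : (120 : ℕ).factorization 2 = 3 := by
      have : (120 : ℕ) = 2 ^ 3 * 15 := by norm_num
      rw [this, Nat.factorization_mul (by norm_num) (by norm_num),
        Nat.Prime.factorization_pow Nat.prime_two]
      simp [Nat.factorization_eq_zero_of_not_dvd (show ¬ 2 ∣ 15 by norm_num)]
    rw [h1, h2, h3]; norm_num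
  have hQD : (Q : Subgroup (Equiv.Perm (Fin 5))) = D :=
    (Subgroup.eq_of_le_of_card_ge hQ (by rw [hDcard]; exact hQcard.le)).symm
  have hPmem : ∀ p, p ∈ (P : Subgroup (Equiv.Perm (Fin 5))) ↔ ∃ g ∈ T, M.Ind g p := by
    intro p
    constructor
    · intro hp
      have hp' : p ∈ (S1 : Subgroup L).map M.pi := hp
      obtain ⟨g, hg, rfl⟩ := hp'
      exact ⟨g, mem_subgroupOf.1 hg, M.pi_spec g⟩
    · rintro ⟨g, hg, hi⟩
      have h1 : M.pi ⟨g, hTL hg⟩ ∈ (S1 : Subgroup L).map M.pi :=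
        ⟨⟨g, hTL hg⟩, mem_subgroupOf.2 hg, rfl⟩
      rw [M.pi_eq (g := ⟨g, hTL hg⟩) hi] at h1
      exact h1
  have hQmem : ∀ p, p * dd = dd * p ↔ τ⁻¹ * p * τ ∈ (P : Subgroup (Equiv.Perm (Fin 5))) := by
    intro p
    have h0 : p * dd = dd * p ↔ p ∈ D := mem_centralizer_singleton_iff.symm
    rw [h0, ← hQD, ← hτ, Sylow.coe_subgroup_smul]
    change p ∈ (P : Subgroup (Equiv.Perm (Fin 5))).map (MulAut.conj τ).toMonoidHom ↔ _
    exact mem_cj
  refine ⟨τ⁻¹, ?_, ?_⟩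
  · intro g hg p hp
    have h1 := FiveMod.ind_of_relabel τ⁻¹ hp
    rw [inv_inv] at h1
    rw [hQmem, hPmem]
    exact ⟨g, hg, h1⟩
  · intro p hp
    rw [hQmem, hPmem] at hp
    obtain ⟨g, hg, hi⟩ := hp
    refine ⟨g, hg, ?_⟩
    have h1 := FiveMod.relabel_ind τ⁻¹ hi
    have e : τ⁻¹⁻¹ * (τ⁻¹ * p * τ) * τ⁻¹ = p := by group
    rwa [e] at h1

variable {T H V : Subgroup G} {k : ℕ} (M : SymK T H V ⊥ k 2) (hA : Amb T H V)

/-- the `i`-th summand as a `FiveMod` -/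
noncomputable def md (i : Fin k) : FiveMod (fac M i) (grp M i) :=
  S5.OfEven.ofEven (evenSet M (by norm_num) hA i)

theorem md_e (i : Fin k) : (md M hA i).e = lab M (by norm_num) i := rfl

theorem cof_eq {T H V : Subgroup G} {m : ℕ} (M : SymK T H V ⊥ 2 m) {i j : Fin 2} (hij : i ≠ j) :
    cof M i = fac M j := by
  apply le_antisymm
  · rintro v ⟨hv, h1⟩
    refine ⟨hv, fun l hl => ?_⟩
    have h2 : l = i := by omega
    rw [h2, h1]
  · exact fac_le_cof M hij.symm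

/-- **`Wr` from `SymK`.** -/
theorem exists_wr (hG : IsCharacteristicTwoType G) (S : Sylow 2 G) {P : Subgroup G}
    (hP : IsParS (S : Subgroup G) P) (M : SymK (S : Subgroup G) P (zl (S : Subgroup G) P) ⊥ 2 2)
    {i j : Fin 2} (hij : i ≠ j) : ∃ σ₁ σ₂ : Equiv.Perm (Fin 5),
      Wr S P ((md M (amb_of_loc hG S hP.isLoc) i).relabel σ₁)
        ((md M (amb_of_loc hG S hP.isLoc) j).relabel σ₂) := by
  have hA := amb_of_loc hG S hP.isLoc
  have hSy : ¬ 2 ∣ (S : Subgroup G).relIndex P := MinSimple.Basic.not_dvd_relIndex S hP.isLoc.le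
  have key : ∀ l : Fin 2, ∃ σ : Equiv.Perm (Fin 5),
      (∀ g ∈ (S : Subgroup G) ⊓ grp M l, ∀ p, ((md M hA l).relabel σ).Ind g p → p * dd = dd * p) ∧
      (∀ p, p * dd = dd * p → ∃ g ∈ (S : Subgroup G) ⊓ grp M l, ((md M hA l).relabel σ).Ind g p) := by
    intro l
    refine exists_relabel (md M hA l) (S.isPGroup'.to_le inf_le_left) inf_le_right ?_
    rw [inf_comm]
    exact not_dvd_grp M (by norm_num) hA hSy l
  obtain ⟨σ₁, d₁, d₁'⟩ := key i
  obtain ⟨σ₂, d₂, d₂'⟩ := key j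
  -- the labels
  have hlab : ∀ (l : Fin 2) (σ : Equiv.Perm (Fin 5)) (x : Vec), ((md M hA l).relabel σ).e x =
      lab M (by norm_num) l (x ∘ σ.symm) := fun l σ x => rfl
  have hconj : ∀ {g : G} (_ : g ∈ P) {σ : Equiv.Perm (Fin 2)} {τ : Fin 2 → Equiv.Perm (Fin 5)}
      (_ : ActsSym M.e (zl (S : Subgroup G) P) g σ τ) (l : Fin 2) (ρ ρ' : Equiv.Perm (Fin 5)) (x : Vec),
      g * ((md M hA l).relabel ρ).e x * g⁻¹ = ((md M hA (σ l)).relabel ρ').e
        (x ∘ (ρ'⁻¹ * τ l * ρ).symm) := by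
    intro g hg σ τ h l ρ ρ' x
    rw [hlab, hlab, conj_lab M _ (hA.HV hg) h]
    congr 1
    funext z
    change x (ρ⁻¹ ((τ l)⁻¹ z)) = x ((ρ'⁻¹ * τ l * ρ)⁻¹ (ρ'⁻¹ z))
    rw [← Equiv.Perm.mul_apply, ← Equiv.Perm.mul_apply]
    congr 2
    group
  have hsw : ∀ {g : G} (_ : g ∈ P) {σ : Equiv.Perm (Fin 2)} {τ : Fin 2 → Equiv.Perm (Fin 5)}
      (_ : ActsSym M.e (zl (S : Subgroup G) P) g σ τ) (_ : σ i = j),
      ∃ p q, Sw ((md M hA i).relabel σ₁) ((md M hA j).relabel σ₂) g p q := by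
    intro g hg σ τ h hσ
    have hσj : σ j = i := by
      have h1 : σ j ≠ j := fun h0 => hij (σ.injective (hσ.trans h0.symm))
      omega
    refine ⟨σ₂⁻¹ * τ i * σ₁, σ₁⁻¹ * τ j * σ₂, fun x => ?_, fun x => ?_⟩
    · have h1 := hconj hg h i σ₁ σ₂ x
      rw [h1]
      exact congrArg (fun l => ((md M hA l).relabel σ₂).e (x ∘ (σ₂⁻¹ * τ i * σ₁).symm)) hσ
    · have h1 := hconj hg h j σ₂ σ₁ x
      rw [h1]
      exact congrArg (fun l => ((md M hA l).relabel σ₁).e (x ∘ (σ₁⁻¹ * τ j * σ₂).symm)) hσj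
  refine ⟨σ₁, σ₂, ⟨hG, hP, ?_, ?_, ?_, ?_, ?_, ?_, d₁, d₁', d₂, d₂'⟩⟩
  · rw [← cof_eq M hij]; rfl
  · rw [← cof_eq M hij.symm]; rfl
  · rw [← cof_eq M hij]; exact (sup_eq M i).symm
  · rw [← cof_eq M hij]; exact fac_inf_cof M i
  · intro g hg
    obtain ⟨σ, τ, h⟩ := M.perm g hg
    by_cases hσ : σ i = i
    · left
      have hσj : σ j = j := by
        have h1 : σ j ≠ i := fun h0 => hij (σ.injective (hσ.trans h0.symm))
        omega
      refine ⟨σ₁⁻¹ * τ i * σ₁, σ₂⁻¹ * τ j * σ₂, fun x => ?_, fun x => ?_⟩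
      · rw [hconj hg h i σ₁ σ₁ x]
        exact congrArg (fun l => ((md M hA l).relabel σ₁).e (x ∘ (σ₁⁻¹ * τ i * σ₁).symm)) hσ
      · rw [hconj hg h j σ₂ σ₂ x]
        exact congrArg (fun l => ((md M hA l).relabel σ₂).e (x ∘ (σ₂⁻¹ * τ j * σ₂).symm)) hσj
    · right
      exact hsw hg h (by omega)
  · obtain ⟨t, ht, σ, τ, h, hσ⟩ := M.trans i j
    obtain ⟨p, q, h1⟩ := hsw (hP.isLoc.le ht) h hσ
    exact ⟨t, ht, p, q, h1⟩

end Cfsg.Agent.Omega.IId.LFour

end
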