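import Cfsg.Agent.Mrg.Omega.FrameI
import Cfsg.Agent.MinSimple.VModule


/-!
# The functor `V^!` (#15805 (A), helper410), Lean: helper621

`T` a 2-group. `NN T V`: `V ≤ T` is an elementary abelian normal subgroup of `T` on which no subgroup of `T` offends
(image sense, `FFThm.OffM`). `bang T = V^!(T)` is the product of all members of `NN(T)`.

* `NN.best` : a best offender in `T` on a bigger group centralises `V` (1);
* `NN.comm_of`, `NN.sup` : (2), members commute and their product is a member; `nn_bang`, `NN.le_bang`;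
* `NN.mono` : `V ∈ NN(T)`, `V ≤ T₁ ≤ T` implies `V ∈ NN(T₁)`;
* `NN.of_cent` : `W ∈ NN(T)`, `W ≤ V' ◁ T`, `V' ∈ NN(C_T(W))` implies `V' ∈ NN(T)`;
* `bang_eq` : (3), `V^!(T₁) = V^!(T)` for `C_T(V^!(T)) ≤ T₁ ≤ T`; `bang_cent` : `V^!(C_T(W)) = V^!(T)`, `W ∈ NN(T)`;
* `zc_le_bang`, `bang_eq_zc` : `V = Ω₁(Z(C_T(V)))`;
* `NN.cj`, `bang_cj`, `normalizer_le_bang` : `V^!` is characteristic;
* `le_normalizer_bang` : (4), `N_G(T₁) ≤ N_G(V)` for `C_T(V) ≤ T₁ ≤ T`; `syl_of_syl` : Sylow control.
-/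

set_option autoImplicit false

namespace Cfsg.Agent.Omega.NO3b.Bang

open Subgroup Cfsg Cfsg.Agent.ZN Cfsg.Agent.ZN.ChoiceBase Cfsg.Agent.Omega.FFThm
open Cfsg.Agent.Omega.NO1.BestOff (Best exists_best)

universe u

variable {G : Type u} [Group G]

/-- `V ∈ NN(T)` -/
structure NN (T V : Subgroup G) : Prop where
  le : V ≤ T
  norm : T ≤ normalizer (V : Set G)
  comm : V ≤ centralizer (V : Set G)
  sq : ∀ v ∈ V, v ^ 2 = 1
  nff : ∀ A : Subgroup G, A ≤ T → ¬ OffM V A

theorem cent_symm {A B : Subgroup G} (h : A ≤ centralizer (B : Set G)) : B ≤ centralizer (A : Set G) := by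
  intro b hb
  rw [mem_centralizer_iff]
  intro a ha
  exact (mem_centralizer_iff.1 (h ha) b hb).symm

theorem NN.bot (T : Subgroup G) : NN T (⊥ : Subgroup G) where
  le := bot_le
  norm := by
    intro t _
    rw [mem_normalizer_iff]
    intro x
    rw [mem_bot, mem_bot]
    constructor
    · rintro rfl; simp
    · intro h
      have : x = t⁻¹ * (t * x * t⁻¹) * t := by group
      rw [this, h]; simp
  comm := bot_le
  sq := by intro v hv; rw [mem_bot] at hv; rw [hv, one_pow]
  nff := fun A _ h => h.ne fun a _ => by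
    rw [mem_centralizer_iff]
    rintro x (hx : x ∈ (⊥ : Subgroup G))
    rw [mem_bot] at hx
    rw [hx, one_mul, mul_one]

theorem NN.mono {T T₁ V : Subgroup G} (h : NN T V) (h1 : V ≤ T₁) (h2 : T₁ ≤ T) : NN T₁ V :=
  ⟨h1, h2.trans h.norm, h.comm, h.sq, fun A hA => h.nff A (hA.trans h2)⟩

/-- an elementary abelian normal subgroup which is centralised -/
theorem NN.of_le_centralizer {T V : Subgroup G} (hV : V ≤ T) (h : T ≤ centralizer (V : Set G))
    (h2 : ∀ v ∈ V, v ^ 2 = 1) : NN T V :=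
  ⟨hV, h.trans (centralizer_le_normalizer _), hV.trans h, h2, fun _ hA ho => ho.ne (hA.trans h)⟩

theorem zc_nn (T : Subgroup G) : NN T (zc T) := by
  refine NN.of_le_centralizer (MinSimple.VModule.zc_le T) ?_ fun v hv =>
    (MinSimple.VModule.mem_zc.1 hv).2.2
  intro t ht
  rw [mem_centralizer_iff]
  intro z hz
  exact ((MinSimple.VModule.mem_zc.1 hz).2.1 t ht).symm

theorem offM_of_abel {V A : Subgroup G} (hc : A ≤ centralizer (A : Set G)) (h2 : ∀ a ∈ A, a ^ 2 = 1) :
    ElemM V A where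
  sq a ha := by rw [h2 a ha]; exact one_mem _
  comm a ha b hb := by
    have e : a * b = b * a := (mem_centralizer_iff.1 (hc ha) b hb).symm
    rw [e, mul_inv_cancel_right, mul_inv_cancel]; exact one_mem _

section fin

variable [Finite G] {T V W : Subgroup G}

/-- (1) -/
theorem NN.best {X : Subgroup G} (h : NN T W) (hX : X ≤ T) (hW : W ≤ V) (hb : Best V X) :
    X ≤ centralizer (W : Set G) := by
  by_contra hne
  exact h.nff X hX (hb.offM hW hne)

/-- (2): two members commute -/
theorem NN.comm_of (hV : NN T V) (hW : NN T W) : V ≤ centralizer (W : Set G) := by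
  by_contra hne
  have hne' : ¬ W ≤ centralizer (V : Set G) := fun h => hne (cent_symm h)
  have h1 := hW.nff V hV.le
  have h2 := hV.nff W hW.le
  rcases le_total (Nat.card W * Nat.card ↥(V ⊓ centralizer (W : Set G)))
    (Nat.card V * Nat.card ↥(W ⊓ centralizer (V : Set G))) with h | h
  · exact h1 ⟨offM_of_abel hV.comm hV.sq, hne, h⟩
  · exact h2 ⟨offM_of_abel hW.comm hW.sq, hne', h⟩

omit [Finite G] in
theorem le_normalizer_sup {A B C : Subgroup G} (hB : A ≤ normalizer (B : Set G))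
    (hC : A ≤ normalizer (C : Set G)) : A ≤ normalizer ((B ⊔ C : Subgroup G) : Set G) := by
  intro a ha
  have h1 := cj_eq_of_mem_normalizer (hB ha)
  have h2 := cj_eq_of_mem_normalizer (hC ha)
  rw [mem_normalizer_iff_cj, cj, Subgroup.map_sup]
  rw [cj] at h1 h2
  rw [h1, h2]

/-- (2): the product of two members is a member -/
theorem NN.sup (hV : NN T V) (hW : NN T W) : NN T (V ⊔ W) := by
  have hVW := hV.comm_of hW
  have hcs : V ⊔ W ≤ centralizer ((V ⊔ W : Subgroup G) : Set G) := by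
    refine sup_le ?_ ?_
    · exact cent_symm (sup_le hV.comm (cent_symm hVW))
    · exact cent_symm (sup_le hVW hW.comm)
  refine ⟨sup_le hV.le hW.le, le_normalizer_sup hV.norm hW.norm, hcs, ?_, fun A hA ho => ?_⟩
  · intro v hv
    refine Subgroup.closure_induction (p := fun v _ => v ^ 2 = 1) (k := (V : Set G) ∪ W) ?_ (one_pow 2) ?_ ?_
      (by rwa [Subgroup.closure_union, Subgroup.closure_eq, Subgroup.closure_eq])
    · rintro x (hx | hx)
      · exact hV.sq x hx
      · exact hW.sq x hx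
    · intro x y hx hy h1 h2
      have hx' : x ∈ V ⊔ W := by rwa [Subgroup.closure_union, Subgroup.closure_eq, Subgroup.closure_eq] at hx
      have hy' : y ∈ V ⊔ W := by rwa [Subgroup.closure_union, Subgroup.closure_eq, Subgroup.closure_eq] at hy
      have e : Commute x y := (mem_centralizer_iff.1 (hcs hx') y hy').symm
      rw [e.mul_pow, h1, h2, one_mul]
    · intro x _ h1
      rw [inv_pow, h1, inv_one]
  · obtain ⟨X, hXA, hb, hne⟩ := exists_best ho
    refine hne (cent_symm (sup_le ?_ ?_))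
    · exact cent_symm (hV.best (hXA.trans hA) le_sup_left hb)
    · exact cent_symm (hW.best (hXA.trans hA) le_sup_right hb)

/-- `V^!(T)` -/
def bang (T : Subgroup G) : Subgroup G := sSup {V : Subgroup G | NN T V}

omit [Finite G] in
theorem NN.le_bang (h : NN T V) : V ≤ bang T := le_sSup h

theorem nn_bang (T : Subgroup G) : NN T (bang T) := by
  obtain ⟨V, hV, hmax⟩ := Set.exists_max_image {V : Subgroup G | NN T V}
    (fun V => Nat.card V) (Set.toFinite _) ⟨⊥, NN.bot T⟩
  have h1 : bang T = V := by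
    refine le_antisymm (sSup_le fun W hW => ?_) (NN.le_bang hV)
    have h2 := hmax _ (NN.sup hV hW)
    have h3 : V ⊔ W = V := (Subgroup.eq_of_le_of_card_ge le_sup_left h2).symm
    exact le_sup_right.trans h3.le
  rw [h1]
  exact hV

theorem zc_le_bang (T : Subgroup G) : zc T ≤ bang T := (zc_nn T).le_bang

/-- the lifting lemma -/
theorem NN.of_cent {V' : Subgroup G} (hW : NN T W) (hWV : W ≤ V')
    (hV' : NN (T ⊓ centralizer (W : Set G)) V') (hn : T ≤ normalizer (V' : Set G)) : NN T V' := by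
  refine ⟨hV'.le.trans inf_le_left, hn, hV'.comm, hV'.sq, fun A hA ho => ?_⟩
  obtain ⟨X, hXA, hb, hne⟩ := exists_best ho
  have h1 : X ≤ centralizer (W : Set G) := hW.best (hXA.trans hA) hWV hb
  exact hV'.nff X (le_inf (hXA.trans hA) h1) (hb.offM le_rfl hne)

/-! ### `V^!` is characteristic -/

omit [Finite G] in
theorem OffM_cj {V A : Subgroup G} (h : OffM V A) (g : G) : OffM (cj g V) (cj g A) := by
  have hc : ∀ x, x ∈ centralizer (V : Set G) → g * x * g⁻¹ ∈ centralizer ((cj g V : Subgroup G) : Set G) := by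
    intro x hx
    rw [← cj_centralizer]
    exact mem_cj.2 (by simpa [mul_assoc] using hx)
  refine ⟨⟨?_, ?_⟩, ?_, ?_⟩
  · intro a ha
    have h1 := hc _ (h.sq _ (mem_cj.1 ha))
    have e : g * (g⁻¹ * a * g) ^ 2 * g⁻¹ = a ^ 2 := by rw [pow_two, pow_two]; group
    rwa [e] at h1
  · intro a ha b hb
    have h1 := hc _ (h.comm _ (mem_cj.1 ha) _ (mem_cj.1 hb))
    have e : g * (g⁻¹ * a * g * (g⁻¹ * b * g) * (g⁻¹ * a * g)⁻¹ * (g⁻¹ * b * g)⁻¹) * g⁻¹ =
        a * b * a⁻¹ * b⁻¹ := by group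
    rwa [e] at h1
  · intro hle
    rw [← cj_centralizer] at hle
    exact h.ne (by rwa [cj_le_iff, cj_inv_cj] at hle)
  · rw [← cj_centralizer, ← cj_centralizer, ← cj_inf, ← cj_inf, card_cj, card_cj, card_cj, card_cj]
    exact h.le

omit [Finite G] in
theorem NN.cj (h : NN T V) (g : G) : NN (cj g T) (cj g V) := by
  refine ⟨cj_mono g h.le, ?_, ?_, ?_, ?_⟩
  · rw [← cj_normalizer]
    exact cj_mono g h.norm
  · rw [← cj_centralizer]
    exact cj_mono g h.comm
  · intro v hv
    have h1 : (g⁻¹ * v * g) ^ 2 = 1 := h.sq _ (mem_cj.1 hv)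
    have e2 : v ^ 2 = g * (g⁻¹ * v * g) ^ 2 * g⁻¹ := by
      rw [pow_two, pow_two]; group
    rw [e2, h1]; simp
  · intro A hA ho
    have h1 := OffM_cj ho g⁻¹
    rw [cj_inv_cj] at h1
    refine h.nff _ ?_ h1
    have := cj_mono g⁻¹ hA
    rwa [cj_inv_cj] at this

theorem bang_cj (T : Subgroup G) (g : G) : bang (cj g T) = cj g (bang T) := by
  refine le_antisymm ?_ ((nn_bang T).cj g).le_bang
  have h1 := ((nn_bang (cj g T)).cj g⁻¹)
  rw [cj_inv_cj] at h1
  have h2 := cj_mono g h1.le_bang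
  rwa [cj_cj_inv] at h2

theorem normalizer_le_bang (T : Subgroup G) :
    normalizer (T : Set G) ≤ normalizer (bang T : Set G) := by
  intro g hg
  rw [mem_normalizer_iff_cj, ← bang_cj, cj_eq_of_mem_normalizer hg]

/-! ### (3) -/

/-- (3) -/
theorem bang_eq {T₁ : Subgroup G} (h1 : T ⊓ centralizer (bang T : Set G) ≤ T₁) (h2 : T₁ ≤ T) :
    bang T₁ = bang T := by
  set V := bang T with hV
  set D := T ⊓ centralizer (V : Set G) with hD
  have hn : NN T V := nn_bang T
  have hVD : V ≤ D := le_inf hn.le hn.comm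
  have hV1 : NN T₁ V := hn.mono (hVD.trans h1) h2
  have a1 : V ≤ bang T₁ := hV1.le_bang
  have a2 : bang T₁ ≤ D := le_inf ((nn_bang T₁).le.trans h2) ((nn_bang T₁).comm_of hV1)
  have a3 : bang T₁ ≤ bang D := ((nn_bang T₁).mono a2 h1).le_bang
  have a4 : T ≤ normalizer (D : Set G) := by
    intro t ht
    rw [mem_normalizer_iff_cj, hD, cj_inf, cj_centralizer, cj_eq_of_mem_normalizer (le_normalizer ht),
      cj_eq_of_mem_normalizer (hn.norm ht)]
  have a5 : NN T (bang D) :=
    NN.of_cent hn (a1.trans a3) (nn_bang D) (a4.trans (normalizer_le_bang D))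
  exact le_antisymm (a3.trans a5.le_bang) a1

/-- `V^!(C_T(W)) = V^!(T)` for `W ∈ NN(T)` -/
theorem bang_cent (hW : NN T W) : bang (T ⊓ centralizer (W : Set G)) = bang T :=
  bang_eq (inf_le_inf_left _ (centralizer_le hW.le_bang)) inf_le_left

/-- `V = Ω₁(Z(C_T(V)))` -/
theorem bang_eq_zc (T : Subgroup G) : bang T = zc (T ⊓ centralizer (bang T : Set G)) := by
  have hn : NN T (bang T) := nn_bang T
  refine le_antisymm ?_ ?_
  · intro v hv
    refine MinSimple.VModule.mem_zc.2 ⟨⟨hn.le hv, hn.comm hv⟩, fun d hd => ?_, hn.sq v hv⟩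
    exact (mem_centralizer_iff.1 hd.2 v hv).symm
  · calc zc (T ⊓ centralizer (bang T : Set G)) ≤ bang (T ⊓ centralizer (bang T : Set G)) := zc_le_bang _
      _ = bang T := bang_cent hn

/-- (4) -/
theorem le_normalizer_bang {T₁ : Subgroup G} (h1 : T ⊓ centralizer (bang T : Set G) ≤ T₁) (h2 : T₁ ≤ T) :
    normalizer (T₁ : Set G) ≤ normalizer (bang T : Set G) := by
  rw [← bang_eq h1 h2]
  exact normalizer_le_bang T₁

/-- a subgroup which normalises `C_T(W)`, `W ∈ NN(T)`, normalises `V^!(T)` -/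
theorem le_normalizer_bang_of_cent {H : Subgroup G} (hW : NN T W)
    (hH : H ≤ normalizer ((T ⊓ centralizer (W : Set G) : Subgroup G) : Set G)) :
    H ≤ normalizer (bang T : Set G) := by
  rw [← bang_cent hW]
  exact hH.trans (normalizer_le_bang _)

end fin

end Cfsg.Agent.Omega.NO3b.Bang
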