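import Cfsg.Agent.MinSimple.EmptyTI
import Cfsg.Agent.MinSimple.VModule
import Mathlib

section


/-!
# Leaf (3b-E), THEOREM E0 (helper99, #13645), part 1: lines and maximal flats

`J = J(S)`, `Z = Ω₁(Z(S))`, `V = ⟨Z^{N_G(J)}⟩`, `L = N_G(V)`, `L₀ = N_G(C_S(V))`. The lines are the conjugates of
`V`. Hypotheses (`Hyp S V`): `V` is not FF, `C_V(T)` lies in every line through `D = V ∩ V^g ≠ 1` for a Sylow
2-subgroup `T ≥ J` of `C_G(D)` (EMP), `J` centralises `⟨Z^H⟩` for all 2-locals `H ≥ S`, `V ≤ O₂(C_G(Z))`,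
`C_G(Z) ≰ L`.

* `Hyp.loc_le` : (0) a 2-local `H ≥ L₀` lies in `L`;
* `Hyp.exists_c` : (1) a line through `D ≤ V` is `V^c`, `c ∈ ⟨J^{C_G(D)}⟩`;
* `Hyp.comm_point` : (2); `Hyp.comm_of_inter` : (3) two lines which meet nontrivially commute;
* `Flat S V F T`, `Hyp.exists_flat` : (4) an intersection `F = V ∩ V^g` of maximal order, `T = C_S(F)`;
  `Flat.inf_cent` : `C_V(T) = F`; `Flat.four_le` : `|V : F| ≥ 4`.
-/

set_option autoImplicit false

namespace Cfsg.Agent.Omega.NO3b.EZero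

open Subgroup Cfsg Cfsg.Agent.ZN Cfsg.Agent.ZN.ChoiceBase Cfsg.Agent.ZN.ChoiceSit
open Cfsg.Agent.MinSimple.EmptyTI (jcl cj_le_jcl le_jcl jcl_le jcl_mono jcl_cj cj_jcl le_normalizer_jcl
  jcl_le_self exists_conj_jj le_normalizer_jj frattini_jcl syl_of_le)

universe u

variable {G : Type u} [Group G]

/-- `V` is not FF: `|V : C_V(A)| > |A : C_A(V)|` for all 2-subgroups `A` acting on `V` as nontrivial elementary
abelian groups. -/
def NotFF (V : Subgroup G) : Prop :=
  ∀ A : Subgroup G, IsPGroup 2 A → A ≤ normalizer (V : Set G) → (∀ a ∈ A, a ^ 2 ∈ centralizer (V : Set G)) →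
    (∀ a ∈ A, ∀ b ∈ A, a * b * a⁻¹ * b⁻¹ ∈ centralizer (V : Set G)) → ¬ A ≤ centralizer (V : Set G) →
    (centralizer (V : Set G)).relIndex A < (centralizer (A : Set G)).relIndex V

theorem relIndex_cj (g : G) (A B : Subgroup G) : (cj g A).relIndex (cj g B) = A.relIndex B :=
  relIndex_map_map_of_injective A B (MulAut.conj g).injective

theorem mem_cj_self {g x : G} {A : Subgroup G} (hx : x ∈ A) : g * x * g⁻¹ ∈ cj g A := by
  rw [mem_cj]
  have e : g⁻¹ * (g * x * g⁻¹) * g = x := by group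
  rwa [e]

theorem cent_symm {A B : Subgroup G} (h : A ≤ centralizer (B : Set G)) : B ≤ centralizer (A : Set G) :=
  Subgroup.le_centralizer_iff.1 h

theorem cj_cent {g : G} {A B : Subgroup G} (h : A ≤ centralizer (B : Set G)) :
    cj g A ≤ centralizer ((cj g B : Subgroup G) : Set G) := by
  rw [← cj_centralizer]
  exact cj_mono g h

theorem cj_norm {g : G} {A B : Subgroup G} (h : A ≤ normalizer (B : Set G)) :
    cj g A ≤ normalizer ((cj g B : Subgroup G) : Set G) := by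
  rw [← cj_normalizer]
  exact cj_mono g h

theorem cj_eq_cj_iff {a b : G} {A : Subgroup G} : cj a A = cj b A ↔ b⁻¹ * a ∈ normalizer (A : Set G) := by
  rw [mem_normalizer_iff_cj, ← cj_cj]
  constructor
  · intro h
    rw [h, cj_inv_cj]
  · intro h
    have := congrArg (cj b) h
    rwa [cj_cj_inv] at this

theorem NotFF.cj {V : Subgroup G} (h : NotFF V) (g : G) : NotFF (cj g V) := by
  intro A hA hN hsq hcm hne
  have h1 : ChoiceBase.cj g (ChoiceBase.cj g⁻¹ A) = A := cj_cj_inv g A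
  have hcen : ∀ x, x ∈ centralizer ((ChoiceBase.cj g V : Subgroup G) : Set G) →
      g⁻¹ * x * g ∈ centralizer (V : Set G) := by
    intro x hx
    rw [← cj_centralizer] at hx
    exact mem_cj.1 hx
  have h2 := h (ChoiceBase.cj g⁻¹ A) (isPGroup_cj _ hA) (by
      rw [cj_le_iff, inv_inv, cj_normalizer]; exact hN) (by
      intro a ha
      have ha' := mem_cj.1 ha
      rw [inv_inv] at ha'
      have h3 := hcen _ (hsq _ ha')
      have e : g⁻¹ * (g * a * g⁻¹) ^ 2 * g = a ^ 2 := by rw [pow_two, pow_two]; group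
      rwa [e] at h3) (by
      intro a ha b hb
      have ha' := mem_cj.1 ha
      have hb' := mem_cj.1 hb
      rw [inv_inv] at ha' hb'
      have h3 := hcen _ (hcm _ ha' _ hb')
      have e : g⁻¹ * (g * a * g⁻¹ * (g * b * g⁻¹) * (g * a * g⁻¹)⁻¹ * (g * b * g⁻¹)⁻¹) * g =
          a * b * a⁻¹ * b⁻¹ := by group
      rwa [e] at h3) (by
      intro h3
      apply hne
      have h4 := cj_cent (g := g) h3
      rwa [h1] at h4)
  rw [← relIndex_cj g, ← relIndex_cj g (centralizer _) V, cj_centralizer, cj_centralizer, h1] at h2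
  exact h2

/-- Two abelian subgroups of exponent 2, not FF, which normalise each other commute. -/
theorem comm_of_norm {A B : Subgroup G} (hA : NotFF A) (hB : NotFF B) (hA2 : ∀ a ∈ A, a ^ 2 = 1)
    (hB2 : ∀ b ∈ B, b ^ 2 = 1) (hAc : A ≤ centralizer (A : Set G)) (hBc : B ≤ centralizer (B : Set G))
    (hAB : A ≤ normalizer (B : Set G)) (hBA : B ≤ normalizer (A : Set G)) : A ≤ centralizer (B : Set G) := by
  by_contra hcon
  have hcon' : ¬ B ≤ centralizer (A : Set G) := fun h => hcon (cent_symm h)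
  have pg : ∀ {X : Subgroup G}, (∀ x ∈ X, x ^ 2 = 1) → IsPGroup 2 X := fun hX x =>
    ⟨1, Subtype.ext (by simpa using hX x x.2)⟩
  have h1 := hA B (pg hB2) hBA (fun b hb => by rw [hB2 b hb]; exact one_mem _) (fun a ha b hb => by
    have e : a * b = b * a := (mem_centralizer_iff.1 (hBc ha) b hb).symm
    rw [e, mul_inv_cancel_right, mul_inv_cancel]; exact one_mem _) hcon'
  have h2 := hB A (pg hA2) hAB (fun b hb => by rw [hA2 b hb]; exact one_mem _) (fun a ha b hb => by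
    have e : a * b = b * a := (mem_centralizer_iff.1 (hAc ha) b hb).symm
    rw [e, mul_inv_cancel_right, mul_inv_cancel]; exact one_mem _) hcon
  exact absurd h1 (not_lt.2 h2.le)

/-- The hypotheses of THEOREM E0. -/
structure Hyp [Finite G] (S : Sylow 2 G) (V : Subgroup G) : Prop where
  eq : V = zl (S : Subgroup G) (normalizer ((jj (S : Subgroup G) : Subgroup G) : Set G))
  nff : NotFF V
  emp : ∀ g : G, cj g V ≠ V → V ⊓ cj g V ≠ ⊥ → ∀ T : Subgroup G,
    Syl T (centralizer ((V ⊓ cj g V : Subgroup G) : Set G)) → jj (S : Subgroup G) ≤ T →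
    ∀ b : G, V ⊓ cj g V ≤ cj b V → V ⊓ centralizer (T : Set G) ≤ cj b V
  empS : ∀ H : Subgroup G, IsTwoLocal H → (S : Subgroup G) ≤ H →
    jj (S : Subgroup G) ≤ centralizer ((zl (S : Subgroup G) H : Subgroup G) : Set G)
  low : V ≤ o2 (centralizer (zc (S : Subgroup G) : Set G))
  nle : ¬ centralizer (zc (S : Subgroup G) : Set G) ≤ normalizer (V : Set G)

section basic

variable [Finite G] {S : Sylow 2 G} {V : Subgroup G}

theorem le_NJ : (S : Subgroup G) ≤ normalizer ((jj (S : Subgroup G) : Subgroup G) : Set G) :=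
  le_normalizer_jj S S.isPGroup' (jj_le _)

omit [Finite G] in
theorem isPGroup_Q0 : IsPGroup 2 ((S : Subgroup G) ⊓ centralizer (V : Set G) : Subgroup G) :=
  S.isPGroup'.to_le inf_le_left

namespace Hyp

variable (h : Hyp S V)
include h

theorem NJ_le : normalizer ((jj (S : Subgroup G) : Subgroup G) : Set G) ≤ normalizer (V : Set G) := by
  have h1 := MinSimple.VModule.le_normalizer_zl (S : Subgroup G)
    (normalizer ((jj (S : Subgroup G) : Subgroup G) : Set G))
  rwa [← h.eq] at h1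

theorem S_le : (S : Subgroup G) ≤ normalizer (V : Set G) := le_NJ.trans h.NJ_le

theorem Z_le : zc (S : Subgroup G) ≤ V := by
  have h1 := zc_le_zl (S : Subgroup G) (normalizer ((jj (S : Subgroup G) : Subgroup G) : Set G))
  rwa [← h.eq] at h1

theorem le_zj : V ≤ zj (S : Subgroup G) := by
  rw [h.eq]
  refine iSup_le fun g => ?_
  have h1 : cj (g : G) (zj (S : Subgroup G)) = zj (S : Subgroup G) := by
    rw [← zj_cj]
    refine zj_congr ?_
    rw [jj_cj, mem_normalizer_iff_cj.1 g.2]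
  have h2 := cj_mono (g : G) (zc_le_zj (S : Subgroup G))
  rwa [h1] at h2

theorem J_cent : jj (S : Subgroup G) ≤ centralizer (V : Set G) := by
  intro j hj
  rw [mem_centralizer_iff]
  intro v hv
  exact ((mem_zj.1 (h.le_zj hv)).2.2 j hj).symm

theorem comm : V ≤ centralizer (V : Set G) := by
  intro v hv
  rw [mem_centralizer_iff]
  intro w hw
  exact (mem_zj.1 (h.le_zj hv)).2.2 w (mem_zj.1 (h.le_zj hw)).1

theorem sq : ∀ v ∈ V, v ^ 2 = 1 := fun _ hv => (mem_zj.1 (h.le_zj hv)).2.1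

theorem le_S : V ≤ (S : Subgroup G) := fun _ hv => jj_le _ (mem_zj.1 (h.le_zj hv)).1

theorem cj_comm (g : G) : cj g V ≤ centralizer ((cj g V : Subgroup G) : Set G) := cj_cent h.comm

theorem cj_sq (g : G) : ∀ v ∈ cj g V, v ^ 2 = 1 := by
  intro v hv
  have h1 := h.sq _ (mem_cj.1 hv)
  have e : v ^ 2 = g * (g⁻¹ * v * g) ^ 2 * g⁻¹ := by rw [pow_two, pow_two]; group
  rw [e, h1]; group

theorem isPGroup : IsPGroup 2 V := S.isPGroup'.to_le h.le_S

/-- Two lines which normalise each other commute. -/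
theorem comm_lines {a b : G} (h1 : cj a V ≤ normalizer ((cj b V : Subgroup G) : Set G))
    (h2 : cj b V ≤ normalizer ((cj a V : Subgroup G) : Set G)) :
    cj a V ≤ centralizer ((cj b V : Subgroup G) : Set G) :=
  comm_of_norm (h.nff.cj a) (h.nff.cj b) (h.cj_sq a) (h.cj_sq b) (h.cj_comm a) (h.cj_comm b) h1 h2

/-! ### (0) -/

theorem Q0_J : jj (S : Subgroup G) ≤ (S : Subgroup G) ⊓ centralizer (V : Set G) := le_inf (jj_le _) h.J_cent

/-- `L₀ ≤ N_G(J)` -/
theorem L0_le : normalizer (((S : Subgroup G) ⊓ centralizer (V : Set G) : Subgroup G) : Set G) ≤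
    normalizer ((jj (S : Subgroup G) : Subgroup G) : Set G) := by
  have h1 := normalizer_le_jj ((S : Subgroup G) ⊓ centralizer (V : Set G))
  rwa [MinSimple.EmptyTI.jj_eq S isPGroup_Q0 h.Q0_J] at h1

theorem S_le_L0 : (S : Subgroup G) ≤
    normalizer (((S : Subgroup G) ⊓ centralizer (V : Set G) : Subgroup G) : Set G) := by
  intro s hs
  rw [mem_normalizer_iff_cj, cj_inf, cj_centralizer, mem_normalizer_iff_cj.1 (h.S_le hs)]
  congr 1
  exact cj_eq_of_mem_normalizer (Subgroup.le_normalizer hs)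

/-- `C_S(V)` is a Sylow 2-subgroup of `C_G(V)` -/
theorem syl_Q0 : Syl ((S : Subgroup G) ⊓ centralizer (V : Set G)) (centralizer (V : Set G)) := by
  refine ⟨inf_le_right, isPGroup_Q0, fun Q hQ hp hle => ?_⟩
  have hQL : Q ≤ normalizer (V : Set G) := hQ.trans (centralizer_le_normalizer _)
  obtain ⟨T, hT, hQT⟩ := exists_syl hp hQL
  obtain ⟨x, hx, hxT⟩ := syl_conj hT (syl_of_le h.S_le)
  have h1 : cj x Q ≤ (S : Subgroup G) ⊓ centralizer (V : Set G) := by
    refine le_inf ?_ ?_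
    · rw [← hxT]; exact cj_mono x hQT
    · have h2 := cj_mono x hQ
      rwa [cj_centralizer, mem_normalizer_iff_cj.1 hx] at h2
  have h2 := card_le_of_le h1
  rw [card_cj] at h2
  exact (eq_of_le_of_card_ge hle h2).symm

/-- Frattini: `L = C_G(V) L₀` -/
theorem frattini {n : G} (hn : n ∈ normalizer (V : Set G)) : ∃ c ∈ centralizer (V : Set G),
    c⁻¹ * n ∈ normalizer (((S : Subgroup G) ⊓ centralizer (V : Set G) : Subgroup G) : Set G) := by
  have h1 : Syl (cj n ((S : Subgroup G) ⊓ centralizer (V : Set G))) (centralizer (V : Set G)) := by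
    have hC : cj n (centralizer (V : Set G)) = centralizer (V : Set G) := by
      rw [cj_centralizer, mem_normalizer_iff_cj.1 hn]
    refine ⟨?_, isPGroup_cj _ isPGroup_Q0, fun Q hQ hp hle => ?_⟩
    · exact (cj_mono n h.syl_Q0.1).trans hC.le
    · have h2 := h.syl_Q0.2.2 (cj n⁻¹ Q) (by
        rw [cj_le_iff, inv_inv, hC]; exact hQ) (isPGroup_cj _ hp) (by
        have h3 := cj_mono n⁻¹ hle
        rwa [cj_inv_cj] at h3)
      rw [← h2, cj_cj_inv]
  obtain ⟨c, hc, hcn⟩ := syl_conj h.syl_Q0 h1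
  exact ⟨c, hc, cj_eq_cj_iff.1 hcn.symm⟩

/-- **(0)** A 2-local subgroup containing `L₀` lies in `L`. -/
theorem loc_le {H : Subgroup G} (hH : IsTwoLocal H)
    (hL : normalizer (((S : Subgroup G) ⊓ centralizer (V : Set G) : Subgroup G) : Set G) ≤ H) :
    H ≤ normalizer (V : Set G) := by
  have hSH : (S : Subgroup G) ≤ H := h.S_le_L0.trans hL
  have hJH : jj (S : Subgroup G) ≤ H := (jj_le _).trans hSH
  have hX := h.empS H hH hSH
  have hHX := MinSimple.VModule.le_normalizer_zl (S : Subgroup G) H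
  have hjX : jcl (jj (S : Subgroup G)) H ≤ centralizer ((zl (S : Subgroup G) H : Subgroup G) : Set G) := by
    refine jcl_le fun g hg => ?_
    have h1 := cj_cent (g := g) hX
    rwa [mem_normalizer_iff_cj.1 (hHX hg)] at h1
  have hZX : ∀ g ∈ H, cj g (zc (S : Subgroup G)) ≤ zl (S : Subgroup G) H := fun g hg =>
    le_iSup (fun g : H => cj (g : G) (zc (S : Subgroup G))) ⟨g, hg⟩
  have key : zl (S : Subgroup G) H = V := by
    apply le_antisymm
    · refine iSup_le fun g => ?_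
      have h1 := frattini_jcl S hJH g.2
      rw [sup_comm, ← SetLike.mem_coe, Subgroup.coe_mul_of_left_le_normalizer_right _ _
        (inf_le_left.trans (le_normalizer_jcl (jj (S : Subgroup G)) H)), Set.mem_mul] at h1
      obtain ⟨n, hn, c, hc, hg⟩ := h1
      have hn' : n ∈ normalizer ((jj (S : Subgroup G) : Subgroup G) : Set G) := hn.2
      have h2 : cj c (zc (S : Subgroup G)) = zc (S : Subgroup G) := by
        have h3 := hjX hc
        refine cj_eq_of_mem_normalizer (centralizer_le_normalizer _ ?_)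
        exact centralizer_le (by
          have := hZX 1 (one_mem _)
          rwa [cj_one] at this) h3
      change cj (g : G) (zc (S : Subgroup G)) ≤ V
      rw [← hg, ← cj_cj, h2]
      rw [h.eq]
      exact le_iSup (fun g : (normalizer ((jj (S : Subgroup G) : Subgroup G) : Set G) : Subgroup G) =>
        cj (g : G) (zc (S : Subgroup G))) ⟨n, hn'⟩
    · conv_lhs => rw [h.eq]
      refine iSup_le fun n => ?_
      obtain ⟨c, hc, hcn⟩ := h.frattini (h.NJ_le n.2)
      have e : (n : G) = c * (c⁻¹ * n) := by group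
      have h1 : cj (c⁻¹ * n) (zc (S : Subgroup G)) ≤ V := by
        have h2 := cj_mono (c⁻¹ * n) h.Z_le
        rwa [mem_normalizer_iff_cj.1 (h.NJ_le (h.L0_le hcn))] at h2
      have h2 : cj c (cj (c⁻¹ * n) (zc (S : Subgroup G))) = cj (c⁻¹ * n) (zc (S : Subgroup G)) :=
        cj_eq_of_mem_normalizer (centralizer_le_normalizer _ (centralizer_le h1 hc))
      change cj (n : G) (zc (S : Subgroup G)) ≤ _
      rw [e, ← cj_cj, h2]
      exact hZX _ (hL hcn)
  rw [← key]
  exact hHX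

/-! ### (1), (2), (3) -/

/-- **(1)** A line through `D ≤ V` is `V^c`, `c ∈ ⟨J^{C_G(D)}⟩`. -/
theorem exists_c {D : Subgroup G} (hD : D ≤ V) {g : G} (hDg : D ≤ cj g V) :
    ∃ c ∈ jcl (jj (S : Subgroup G)) (centralizer (D : Set G)), cj c V = cj g V := by
  have h1 : jj (S : Subgroup G) ≤ centralizer (D : Set G) := h.J_cent.trans (centralizer_le hD)
  have h2 : cj g (jj (S : Subgroup G)) ≤ centralizer (D : Set G) :=
    (cj_cent h.J_cent).trans (centralizer_le hDg)
  obtain ⟨x, hx, hxg⟩ := exists_conj_jj S h1 h2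
  have h3 : cj g (jj (S : Subgroup G)) ≤ jcl (jj (S : Subgroup G)) (centralizer (D : Set G)) := by
    rw [← hxg]; exact cj_le_jcl hx
  obtain ⟨c, hc, hcg⟩ := exists_conj_jj S (le_jcl _ _) h3
  exact ⟨c, hc, cj_eq_cj_iff.2 (h.NJ_le (cj_eq_cj_iff.1 hcg))⟩

theorem jcl_le_cent {D : Subgroup G} (hD : D ≤ V) :
    jcl (jj (S : Subgroup G)) (centralizer (D : Set G)) ≤ centralizer (D : Set G) :=
  jcl_le_self (h.J_cent.trans (centralizer_le hD))

theorem low_conj {c : G} (hc : c ∈ centralizer (zc (S : Subgroup G) : Set G)) : cj c V ≤ (S : Subgroup G) := by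
  have h1 := cj_mono c h.low
  rw [cj_eq_of_mem_normalizer (ChoiceSit.le_normalizer_o2 _ hc)] at h1
  exact h1.trans (o2_le_syl (syl_of_le (by
    intro s hs
    rw [mem_centralizer_iff]
    exact fun z hz => ((mem_zc.1 hz).2.2 s hs).symm)))

/-- **(2)** -/
theorem comm_point {c : G} (hc : c ∈ centralizer (zc (S : Subgroup G) : Set G)) :
    V ≤ centralizer ((cj c V : Subgroup G) : Set G) := by
  have h1 := h.comm_lines (a := 1) (b := c) (by
    rw [cj_one]
    have h2 := cj_norm (g := c) ((h.low_conj (inv_mem hc)).trans h.S_le)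
    rwa [cj_cj_inv] at h2) (by
    rw [cj_one]
    exact (h.low_conj hc).trans h.S_le)
  rwa [cj_one] at h1

omit h in
/-- A 2-subgroup containing `J` lies in `S^l`, `l ∈ N_G(J)`. -/
theorem exists_l {T : Subgroup G} (hT : IsPGroup 2 T) (hJ : jj (S : Subgroup G) ≤ T) :
    ∃ l ∈ normalizer ((jj (S : Subgroup G) : Subgroup G) : Set G), T ≤ cj l (S : Subgroup G) := by
  obtain ⟨T', hT', hTT⟩ := exists_syl hT (le_normalizer_jj S hT hJ)
  obtain ⟨l, hl, hlT⟩ := syl_conj (syl_of_le le_NJ) hT'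
  exact ⟨l, hl, hTT.trans hlT.ge⟩

/-- the point `Z^l` lies in all lines through `D` -/
theorem point_le {g : G} (hne : cj g V ≠ V) (hD : V ⊓ cj g V ≠ ⊥) {T : Subgroup G}
    (hT : Syl T (centralizer ((V ⊓ cj g V : Subgroup G) : Set G))) (hJ : jj (S : Subgroup G) ≤ T) {l : G}
    (hl : l ∈ normalizer (V : Set G)) (hTl : T ≤ cj l (S : Subgroup G)) {b : G} (hb : V ⊓ cj g V ≤ cj b V) :
    cj l (zc (S : Subgroup G)) ≤ cj b V := by
  refine le_trans (le_inf ?_ ?_) (h.emp g hne hD T hT hJ b hb)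
  · have h1 := cj_mono l h.Z_le
    rwa [mem_normalizer_iff_cj.1 hl] at h1
  · refine le_trans ?_ (centralizer_le hTl)
    refine cj_cent ?_
    intro z hz
    rw [mem_centralizer_iff]
    exact fun s hs => (mem_zc.1 hz).2.2 s hs

/-- **(3)** Two lines which meet nontrivially commute. -/
theorem comm_of_inter' {g : G} (hD : V ⊓ cj g V ≠ ⊥) : V ≤ centralizer ((cj g V : Subgroup G) : Set G) := by
  by_cases hne : cj g V = V
  · rw [hne]; exact h.comm
  have hJ : jj (S : Subgroup G) ≤ centralizer ((V ⊓ cj g V : Subgroup G) : Set G) :=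
    h.J_cent.trans (centralizer_le inf_le_left)
  obtain ⟨T, hT, hJT⟩ := exists_syl (S.isPGroup'.to_le (jj_le _)) hJ
  obtain ⟨l, hl, hTl⟩ := exists_l hT.2.1 hJT
  have hl' := h.NJ_le hl
  have h1 := h.point_le hne hD hT hJT hl' hTl (b := g) inf_le_right
  have h2 := h.point_le hne hD hT hJT hl' hTl (b := 1) (by rw [cj_one]; exact inf_le_left)
  rw [cj_one] at h2
  obtain ⟨c, hc, hcg⟩ := h.exists_c h2 h1
  have hc' := h.jcl_le_cent h2 hc
  rw [← cj_centralizer] at hc'
  have h3 := h.comm_point (mem_cj.1 hc')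
  have h4 := cj_cent (g := l) h3
  rw [cj_cj, mem_normalizer_iff_cj.1 hl'] at h4
  have e : l * (l⁻¹ * c * l) = c * l := by group
  rw [e, ← cj_cj, mem_normalizer_iff_cj.1 hl', hcg] at h4
  exact h4

theorem comm_of_inter {a b : G} (hD : cj a V ⊓ cj b V ≠ ⊥) :
    cj a V ≤ centralizer ((cj b V : Subgroup G) : Set G) := by
  have h1 := h.comm_of_inter' (g := a⁻¹ * b) (by
    intro h0
    apply hD
    have h1 := congrArg (cj a) h0
    rw [cj_inf, cj_cj, mul_inv_cancel_left] at h1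
    rw [h1]
    exact Subgroup.map_bot _)
  have h2 := cj_cent (g := a) h1
  rwa [cj_cj, mul_inv_cancel_left] at h2

end Hyp

/-- **(4)** `F` is an intersection `V ∩ V^g` of maximal order, `T` a Sylow 2-subgroup of `C_G(F)`, `J ≤ T ≤ S`. -/
structure Flat (S : Sylow 2 G) (V F T : Subgroup G) : Prop where
  eq : ∃ g, cj g V ≠ V ∧ V ⊓ cj g V = F
  max : ∀ g, cj g V ≠ V → Nat.card (V ⊓ cj g V : Subgroup G) ≤ Nat.card F
  syl : Syl T (centralizer (F : Set G))
  T_le : T ≤ (S : Subgroup G)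
  J_le : jj (S : Subgroup G) ≤ T

namespace Hyp

variable (h : Hyp S V)
include h

/-- the bad flats are not trivial -/
theorem exists_bad : ∃ g, cj g V ≠ V ∧ zc (S : Subgroup G) ≤ V ⊓ cj g V := by
  have h1 := h.nle
  rw [SetLike.not_le_iff_exists] at h1
  obtain ⟨c, hc, hcV⟩ := h1
  refine ⟨c, fun h2 => hcV (mem_normalizer_iff_cj.2 h2), le_inf h.Z_le ?_⟩
  have h2 := cj_mono c h.Z_le
  rwa [cj_eq_of_mem_normalizer (centralizer_le_normalizer _ hc)] at h2

theorem S_ne : (S : Subgroup G) ≠ ⊥ := by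
  intro h0
  apply h.nle
  have h1 : V = ⊥ := le_bot_iff.1 (h.le_S.trans h0.le)
  rw [h1]
  intro x _
  rw [mem_normalizer_iff_cj]
  exact Subgroup.map_bot _

theorem exists_flat : ∃ F T, Flat S V F T := by
  obtain ⟨g₀, hg₀, hZ⟩ := h.exists_bad
  obtain ⟨g, hg, hmax⟩ := Set.exists_max_image {g : G | cj g V ≠ V}
    (fun g => Nat.card (V ⊓ cj g V : Subgroup G)) (Set.toFinite _) ⟨g₀, hg₀⟩
  have hne : V ⊓ cj g V ≠ ⊥ := by
    intro h0
    have h1 := hmax g₀ hg₀
    have h2 := card_le_of_le hZ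
    simp only [h0] at h1
    have h3 : Nat.card (zc (S : Subgroup G)) = 1 := by
      have : Nat.card (⊥ : Subgroup G) = 1 := by simp
      have h4 : 0 < Nat.card (zc (S : Subgroup G)) := Nat.card_pos
      omega
    exact MinSimple.Basic.zc_ne_bot S.isPGroup' h.S_ne (Subgroup.card_eq_one.1 h3)
  have hJ : jj (S : Subgroup G) ≤ centralizer ((V ⊓ cj g V : Subgroup G) : Set G) :=
    h.J_cent.trans (centralizer_le inf_le_left)
  obtain ⟨T, hT, hJT⟩ := exists_syl (S.isPGroup'.to_le (jj_le _)) hJ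
  obtain ⟨l, hl, hTl⟩ := exists_l hT.2.1 hJT
  have hl' := h.NJ_le hl
  have e1 : cj l⁻¹ (V ⊓ cj g V) = V ⊓ cj (l⁻¹ * g) V := by
    rw [cj_inf, cj_cj, mem_normalizer_iff_cj.1 (inv_mem hl')]
  refine ⟨cj l⁻¹ (V ⊓ cj g V), cj l⁻¹ T, ⟨l⁻¹ * g, ?_, e1.symm⟩, ?_, ?_, ?_, ?_⟩
  · intro h0
    apply hg
    have h1 := congrArg (cj l) h0
    rwa [cj_cj, mul_inv_cancel_left, mem_normalizer_iff_cj.1 hl'] at h1
  · intro x hx
    rw [card_cj]
    exact hmax x hx
  · have hC : centralizer ((cj l⁻¹ (V ⊓ cj g V) : Subgroup G) : Set G) =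
        cj l⁻¹ (centralizer ((V ⊓ cj g V : Subgroup G) : Set G)) := (cj_centralizer _ _).symm
    rw [hC]
    refine ⟨cj_mono _ hT.1, isPGroup_cj _ hT.2.1, fun Q hQ hp hle => ?_⟩
    have h2 := hT.2.2 (cj l Q) (by
      rw [cj_le_iff]; exact hQ) (isPGroup_cj _ hp) (by
      have h3 := cj_mono l hle
      rwa [cj_cj_inv] at h3)
    rw [← h2, cj_inv_cj]
  · rw [cj_le_iff, inv_inv]; exact hTl
  · have h2 := cj_mono l⁻¹ hJT
    rwa [mem_normalizer_iff_cj.1 (inv_mem hl)] at h2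

end Hyp

namespace Flat

variable {F T : Subgroup G} (f : Flat S V F T) (h : Hyp S V)
include f

omit [Finite G] in
theorem F_le : F ≤ V := by
  obtain ⟨g, -, hg⟩ := f.eq
  rw [← hg]; exact inf_le_left

theorem F_ne_V : F ≠ V := by
  obtain ⟨g, hg, hF⟩ := f.eq
  intro h0
  apply hg
  rw [h0] at hF
  exact (eq_of_le_of_card_ge (inf_eq_left.1 hF) (card_cj g V).le).symm

omit [Finite G] in
theorem isPGroup_T : IsPGroup 2 T := f.syl.2.1

include h

theorem ne_bot : F ≠ ⊥ := by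
  obtain ⟨g₀, hg₀, hZ⟩ := h.exists_bad
  intro h0
  have h1 := f.max g₀ hg₀
  have h2 := card_le_of_le hZ
  rw [h0] at h1
  have h3 : Nat.card (zc (S : Subgroup G)) = 1 := by
    have : Nat.card (⊥ : Subgroup G) = 1 := by simp
    have h4 : 0 < Nat.card (zc (S : Subgroup G)) := Nat.card_pos
    omega
  exact MinSimple.Basic.zc_ne_bot S.isPGroup' h.S_ne (Subgroup.card_eq_one.1 h3)

/-- the lines through `F` contain `Z` -/
theorem Z_le_line {b : G} (hb : F ≤ cj b V) : zc (S : Subgroup G) ≤ cj b V := by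
  obtain ⟨g, hg, hF⟩ := f.eq
  have h1 := h.point_le hg (by rw [hF]; exact f.ne_bot h) (by rw [hF]; exact f.syl) f.J_le
    (l := 1) (one_mem _) (by rw [cj_one]; exact f.T_le) (b := b) (by rw [hF]; exact hb)
  rwa [cj_one] at h1

theorem Z_le : zc (S : Subgroup G) ≤ F := by
  obtain ⟨g, hg, hF⟩ := f.eq
  rw [← hF]
  exact le_inf h.Z_le (f.Z_le_line h (by rw [← hF]; exact inf_le_right))

omit h in
/-- Two different lines through `F` meet in `F`. -/
theorem inf_eq {a b : G} (hne : cj a V ≠ cj b V) (ha : F ≤ cj a V) (hb : F ≤ cj b V) :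
    cj a V ⊓ cj b V = F := by
  refine (eq_of_le_of_card_ge (le_inf ha hb) ?_).symm
  have h1 := f.max (a⁻¹ * b) (by
    intro h0
    apply hne
    have h1 := congrArg (cj a) h0
    rw [cj_cj, mul_inv_cancel_left] at h1
    exact h1.symm)
  have h2 : cj a (V ⊓ cj (a⁻¹ * b) V) = cj a V ⊓ cj b V := by
    rw [cj_inf, cj_cj, mul_inv_cancel_left]
  rw [← h2, card_cj]
  exact h1

theorem comm_line {a b : G} (ha : F ≤ cj a V) (hb : F ≤ cj b V) :
    cj a V ≤ centralizer ((cj b V : Subgroup G) : Set G) :=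
  h.comm_of_inter fun h0 => f.ne_bot h (le_bot_iff.1 ((le_inf ha hb).trans h0.le))

omit [Finite G] h in
theorem T_eq : (S : Subgroup G) ⊓ centralizer (F : Set G) = T :=
  f.syl.2.2 _ inf_le_right (S.isPGroup'.to_le inf_le_left) (le_inf f.T_le f.syl.1)

omit [Finite G] h in
theorem Q0_le : (S : Subgroup G) ⊓ centralizer (V : Set G) ≤ T := by
  rw [← f.T_eq]
  exact inf_le_inf_left _ (centralizer_le f.F_le)

theorem V_le_T : V ≤ T := (le_inf h.le_S h.comm).trans f.Q0_le

/-- `C_V(T) = F` -/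
theorem inf_cent : V ⊓ centralizer (T : Set G) = F := by
  apply le_antisymm
  · obtain ⟨g, hg, hF⟩ := f.eq
    have h1 := h.emp g hg (by rw [hF]; exact f.ne_bot h) T (by rw [hF]; exact f.syl) f.J_le g inf_le_right
    rw [← hF]
    exact le_inf inf_le_left h1
  · exact le_inf f.F_le (cent_symm f.syl.1)

theorem T_le_L : T ≤ normalizer (V : Set G) := f.T_le.trans h.S_le

theorem not_T_cent : ¬ T ≤ centralizer (V : Set G) := by
  intro h0
  apply f.F_ne_V
  rw [← f.inf_cent h]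
  exact inf_eq_left.2 (cent_symm h0)

/-- `|V : F| ≥ 4` -/
theorem four_le : 4 ≤ F.relIndex V := by
  -- `t ∈ T - C(V)` with `t² ∈ C(V)`
  obtain ⟨t, ht, htV, ht2⟩ : ∃ t ∈ T, t ∉ centralizer (V : Set G) ∧ t ^ 2 ∈ centralizer (V : Set G) := by
    have h1 := f.not_T_cent h
    rw [SetLike.not_le_iff_exists] at h1
    obtain ⟨s, hs, hsV⟩ := h1
    obtain ⟨k, hk⟩ := f.isPGroup_T ⟨s, hs⟩
    have hk' : s ^ 2 ^ k = 1 := congrArg Subtype.val hk
    have hex : ∃ k, s ^ 2 ^ k ∈ centralizer (V : Set G) := ⟨k, by rw [hk']; exact one_mem _⟩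
    classical
    obtain ⟨m, hm⟩ : ∃ m, Nat.find hex = m + 1 := by
      refine Nat.exists_eq_succ_of_ne_zero fun h0 => hsV ?_
      have h2 := Nat.find_spec hex
      rw [h0] at h2
      simpa using h2
    refine ⟨s ^ 2 ^ m, pow_mem hs _, Nat.find_min hex (by omega), ?_⟩
    have h2 := Nat.find_spec hex
    rw [hm] at h2
    rw [← pow_mul, ← pow_succ]
    exact h2
  have hA : zpowers t ≤ T := (zpowers_le).2 ht
  have hpA : IsPGroup 2 (zpowers t) := f.isPGroup_T.to_le hA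
  have h1 := h.nff (zpowers t) hpA (hA.trans (f.T_le_L h)) (by
    intro a ha
    obtain ⟨k, rfl⟩ := mem_zpowers_iff.1 ha
    have e : (t ^ k) ^ 2 = (t ^ 2) ^ k := by
      rw [← zpow_natCast, ← zpow_natCast, ← zpow_mul, ← zpow_mul, mul_comm]
    rw [e]
    exact zpow_mem ht2 k) (by
    intro a ha b hb
    obtain ⟨k, rfl⟩ := mem_zpowers_iff.1 ha
    obtain ⟨l, rfl⟩ := mem_zpowers_iff.1 hb
    have e : t ^ k * t ^ l * (t ^ k)⁻¹ * (t ^ l)⁻¹ = 1 := by group
    rw [e]
    exact one_mem _) (fun h0 => htV (h0 (mem_zpowers t)))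
  -- `|A : C_A(V)| ≥ 2`
  have h2 : 2 ≤ (centralizer (V : Set G)).relIndex (zpowers t) := by
    have h3 : (centralizer (V : Set G)).relIndex (zpowers t) ≠ 0 := index_ne_zero_of_finite
    have h4 : (centralizer (V : Set G)).relIndex (zpowers t) ≠ 1 := fun h0 =>
      htV ((relIndex_eq_one.1 h0) (mem_zpowers t))
    omega
  -- `|V : C_V(A)| ≤ |V : F|`
  have h3 : (centralizer ((zpowers t : Subgroup G) : Set G)).relIndex V ∣ F.relIndex V := by
    have h4 : F ≤ centralizer ((zpowers t : Subgroup G) : Set G) :=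
      (cent_symm f.syl.1).trans (centralizer_le hA)
    exact relIndex_dvd_of_le_left V h4
  have h4 : F.relIndex V ≠ 0 := index_ne_zero_of_finite
  have h5 := Nat.le_of_dvd (Nat.pos_of_ne_zero h4) h3
  -- it is a power of 2
  obtain ⟨n, hn⟩ := h.isPGroup.index (F.subgroupOf V)
  have h6 : F.relIndex V = 2 ^ n := hn
  have h7 : 2 < 2 ^ n := by omega
  have h8 : 2 ≤ n := by
    by_contra h0
    have : n ≤ 1 := by omega
    have : 2 ^ n ≤ 2 ^ 1 := Nat.pow_le_pow_right (by norm_num) this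
    omega
  have h9 : 2 ^ 2 ≤ 2 ^ n := Nat.pow_le_pow_right (by norm_num) h8
  omega

end Flat

end basic

end Cfsg.Agent.Omega.NO3b.EZero

end

section


/-!
# Leaf (3b-E), THEOREM E0 (helper99, #13645), part 2: the second parabolic

`F = V ∩ V^g` is a maximal flat, `T = C_S(F)` (`Flat S V F T`).

* `Par V F T P` : `P` is minimal among the subgroups of `C_G(F)` which contain `T` and do not lie in `L`;
  `Flat.exists_par`;
* `Par.isMinPar`, `Par.syl`, `Par.min_or` (MIN);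
* `Par.V_le_o2`, `Par.U_le_o2`, `Par.U_comm`, `Par.U_sq` for `U = ⟨V^P⟩`;
* `Par.inf_line` : `V ∩ V^x = F` for `x ∈ P - L`; `Par.inf_cent_oddGen` : `C_V(O²(P)) = F`;
* `Par.inf_cent_U` : `C_T(U) ≤ O₂(P)`;
* `Par.nonloc` : no nontrivial 2-subgroup is normalised by `L₀` and `P`;
* `Emp`, `Hyp.of_emp`, `Par.cent_T_le` : EMP in the strong form, `C_U(T) ≤ C(O²(P))`;
* `Hyp.le_Q0`, `Hyp.o2_L0` : `O₂(L₀) = C_S(V)` contains the 2-subgroups of `L₀` which centralise `V`.
-/

set_option autoImplicit false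

namespace Cfsg.Agent.Omega.NO3b.EZero

open Subgroup Cfsg Cfsg.Agent.ZN Cfsg.Agent.ZN.ChoiceBase Cfsg.Agent.ZN.ChoiceSit
open Cfsg.Agent.MinSimple.EmptyTI (jcl cj_le_jcl le_jcl jcl_le jcl_mono jcl_cj cj_jcl le_normalizer_jcl
  jcl_le_self exists_conj_jj le_normalizer_jj frattini_jcl syl_of_le)
open Cfsg.Agent.MinSimple.MinParabolic (IsMinPar)
open Cfsg.Agent.MinSimple.VModule (oddGen oddGen_le mem_oddGen le_normalizer_oddGen oddGen_le_of_sup)

universe u

variable {G : Type u} [Group G]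

/-- `⟨V^P⟩` -/
def cl (V P : Subgroup G) : Subgroup G := ⨆ p : P, cj (p : G) V

theorem cj_le_cl {V P : Subgroup G} {p : G} (hp : p ∈ P) : cj p V ≤ cl V P :=
  le_iSup (fun p : P => cj (p : G) V) ⟨p, hp⟩

theorem le_cl (V P : Subgroup G) : V ≤ cl V P := by
  have h1 := cj_le_cl (V := V) (P.one_mem)
  rwa [cj_one] at h1

theorem cl_le {V P A : Subgroup G} (h : ∀ p ∈ P, cj p V ≤ A) : cl V P ≤ A := iSup_le fun p => h p p.2

theorem cj_iSup {ι : Sort*} (g : G) (B : ι → Subgroup G) : cj g (⨆ i, B i) = ⨆ i, cj g (B i) :=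
  Subgroup.map_iSup _ _

theorem cj_cl {V P : Subgroup G} {p : G} (hp : p ∈ P) : cj p (cl V P) = cl V P := by
  have key : ∀ p ∈ P, cj p (cl V P) ≤ cl V P := by
    intro p hp
    unfold cl
    rw [cj_iSup]
    refine iSup_le fun q => ?_
    rw [cj_cj]
    exact cj_le_cl (P.mul_mem hp q.2)
  apply le_antisymm (key p hp)
  have h1 := cj_mono p (key p⁻¹ (P.inv_mem hp))
  rwa [cj_cj_inv] at h1

theorem le_normalizer_cl (V P : Subgroup G) : P ≤ normalizer (cl V P : Set G) := fun _ hp =>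
  mem_normalizer_iff_cj.2 (cj_cl hp)

theorem le_normalizer_inf_cent {P A : Subgroup G} (h : P ≤ normalizer (A : Set G)) :
    P ≤ normalizer ((P ⊓ centralizer (A : Set G) : Subgroup G) : Set G) := by
  intro p hp
  rw [mem_normalizer_iff_cj, cj_inf, cj_centralizer, mem_normalizer_iff_cj.1 (h hp),
    cj_eq_of_mem_normalizer (Subgroup.le_normalizer hp)]

/-- An abelian subgroup generated by elements of order at most 2 has exponent 2. -/
theorem sq_of_comm {A : Subgroup G} (hA : A ≤ centralizer (A : Set G)) {ι : Sort*} {B : ι → Subgroup G}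
    (h : ∀ i, B i ≤ A) (hA' : A ≤ ⨆ i, B i) (hB : ∀ i, ∀ b ∈ B i, b ^ 2 = 1) : ∀ a ∈ A, a ^ 2 = 1 := by
  let E : Subgroup G :=
    { carrier := {x | x ∈ A ∧ x ^ 2 = 1}
      one_mem' := ⟨one_mem _, one_pow 2⟩
      mul_mem' := by
        rintro x y ⟨hx, hx2⟩ ⟨hy, hy2⟩
        refine ⟨mul_mem hx hy, ?_⟩
        have h1 : Commute x y := (mem_centralizer_iff.1 (hA hx) y hy).symm
        rw [h1.mul_pow, hx2, hy2, one_mul]
      inv_mem' := by
        rintro x ⟨hx, hx2⟩
        exact ⟨inv_mem hx, by rw [inv_pow, hx2, inv_one]⟩ }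
  have h1 : (⨆ i, B i) ≤ E := iSup_le fun i b hb => ⟨h i hb, hB i b hb⟩
  exact fun a ha => (h1 (hA' ha)).2

/-- `P = O²(P) T` -/
theorem oddGen_sup_syl [Finite G] {P S : Subgroup G} (hS : Syl S P) : oddGen P ⊔ S = P := by
  have : Fact (Nat.Prime 2) := ⟨Nat.prime_two⟩
  have hSyl := syl_not_dvd hS
  apply le_antisymm (sup_le (oddGen_le P) hS.1)
  have hN : ((oddGen P).subgroupOf P).Normal := normal_subgroupOf_of_le_normalizer (le_normalizer_oddGen P)
  have h1 : IsPGroup 2 (P ⧸ (oddGen P).subgroupOf P) := by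
    intro q
    obtain ⟨x, rfl⟩ := QuotientGroup.mk_surjective q
    obtain ⟨a, m, hm, ha⟩ := Nat.exists_eq_pow_mul_and_not_dvd (orderOf_pos (x : G)).ne' 2 (by norm_num)
    refine ⟨a, ?_⟩
    rw [← QuotientGroup.mk_pow, QuotientGroup.eq_one_iff, mem_subgroupOf]
    refine mem_oddGen (P.pow_mem x.2 _) ?_
    have hm0 : 0 < m := Nat.pos_of_ne_zero (by rintro rfl; simp at hm)
    have h2 : orderOf ((x : G) ^ 2 ^ a) = m := by
      rw [orderOf_pow_of_dvd (by positivity) (ha ▸ Dvd.intro _ rfl), ha, Nat.mul_div_cancel_left _ (by positivity)]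
    rw [coe_pow, h2]
    exact Nat.not_even_iff_odd.1 fun h => hm h.two_dvd
  obtain ⟨k, hk⟩ := IsPGroup.iff_card.1 h1
  have h2 : (oddGen P ⊔ S).relIndex P ∣ 2 ^ k := by
    have h3 : (oddGen P ⊔ S).relIndex P ∣ (oddGen P).relIndex P := relIndex_dvd_of_le_left _ le_sup_left
    have h4 : (oddGen P).relIndex P = 2 ^ k := by
      rw [← hk, relIndex, index_eq_card]
    rwa [h4] at h3
  obtain ⟨j, -, hj⟩ := (Nat.dvd_prime_pow Nat.prime_two).1 h2
  have h5 : (oddGen P ⊔ S).relIndex P ∣ S.relIndex P := relIndex_dvd_of_le_left _ le_sup_right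
  rw [hj] at h5
  rcases Nat.eq_zero_or_pos j with rfl | hj0
  · rw [pow_zero] at hj
    exact relIndex_eq_one.1 hj
  · exact absurd ((dvd_pow_self 2 hj0.ne').trans h5) hSyl

/-- **(5)** `P` is minimal among the subgroups of `C_G(F)` which contain `T` and do not normalise `V`. -/
structure Par (V F T P : Subgroup G) : Prop where
  T_le : T ≤ P
  le : P ≤ centralizer (F : Set G)
  nle : ¬ P ≤ normalizer (V : Set G)
  min : ∀ M, T ≤ M → M ≤ P → M ≠ P → M ≤ normalizer (V : Set G)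

section

variable [Finite G] {S : Sylow 2 G} {V F T P : Subgroup G}

theorem Flat.exists_mem (f : Flat S V F T) (h : Hyp S V) : ∃ c ∈ centralizer (F : Set G),
    c ∉ normalizer (V : Set G) := by
  obtain ⟨g, hg, hF⟩ := f.eq
  obtain ⟨c, hc, hcg⟩ := h.exists_c (D := F) f.F_le (g := g) (by rw [← hF]; exact inf_le_right)
  refine ⟨c, h.jcl_le_cent f.F_le hc, fun h0 => hg ?_⟩
  rw [← hcg, mem_normalizer_iff_cj.1 h0]

theorem Flat.exists_par (f : Flat S V F T) (h : Hyp S V) : ∃ P, Par V F T P := by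
  obtain ⟨c, hc, hcV⟩ := f.exists_mem h
  have h0 : (centralizer (F : Set G)) ∈ {P : Subgroup G | T ≤ P ∧ P ≤ centralizer (F : Set G) ∧
      ¬ P ≤ normalizer (V : Set G)} := ⟨f.syl.1, le_rfl, fun h1 => hcV (h1 hc)⟩
  obtain ⟨P, hP, hmin⟩ := Set.exists_min_image {P : Subgroup G | T ≤ P ∧ P ≤ centralizer (F : Set G) ∧
      ¬ P ≤ normalizer (V : Set G)} (fun P => Nat.card P) (Set.toFinite _) ⟨_, h0⟩
  refine ⟨P, hP.1, hP.2.1, hP.2.2, fun M hTM hMP hne => ?_⟩
  by_contra hcon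
  exact hne (eq_of_le_of_card_ge hMP (hmin M ⟨hTM, hMP.trans hP.2.1, hcon⟩))

namespace Par

variable (p : Par V F T P) (f : Flat S V F T) (h : Hyp S V)
include p f h

omit [Finite G] h in
theorem syl : Syl T P := by
  refine ⟨p.T_le, f.isPGroup_T, fun Q hQ hp hle => f.syl.2.2 Q (hQ.trans p.le) hp hle⟩

theorem isMinPar : IsMinPar T P := by
  refine ⟨p.T_le, fun h0 => p.nle ?_, P ⊓ normalizer (V : Set G), ?_, fun K hK hKP =>
    le_inf hKP.le (p.min K hK hKP.le hKP.ne)⟩
  · refine h0.trans ((normalizer_le_jj T).trans ?_)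
    rw [MinSimple.EmptyTI.jj_eq S f.isPGroup_T f.J_le]
    exact h.NJ_le
  · exact lt_of_le_of_ne inf_le_left fun h1 => p.nle (inf_eq_left.1 h1)

/-- **(MIN)** a normal subgroup `K` of `P` satisfies `P = K T` or `K ∩ T ≤ O₂(P)`. -/
theorem min_or {K : Subgroup G} (hK : K ≤ P) (hKn : P ≤ normalizer (K : Set G)) :
    K ⊔ T = P ∨ T ⊓ K ≤ o2 P := by
  have : Fact (Nat.Prime 2) := ⟨Nat.prime_two⟩
  exact (p.isMinPar f h).sup_eq_or_inf_le f.isPGroup_T (syl_not_dvd (p.syl f)) hK hKn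

/-- a normal subgroup `K ≤ N(V)` of `P` has `K ∩ T ≤ O₂(P)` -/
theorem inf_le_of_le {K : Subgroup G} (hK : K ≤ P) (hKn : P ≤ normalizer (K : Set G))
    (hKV : K ≤ normalizer (V : Set G)) : T ⊓ K ≤ o2 P := by
  rcases p.min_or f h hK hKn with h1 | h1
  · exfalso
    apply p.nle
    rw [← h1]
    exact sup_le hKV (f.T_le_L h)
  · exact h1

omit h in
theorem o2_le_T : o2 P ≤ T := o2_le_syl (p.syl f)

/-- `V ≤ O₂(P)` -/
theorem V_le_o2 : V ≤ o2 P := by
  have hVP : V ≤ P := (f.V_le_T h).trans p.T_le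
  have hPZ : P ≤ centralizer (zc (S : Subgroup G) : Set G) := p.le.trans (centralizer_le (f.Z_le h))
  have h1 : o2 (centralizer (zc (S : Subgroup G) : Set G)) ⊓ P ≤ o2 P := by
    refine ChoiceSit.le_o2 ((ChoiceSit.isPGroup_o2 _).to_le inf_le_left) inf_le_right ?_
    intro x hx
    rw [mem_normalizer_iff_cj, cj_inf, cj_eq_of_mem_normalizer (Subgroup.le_normalizer hx),
      cj_eq_of_mem_normalizer (ChoiceSit.le_normalizer_o2 _ (hPZ hx))]
  exact (le_inf h.low hVP).trans h1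

theorem line_le_o2 {x : G} (hx : x ∈ P) : cj x V ≤ o2 P := by
  have h1 := cj_mono x (p.V_le_o2 f h)
  rwa [cj_eq_of_mem_normalizer (ChoiceSit.le_normalizer_o2 _ hx)] at h1

/-- `⟨V^P⟩ ≤ O₂(P)` -/
theorem U_le_o2 : cl V P ≤ o2 P := cl_le fun _ hx => p.line_le_o2 f h hx

omit [Finite G] f h in
theorem cj_F {x : G} (hx : x ∈ P) : cj x F = F :=
  cj_eq_of_mem_normalizer (centralizer_le_normalizer _ (p.le hx))

omit [Finite G] h in
theorem F_le_line {x : G} (hx : x ∈ P) : F ≤ cj x V := by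
  have h1 := cj_mono x f.F_le
  rwa [p.cj_F hx] at h1

theorem U_comm : cl V P ≤ centralizer (cl V P : Set G) :=
  cl_le fun _ hx => cent_symm (cl_le fun _ hy => f.comm_line h (p.F_le_line f hy) (p.F_le_line f hx))

theorem U_sq : ∀ u ∈ cl V P, u ^ 2 = 1 :=
  sq_of_comm (p.U_comm f h) (fun i : P => cj_le_cl i.2) le_rfl fun i => h.cj_sq i

omit h in
/-- `V ∩ V^x = F` for `x ∈ P - N(V)` -/
theorem inf_line {x : G} (hx : x ∈ P) (hxV : x ∉ normalizer (V : Set G)) : V ⊓ cj x V = F := by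
  have h1 := f.inf_eq (a := 1) (b := x) (by
    rw [cj_one]
    exact fun h0 => hxV (mem_normalizer_iff_cj.2 h0.symm)) (by rw [cj_one]; exact f.F_le) (p.F_le_line f hx)
  rwa [cj_one] at h1

omit h in
theorem inf_lines {x y : G} (hx : x ∈ P) (hy : y ∈ P) (hne : cj x V ≠ cj y V) : cj x V ⊓ cj y V = F :=
  f.inf_eq hne (p.F_le_line f hx) (p.F_le_line f hy)

omit h in
/-- `P = O²(P) T` -/
theorem sup_T : oddGen P ⊔ T = P := oddGen_sup_syl (p.syl f)

theorem oddGen_nle : ¬ oddGen P ≤ normalizer (V : Set G) := by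
  intro h0
  apply p.nle
  rw [← p.sup_T f]
  exact sup_le h0 (f.T_le_L h)

/-- MIN with `O²(P)`: a normal subgroup `K` of `P` contains `O²(P)` or has `K ∩ T ≤ O₂(P)`. -/
theorem min_or' {K : Subgroup G} (hK : K ≤ P) (hKn : P ≤ normalizer (K : Set G)) :
    oddGen P ≤ K ∨ T ⊓ K ≤ o2 P := by
  rcases p.min_or f h hK hKn with h1 | h1
  · exact Or.inl (oddGen_le_of_sup hKn h1.ge p.T_le hK f.isPGroup_T)
  · exact Or.inr h1

/-- `C_V(O²(P)) = F` -/
theorem inf_cent_oddGen : V ⊓ centralizer (oddGen P : Set G) = F := by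
  apply le_antisymm
  · have h1 := p.oddGen_nle f h
    rw [SetLike.not_le_iff_exists] at h1
    obtain ⟨x, hx, hxV⟩ := h1
    rw [← p.inf_line f (oddGen_le P hx) hxV]
    refine le_inf inf_le_left ?_
    intro v hv
    have h2 := mem_centralizer_iff.1 hv.2 x hx
    rw [mem_cj, mul_assoc, ← h2, inv_mul_cancel_left]
    exact hv.1
  · exact le_inf f.F_le ((cent_symm p.le).trans (centralizer_le (oddGen_le P)))

/-- the elements of `T` which centralise `U = ⟨V^P⟩` lie in `O₂(P)` -/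
theorem inf_cent_U : T ⊓ centralizer (cl V P : Set G) ≤ o2 P := by
  have h1 := p.inf_le_of_le f h (K := P ⊓ centralizer (cl V P : Set G)) inf_le_left
    (le_normalizer_inf_cent (le_normalizer_cl V P))
    ((inf_le_right.trans (centralizer_le (le_cl V P))).trans (centralizer_le_normalizer _))
  exact (le_inf inf_le_left (le_inf (inf_le_left.trans p.T_le) inf_le_right)).trans h1

omit f in
/-- no nontrivial 2-subgroup is normalised by `L₀` and `P` -/
theorem nonloc {R : Subgroup G} (hR : IsPGroup 2 R)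
    (h1 : normalizer (((S : Subgroup G) ⊓ centralizer (V : Set G) : Subgroup G) : Set G) ≤
      normalizer (R : Set G)) (h2 : P ≤ normalizer (R : Set G)) : R = ⊥ := by
  by_contra hne
  exact p.nle (h2.trans (h.loc_le ⟨R, hR, hne, rfl⟩ h1))

omit f in
/-- `J ≰ O₂(P)` -/
theorem J_nle : ¬ jj (S : Subgroup G) ≤ o2 P := by
  intro h0
  apply p.nle
  have h1 : P ≤ normalizer ((jj (o2 P) : Subgroup G) : Set G) :=
    (ChoiceSit.le_normalizer_o2 P).trans (normalizer_le_jj (o2 P))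
  rw [MinSimple.EmptyTI.jj_eq S (ChoiceSit.isPGroup_o2 P) h0] at h1
  exact h1.trans h.NJ_le

/-- `O²(P) ≤ ⟨J^P⟩` -/
theorem oddGen_le_jcl : oddGen P ≤ jcl (jj (S : Subgroup G)) P := by
  have hJP : jj (S : Subgroup G) ≤ P := f.J_le.trans p.T_le
  rcases p.min_or' f h (jcl_le_self hJP) (le_normalizer_jcl _ _) with h1 | h1
  · exact h1
  · exact absurd ((le_inf f.J_le (le_jcl _ _)).trans h1) (p.J_nle h)

end Par

/-- EMP for `D = V ∩ V^g`: `⟨J^{C_G(D)}⟩` centralises `Ω₁(Z(T))`, `J ≤ T ∈ Syl₂(C_G(D))`. -/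
def Emp (S : Sylow 2 G) (V : Subgroup G) : Prop :=
  ∀ g : G, cj g V ≠ V → V ⊓ cj g V ≠ ⊥ → ∀ T : Subgroup G,
    Syl T (centralizer ((V ⊓ cj g V : Subgroup G) : Set G)) → jj (S : Subgroup G) ≤ T →
    jcl (jj (S : Subgroup G)) (centralizer ((V ⊓ cj g V : Subgroup G) : Set G)) ≤
      centralizer ((zc T : Subgroup G) : Set G)

/-- The hypotheses of THEOREM E0 with the strong form of EMP. -/
theorem Hyp.of_emp (h1 : V = zl (S : Subgroup G) (normalizer ((jj (S : Subgroup G) : Subgroup G) : Set G)))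
    (h2 : NotFF V) (h3 : Emp S V)
    (h4 : ∀ H : Subgroup G, IsTwoLocal H → (S : Subgroup G) ≤ H →
      jj (S : Subgroup G) ≤ centralizer ((zl (S : Subgroup G) H : Subgroup G) : Set G))
    (h5 : V ≤ o2 (centralizer (zc (S : Subgroup G) : Set G)))
    (h6 : ¬ centralizer (zc (S : Subgroup G) : Set G) ≤ normalizer (V : Set G)) : Hyp S V := by
  have hN : normalizer ((jj (S : Subgroup G) : Subgroup G) : Set G) ≤ normalizer (V : Set G) := by
    have h1' := MinSimple.VModule.le_normalizer_zl (S : Subgroup G)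
      (normalizer ((jj (S : Subgroup G) : Subgroup G) : Set G))
    rwa [← h1] at h1'
  have hzj : V ≤ zj (S : Subgroup G) := by
    rw [h1]
    refine iSup_le fun g => ?_
    have h1' : cj (g : G) (zj (S : Subgroup G)) = zj (S : Subgroup G) := by
      rw [← zj_cj]
      refine zj_congr ?_
      rw [jj_cj, mem_normalizer_iff_cj.1 g.2]
    have h2' := cj_mono (g : G) (zc_le_zj (S : Subgroup G))
    rwa [h1'] at h2'
  have hJ : jj (S : Subgroup G) ≤ centralizer (V : Set G) := by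
    intro j hj
    rw [mem_centralizer_iff]
    intro v hv
    exact ((mem_zj.1 (hzj hv)).2.2 j hj).symm
  refine ⟨h1, h2, fun g hg hD T hT hJT b hb => ?_, h4, h5, h6⟩
  have hD1 : jj (S : Subgroup G) ≤ centralizer ((V ⊓ cj g V : Subgroup G) : Set G) :=
    hJ.trans (centralizer_le inf_le_left)
  have hD2 : cj b (jj (S : Subgroup G)) ≤ centralizer ((V ⊓ cj g V : Subgroup G) : Set G) :=
    (cj_cent hJ).trans (centralizer_le hb)
  obtain ⟨x, hx, hxg⟩ := exists_conj_jj S hD1 hD2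
  have h3' : cj b (jj (S : Subgroup G)) ≤
      jcl (jj (S : Subgroup G)) (centralizer ((V ⊓ cj g V : Subgroup G) : Set G)) := by
    rw [← hxg]; exact cj_le_jcl hx
  obtain ⟨c, hc, hcg⟩ := exists_conj_jj S (le_jcl _ _) h3'
  have hcb : cj c V = cj b V := cj_eq_cj_iff.2 (hN (cj_eq_cj_iff.1 hcg))
  intro v hv
  have hvz : v ∈ zc T := by
    refine mem_zc.2 ⟨?_, (mem_zj.1 (hzj hv.1)).2.1, fun t ht => ((mem_centralizer_iff.1 hv.2) t ht)⟩
    exact hJT (mem_zj.1 (hzj hv.1)).1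
  have h5' := mem_centralizer_iff.1 (h3 g hg hD T hT hJT hc) v hvz
  rw [← hcb, mem_cj, mul_assoc, h5', inv_mul_cancel_left]
  exact hv.1

/-- **(A7)** EMP ⟹ `C_U(T) ≤ C(O²(P))`, `U = ⟨V^P⟩`. -/
theorem Par.cent_T_le (p : Par V F T P) (f : Flat S V F T) (h : Hyp S V) (he : Emp S V) :
    cl V P ⊓ centralizer (T : Set G) ≤ centralizer (oddGen P : Set G) := by
  obtain ⟨g, hg, hF⟩ := f.eq
  have h1 := he g hg (by rw [hF]; exact f.ne_bot h) T (by rw [hF]; exact f.syl) f.J_le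
  rw [hF] at h1
  have h2 : oddGen P ≤ centralizer ((zc T : Subgroup G) : Set G) :=
    ((p.oddGen_le_jcl f h).trans (jcl_mono p.le)).trans h1
  refine le_trans ?_ (cent_symm h2)
  intro x hx
  refine mem_zc.2 ⟨p.o2_le_T f (p.U_le_o2 f h hx.1), p.U_sq f h x hx.1, fun t ht => ?_⟩
  exact (mem_centralizer_iff.1 hx.2) t ht

namespace Hyp

variable (h : Hyp S V)
include h

/-- **(A5)** the 2-subgroups of `L₀` which centralise `V` lie in `C_S(V)`. -/
theorem le_Q0 {R : Subgroup G} (hR : IsPGroup 2 R)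
    (h1 : R ≤ normalizer (((S : Subgroup G) ⊓ centralizer (V : Set G) : Subgroup G) : Set G))
    (h2 : R ≤ centralizer (V : Set G)) : R ≤ (S : Subgroup G) ⊓ centralizer (V : Set G) := by
  have h3 : IsPGroup 2 (((S : Subgroup G) ⊓ centralizer (V : Set G)) ⊔ R : Subgroup G) := by
    rw [sup_comm]
    exact hR.to_sup_of_normal_right' isPGroup_Q0 h1
  have h4 := h.syl_Q0.2.2 _ (sup_le inf_le_right h2) h3 le_sup_left
  exact le_sup_right.trans h4.le

/-- `V = ⟨Z^{L₀}⟩` -/
theorem V_eq_cl : cl (zc (S : Subgroup G))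
    (normalizer (((S : Subgroup G) ⊓ centralizer (V : Set G) : Subgroup G) : Set G)) = V := by
  apply le_antisymm
  · refine cl_le fun l hl => ?_
    have h2 := cj_mono l h.Z_le
    rwa [mem_normalizer_iff_cj.1 (h.NJ_le (h.L0_le hl))] at h2
  · conv_lhs => rw [h.eq]
    refine iSup_le fun n => ?_
    obtain ⟨c, hc, hcn⟩ := h.frattini (h.NJ_le n.2)
    have e : (n : G) = c * (c⁻¹ * n) := by group
    have h1 : cj (c⁻¹ * n) (zc (S : Subgroup G)) ≤ V := by
      have h2 := cj_mono (c⁻¹ * n) h.Z_le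
      rwa [mem_normalizer_iff_cj.1 (h.NJ_le (h.L0_le hcn))] at h2
    have h2 : cj c (cj (c⁻¹ * n) (zc (S : Subgroup G))) = cj (c⁻¹ * n) (zc (S : Subgroup G)) :=
      cj_eq_of_mem_normalizer (centralizer_le_normalizer _ (centralizer_le h1 hc))
    change cj (n : G) (zc (S : Subgroup G)) ≤ _
    rw [e, ← cj_cj, h2]
    exact cj_le_cl hcn

/-- `O₂(L₀) = C_S(V)` -/
theorem o2_L0 : o2 (normalizer (((S : Subgroup G) ⊓ centralizer (V : Set G) : Subgroup G) : Set G)) =
    (S : Subgroup G) ⊓ centralizer (V : Set G) := by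
  apply le_antisymm
  · refine h.le_Q0 (ChoiceSit.isPGroup_o2 _) (ChoiceSit.o2_le _) ?_
    refine cent_symm ?_
    conv_lhs => rw [← h.V_eq_cl]
    refine cl_le fun l hl => ?_
    have h1 : zc (S : Subgroup G) ≤ centralizer ((o2 (normalizer (((S : Subgroup G) ⊓
        centralizer (V : Set G) : Subgroup G) : Set G)) : Subgroup G) : Set G) := by
      refine le_trans (fun z hz => ?_) (centralizer_le (o2_le_syl (syl_of_le h.S_le_L0)))
      rw [mem_centralizer_iff]
      exact fun s hs => (mem_zc.1 hz).2.2 s hs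
    have h2 := cj_cent (g := l) h1
    rwa [cj_eq_of_mem_normalizer (ChoiceSit.le_normalizer_o2 _ hl)] at h2
  · exact ChoiceSit.le_o2 isPGroup_Q0 Subgroup.le_normalizer le_rfl

/-- `V ≤ C_S(V)` -/
theorem V_le_Q0 : V ≤ (S : Subgroup G) ⊓ centralizer (V : Set G) := le_inf h.le_S h.comm

/-- `L₀ ≤ N(V)` -/
theorem L0_le_L : normalizer (((S : Subgroup G) ⊓ centralizer (V : Set G) : Subgroup G) : Set G) ≤
    normalizer (V : Set G) := h.L0_le.trans h.NJ_le

end Hyp

end

end Cfsg.Agent.Omega.NO3b.EZero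

end

section


/-!
# The dual offender (NO-3b, helper857)

`P = R S`, `S` a 2-group, `O = [O, R]` normal in `P`, `X` an elementary abelian normal 2-subgroup of `P`,
`H` a normal subgroup of `P` in `X` centralised by `R` and `O`, `[X, O] ≤ H`, `[X, O] ≠ 1`, and for every
normal subgroup `Y` of `P` with `H ≤ Y ≤ X` either `Y = H` or `[X, R] ≤ Y` (`X / H` irreducible, or: `X` has
only one noncentral chief factor, `H = C_X(R)`). Then `|Y : Y ∩ H| ≤ |O : C_O(Y)|` for EVERY subgroup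
`Y ≤ X`, and `C_X(O) = H`: `O` induces a quadratic FF-offender on every `O`-invariant subgroup `Y` of `X`
not contained in `H`. (helper857 #12910, in this generality helper329 #12800 (C2) (iii).)
-/

set_option autoImplicit false

namespace Cfsg.Agent.Omega.NO3b.Dual

open Subgroup
open scoped commutatorElement

section Homs

/-- At most `|B : K|` homomorphisms `B → ℚ` are trivial on `K`. -/
theorem card_homs_le {B ι : Type*} [Group B] [Finite B] (K : Subgroup B) (χ : ι → B →* ℚ)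
    (hinj : Function.Injective χ) (hK : ∀ i, ∀ k ∈ K, χ i k = 1) : Nat.card ι ≤ K.index := by
  classical
  have : Fintype (B ⧸ K) := Fintype.ofFinite _
  let f : ι → (B ⧸ K) → ℚ := fun i c => χ i c.out
  have hf : ∀ (i : ι) (b : B), f i (b : B ⧸ K) = χ i b := by
    intro i b
    obtain ⟨h, hh⟩ := QuotientGroup.mk_out_eq_mul K b
    show χ i ((b : B ⧸ K).out) = χ i b
    rw [hh, map_mul, hK i h h.2, mul_one]
  have hli : LinearIndependent ℚ (fun i => (χ i : B → ℚ)) :=
    (linearIndependent_monoidHom B ℚ).comp χ hinj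
  let L : ((B ⧸ K) → ℚ) →ₗ[ℚ] (B → ℚ) := LinearMap.funLeft ℚ ℚ (fun b : B => (b : B ⧸ K))
  have hli2 : LinearIndependent ℚ f := by
    refine LinearIndependent.of_comp L ?_
    have h1 : (L ∘ f) = fun i => (χ i : B → ℚ) := by
      funext i b
      exact hf i b
    rw [h1]
    exact hli
  have h2 := hli2.finite
  have : Fintype ι := Fintype.ofFinite _
  have h3 := hli2.fintype_card_le_finrank
  rw [Module.finrank_fintype_fun_eq_card] at h3
  rw [Nat.card_eq_fintype_card, Subgroup.index, Nat.card_eq_fintype_card]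
  exact h3

end Homs

variable {G : Type*} [Group G]

/-- In a 2-group, `[M, P] < M` for `1 ≠ M` normal. -/
theorem commutator_lt {P M : Subgroup G} (hP : Group.IsNilpotent P)
    (hMP : M ≤ P) (hM : P ≤ normalizer (M : Set G)) (hM1 : M ≠ ⊥) : ⁅M, P⁆ < M := by
  have hle : ⁅M, P⁆ ≤ M := (le_normalizer_iff_commutator_le_left).1 hM
  refine lt_of_le_of_ne hle ?_
  intro h
  obtain ⟨n, hn⟩ := (Subgroup.isNilpotent_iff_lowerCentralSeries P).1 hP
  have key : ∀ k : ℕ, M ≤ P.lowerCentralSeries k := by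
    intro k
    induction k with
    | zero => exact hMP
    | succ k ih =>
      rw [Subgroup.lowerCentralSeries_succ, ← h]
      exact commutator_mono ih le_rfl
  have := key n
  rw [hn] at this
  exact hM1 (le_bot_iff.1 this)

/-- A proper subgroup of a 2-group lies in a subgroup of index 2. -/
theorem exists_two {D E : Subgroup G} [Finite G] (hD : IsPGroup 2 D) (hE : E < D) :
    ∃ M : Subgroup G, E ≤ M ∧ M ≤ D ∧ M.relIndex D = 2 := by
  have := Fact.mk Nat.prime_two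
  obtain ⟨n, hn⟩ := IsPGroup.iff_card.1 hD
  have hH2 : IsPGroup 2 (E.subgroupOf D) := hD.to_subgroup _
  obtain ⟨m, hm⟩ := IsPGroup.iff_card.1 hH2
  have hEc : Nat.card (E.subgroupOf D) = Nat.card E :=
    Nat.card_congr (Subgroup.subgroupOfEquivOfLe hE.le).toEquiv
  have hlt : Nat.card E < Nat.card D := by
    refine lt_of_le_of_ne (Subgroup.card_le_of_le hE.le) ?_
    intro h
    exact hE.ne (Subgroup.eq_of_le_of_card_ge hE.le h.ge)
  have hmn : m < n := by
    rw [← hEc, hm, hn] at hlt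
    exact (Nat.pow_lt_pow_iff_right (by norm_num)).1 hlt
  obtain ⟨K, hK, hHK⟩ := Sylow.exists_subgroup_card_pow_prime_le (G := D) 2 (n := m) (m := n - 1)
    (by rw [hn]; exact pow_dvd_pow 2 (by omega)) (E.subgroupOf D) hm (by omega)
  have hidx : K.index = 2 := by
    have h1 := K.card_mul_index
    rw [hK, hn] at h1
    have h2 : 2 ^ n = 2 ^ (n - 1) * 2 := by
      rw [← pow_succ]
      congr 1
      omega
    rw [h2] at h1
    exact Nat.eq_of_mul_eq_mul_left (by positivity) h1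
  refine ⟨K.map D.subtype, ?_, Subgroup.map_subtype_le K, ?_⟩
  · intro h hh
    exact ⟨⟨h, hE.le hh⟩, hHK (by rw [Subgroup.mem_subgroupOf]; exact hh), rfl⟩
  · have h1 : (K.map D.subtype).subgroupOf D = K :=
      Subgroup.comap_map_eq_self_of_injective D.subtype_injective K
    rw [Subgroup.relIndex, h1]
    exact hidx

/-- A nontrivial 2-group normalised by a 2-group `S` has an `S`-invariant subgroup of index 2. -/
theorem exists_inv_two [Finite G] {S D : Subgroup G} (hS : IsPGroup 2 S) (hD : IsPGroup 2 D)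
    (hSD : S ≤ normalizer (D : Set G)) (hD1 : D ≠ ⊥) :
    ∃ M : Subgroup G, M ≤ D ∧ S ≤ normalizer (M : Set G) ∧ M.relIndex D = 2 := by
  have := Fact.mk Nat.prime_two
  have hT : IsPGroup 2 (D ⊔ S : Subgroup G) := hD.to_sup_of_normal_left' hS hSD
  have hTn : Group.IsNilpotent (D ⊔ S : Subgroup G) := hT.isNilpotent
  have hDN : D ⊔ S ≤ normalizer (D : Set G) := sup_le le_normalizer hSD
  have h1 := commutator_lt hTn le_sup_left hDN hD1
  obtain ⟨M, hM1, hM2, hM3⟩ := exists_two hD h1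
  refine ⟨M, hM2, ?_, hM3⟩
  have h2 : S ≤ normalizer (M : Set G) := by
    intro s hs
    have h3 : ∀ m ∈ M, ∀ t ∈ S, t * m * t⁻¹ ∈ M := by
      intro m hm t ht
      have h4 : ⁅m, t⁆ ∈ M := hM1 (commutator_mem_commutator (hM2 hm) (mem_sup_right ht))
      have h5 : t * m * t⁻¹ = ⁅m, t⁆⁻¹ * m := by rw [commutatorElement_def]; group
      rw [h5]
      exact M.mul_mem (M.inv_mem h4) hm
    rw [mem_normalizer_iff]
    intro m
    refine ⟨fun hm => h3 m hm s hs, fun hm => ?_⟩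
    have h6 := h3 _ hm s⁻¹ (S.inv_mem hs)
    have h7 : s⁻¹ * (s * m * s⁻¹) * s⁻¹⁻¹ = m := by group
    rwa [h7] at h6
  exact h2

/-- `T` normalises `Y` as soon as `t y t⁻¹ ∈ Y`. -/
theorem le_norm {T Y : Subgroup G} (h : ∀ t ∈ T, ∀ y ∈ Y, t * y * t⁻¹ ∈ Y) :
    T ≤ normalizer (Y : Set G) := by
  intro t ht
  rw [mem_normalizer_iff]
  intro y
  refine ⟨fun hy => h t ht y hy, fun hy => ?_⟩
  have h1 := h t⁻¹ (T.inv_mem ht) _ hy
  have h2 : t⁻¹ * (t * y * t⁻¹) * t⁻¹⁻¹ = y := by group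
  rwa [h2] at h1

theorem norm_mem {T Y : Subgroup G} (h : T ≤ normalizer (Y : Set G)) {t y : G} (ht : t ∈ T)
    (hy : y ∈ Y) : t * y * t⁻¹ ∈ Y := (mem_normalizer_iff.mp (h ht) y).mp hy

theorem norm_mem' {T Y : Subgroup G} (h : T ≤ normalizer (Y : Set G)) {t y : G} (ht : t ∈ T)
    (hy : y ∈ Y) : t⁻¹ * y * t ∈ Y := by
  have h1 := norm_mem h (T.inv_mem ht) hy
  rwa [inv_inv] at h1

/-- The hypotheses of the dual offender lemma. -/
structure Dat (R S O X H : Subgroup G) : Prop where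
  sq : ∀ x ∈ X, x * x = 1
  le : H ≤ X
  two : IsPGroup 2 S
  rH : ∀ r ∈ R, ∀ h ∈ H, r * h = h * r
  oH : ∀ o ∈ O, ∀ h ∈ H, o * h = h * o
  rX : R ≤ normalizer (X : Set G)
  sX : S ≤ normalizer (X : Set G)
  rO : R ≤ normalizer (O : Set G)
  sO : S ≤ normalizer (O : Set G)
  sH : S ≤ normalizer (H : Set G)
  comm : ∀ x ∈ X, ∀ o ∈ O, ⁅x, o⁆ ∈ H
  irr : ∀ Y : Subgroup G, H ≤ Y → Y ≤ X → R ≤ normalizer (Y : Set G) → S ≤ normalizer (Y : Set G) →
    Y = H ∨ ⁅X, R⁆ ≤ Y
  OO : O ≤ ⁅O, R⁆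
  ne : ∃ x ∈ X, ∃ o ∈ O, x * o ≠ o * x

namespace Dat

variable {R S O X H : Subgroup G}

theorem ab (h : Dat R S O X H) {x y : G} (hx : x ∈ X) (hy : y ∈ X) : x * y = y * x := by
  have h1 := h.sq _ (X.mul_mem hx hy)
  have h2 := h.sq _ hx
  have h3 := h.sq _ hy
  have e1 : x⁻¹ = x := inv_eq_of_mul_eq_one_left h2
  have e2 : y⁻¹ = y := inv_eq_of_mul_eq_one_left h3
  have h4 : x * y = (x * y)⁻¹ := (inv_eq_of_mul_eq_one_left h1).symm
  rw [h4, mul_inv_rev, e1, e2]

theorem conj_eq (h : Dat R S O X H) {x y : G} (hx : x ∈ X) (hy : y ∈ X) : x * y * x⁻¹ = y := by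
  rw [h.ab hx hy, mul_inv_cancel_right]

/-- `[x y, o] = [x, o] [y, o]`. -/
theorem comm_mul_left (h : Dat R S O X H) {x y o : G} (hx : x ∈ X) (hy : y ∈ X) (ho : o ∈ O) :
    ⁅x * y, o⁆ = ⁅x, o⁆ * ⁅y, o⁆ := by
  have h1 := h.comm y hy o ho
  have h2 := h.conj_eq hx (h.le h1)
  have h3 := h.ab (h.le (h.comm x hx o ho)) (h.le h1)
  have e : ⁅x * y, o⁆ = (x * ⁅y, o⁆ * x⁻¹) * ⁅x, o⁆ := by
    simp only [commutatorElement_def]; group
  rw [e, h2, ← h3]

/-- `[x, o o'] = [x, o] [x, o']`. -/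
theorem comm_mul_right (h : Dat R S O X H) {x o o' : G} (hx : x ∈ X) (ho : o ∈ O) (ho' : o' ∈ O) :
    ⁅x, o * o'⁆ = ⁅x, o⁆ * ⁅x, o'⁆ := by
  have h2 := h.oH o ho _ (h.comm x hx o' ho')
  have e : ⁅x, o * o'⁆ = ⁅x, o⁆ * (o * ⁅x, o'⁆ * o⁻¹) := by
    simp only [commutatorElement_def]; group
  rw [e, h2, mul_inv_cancel_right]

/-- A property of pairs: invariance under conjugation by `r ∈ R` (here `R` centralises `H`). -/
theorem comm_conj_r (h : Dat R S O X H) {x o r : G} (hx : x ∈ X) (ho : o ∈ O) (hr : r ∈ R) :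
    ⁅r * x * r⁻¹, o⁆ = ⁅x, r⁻¹ * o * r⁆ := by
  have h1 := h.rH r hr _ (h.comm x hx _ (norm_mem' h.rO hr ho))
  have e : ⁅r * x * r⁻¹, o⁆ = r * ⁅x, r⁻¹ * o * r⁆ * r⁻¹ := by
    simp only [commutatorElement_def]; group
  rw [e, h1, mul_inv_cancel_right]

/-- Transport of `[X, R] ≤ Y` to `O = [O, R]`: if `D ≤ H` and `[[x, r], o] ∈ D` always, then `[x, o] ∈ D`
always. -/
theorem all_of (h : Dat R S O X H) {D : Subgroup G} (hD : D ≤ X)
    (hc : ∀ x ∈ X, ∀ r ∈ R, ∀ o ∈ O, ⁅⁅x, r⁆, o⁆ ∈ D) : ∀ x ∈ X, ∀ o ∈ O, ⁅x, o⁆ ∈ D := by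
  intro x hx
  -- the subgroup of all `o ∈ O` with `[x, o] ∈ D`
  let K : Subgroup G :=
    { carrier := {o | o ∈ O ∧ ⁅x, o⁆ ∈ D}
      one_mem' := ⟨O.one_mem, by rw [commutatorElement_one_right]; exact D.one_mem⟩
      mul_mem' := by
        rintro o o' ⟨h1, h2⟩ ⟨h3, h4⟩
        exact ⟨O.mul_mem h1 h3, by rw [h.comm_mul_right hx h1 h3]; exact D.mul_mem h2 h4⟩
      inv_mem' := by
        rintro o ⟨h1, h2⟩
        refine ⟨O.inv_mem h1, ?_⟩
        have h3 := h.comm_mul_right hx h1 (O.inv_mem h1)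
        rw [mul_inv_cancel, commutatorElement_one_right] at h3
        have h4 : ⁅x, o⁻¹⁆ = ⁅x, o⁆⁻¹ := (inv_eq_of_mul_eq_one_right h3.symm).symm
        rw [h4]; exact D.inv_mem h2 }
  have hK : (⁅O, R⁆ : Subgroup G) ≤ K := by
    rw [commutator_le]
    intro o ho r hr
    have ho' := norm_mem h.rO hr ho
    have h0 : ⁅o, r⁆ = o * (r * o⁻¹ * r⁻¹) := by simp only [commutatorElement_def]; group
    have ho2 := norm_mem h.rO hr (O.inv_mem ho)
    refine ⟨by rw [h0]; exact O.mul_mem ho ho2, ?_⟩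
    -- `[x, r o⁻¹ r⁻¹] = [r⁻¹ x r, o⁻¹]`
    have h1 := h.comm_conj_r (x := x) (o := o⁻¹) (r := r⁻¹) hx (O.inv_mem ho) (R.inv_mem hr)
    rw [inv_inv] at h1
    have h2 : r⁻¹ * x * r = ⁅x, r⁻¹⁆⁻¹ * x := by simp only [commutatorElement_def]; group
    have h3 := hc x hx r⁻¹ (R.inv_mem hr) o ho
    have hxr : ⁅x, r⁻¹⁆ ∈ X := by
      have : ⁅x, r⁻¹⁆ = x * (r⁻¹ * x⁻¹ * r) := by simp only [commutatorElement_def]; group
      rw [this]
      exact X.mul_mem hx (norm_mem' h.rX hr (X.inv_mem hx))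
    -- `[x, o⁻¹]` in terms of `[r⁻¹ x r, o⁻¹]`
    have e1 : (⁅x, r⁻¹⁆ : G)⁻¹ = ⁅x, r⁻¹⁆ := inv_eq_of_mul_eq_one_left (h.sq _ hxr)
    have h4 := h.comm_mul_left hxr hx (O.inv_mem ho)
    rw [h2, e1, h4] at h1
    have h5 := h.comm_mul_right hx ho ho2
    rw [← h0, ← h1] at h5
    have h6 := h.comm_mul_right hx ho (O.inv_mem ho)
    rw [mul_inv_cancel, commutatorElement_one_right] at h6
    have h7 := h.comm_mul_right hxr ho (O.inv_mem ho)
    rw [mul_inv_cancel, commutatorElement_one_right] at h7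
    have h8 : ⁅⁅x, r⁻¹⁆, o⁻¹⁆ = ⁅⁅x, r⁻¹⁆, o⁆⁻¹ := (inv_eq_of_mul_eq_one_right h7.symm).symm
    have h9 := h.ab (h.le (h.comm x hx o ho)) (h.le (h.comm _ hxr _ (O.inv_mem ho)))
    have h10 : ⁅x, ⁅o, r⁆⁆ = ⁅⁅x, r⁻¹⁆, o⁻¹⁆ := by
      rw [h5, ← mul_assoc, h9, mul_assoc, ← h6, mul_one]
    rw [h10, h8]
    exact D.inv_mem h3
  intro o ho
  exact (hK (h.OO ho)).2

/-- `C_X(O) = H`. -/
theorem mem_of_comm (h : Dat R S O X H) {y : G} (hy : y ∈ X) (hc : ∀ o ∈ O, y * o = o * y) :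
    y ∈ H := by
  have key : ∀ T : Subgroup G, T ≤ normalizer (X : Set G) → T ≤ normalizer (O : Set G) →
      T ≤ normalizer ((X ⊓ centralizer (O : Set G) : Subgroup G) : Set G) := by
    intro T hTX hTO
    refine le_norm fun t ht x hx => ⟨norm_mem hTX ht hx.1, fun o ho => ?_⟩
    have h1 := hx.2 _ (norm_mem' hTO ht ho)
    calc o * (t * x * t⁻¹) = t * ((t⁻¹ * o * t) * x) * t⁻¹ := by group
      _ = t * (x * (t⁻¹ * o * t)) * t⁻¹ := by rw [h1]
      _ = t * x * t⁻¹ * o := by group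
  have h1 : X ⊓ centralizer (O : Set G) = H ∨ ⁅X, R⁆ ≤ X ⊓ centralizer (O : Set G) := by
    refine h.irr _ (fun x hx => ⟨h.le hx, ?_⟩) inf_le_left (key R h.rX h.rO) (key S h.sX h.sO)
    exact fun o ho => h.oH o ho x hx
  rcases h1 with h1 | h1
  · rw [← h1]
    exact ⟨hy, fun o ho => (hc o ho).symm⟩
  · obtain ⟨x, hx, o, ho, hxo⟩ := h.ne
    have h2 := h.all_of (D := ⊥) bot_le (fun x hx r hr o ho => by
      rw [mem_bot, commutatorElement_eq_one_iff_mul_comm]
      exact ((h1 (commutator_mem_commutator hx hr)).2 o ho).symm) x hx o ho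
    rw [mem_bot, commutatorElement_eq_one_iff_mul_comm] at h2
    exact absurd h2 hxo

/-- The `P`-invariant hyperplane of `[X, O]`. -/
theorem exists_hyp [Finite G] (h : Dat R S O X H) :
    ∃ D : Subgroup G, ⁅X, O⁆ ≤ H ∧ D ≤ ⁅X, O⁆ ∧ D.relIndex ⁅X, O⁆ = 2 ∧ S ≤ normalizer (D : Set G) := by
  have h1 : ⁅X, O⁆ ≤ H := by
    rw [commutator_le]
    exact fun x hx o ho => h.comm x hx o ho
  have h2 : IsPGroup 2 (⁅X, O⁆ : Subgroup G) := by
    intro g
    refine ⟨1, Subtype.ext ?_⟩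
    have := h.sq _ (h.le (h1 g.2))
    simp only [pow_one, Subgroup.coe_pow, Subgroup.coe_one]
    rw [pow_two]
    exact this
  have h3 : S ≤ normalizer ((⁅X, O⁆ : Subgroup G) : Set G) := by
    intro s hs
    have hsX := h.sX hs
    have hsO := h.sO hs
    rw [mem_normalizer_iff_map_conj_eq] at hsX hsO ⊢
    rw [map_commutator, hsX, hsO]
  have h4 : (⁅X, O⁆ : Subgroup G) ≠ ⊥ := by
    intro h5
    obtain ⟨x, hx, o, ho, hxo⟩ := h.ne
    have h6 : ⁅x, o⁆ ∈ (⁅X, O⁆ : Subgroup G) := commutator_mem_commutator hx ho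
    rw [h5, mem_bot, commutatorElement_eq_one_iff_mul_comm] at h6
    exact hxo h6
  obtain ⟨M, hM1, hM2, hM3⟩ := exists_inv_two h.two h2 h3 h4
  exact ⟨M, h1, hM1, hM3, hM2⟩

/-- **Lemma D.** `|Y : Y ∩ H| ≤ |O : C_O(Y)|` for every subgroup `Y` of `X`. -/
theorem relIndex_le [Finite G] (h : Dat R S O X H) {Y : Subgroup G} (hY : Y ≤ X) :
    H.relIndex Y ≤ (centralizer (Y : Set G)).relIndex O := by
  classical
  obtain ⟨D, hXO, hD, hD2, hSD⟩ := h.exists_hyp
  -- the parity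
  have par : ∀ {a b : G}, a ∈ (⁅X, O⁆ : Subgroup G) → b ∈ (⁅X, O⁆ : Subgroup G) →
      (a * b ∈ D ↔ (a ∈ D ↔ b ∈ D)) := by
    intro a b ha hb
    have h1 := Subgroup.mul_mem_iff_of_index_two (H := D.subgroupOf ⁅X, O⁆) hD2
      (a := ⟨a, ha⟩) (b := ⟨b, hb⟩)
    exact h1
  have cm : ∀ {x o : G}, x ∈ X → o ∈ O → ⁅x, o⁆ ∈ (⁅X, O⁆ : Subgroup G) :=
    fun hx ho => commutator_mem_commutator hx ho
  -- the left radical is `H`
  let X0 : Subgroup G :=
    { carrier := {x | x ∈ X ∧ ∀ o ∈ O, ⁅x, o⁆ ∈ D}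
      one_mem' := ⟨X.one_mem, fun o _ => by rw [commutatorElement_one_left]; exact D.one_mem⟩
      mul_mem' := by
        rintro x y ⟨hx, hx1⟩ ⟨hy, hy1⟩
        exact ⟨X.mul_mem hx hy, fun o ho => by
          rw [h.comm_mul_left hx hy ho]; exact D.mul_mem (hx1 o ho) (hy1 o ho)⟩
      inv_mem' := by
        rintro x ⟨hx, hx1⟩
        have e1 : x⁻¹ = x := inv_eq_of_mul_eq_one_left (h.sq x hx)
        exact ⟨X.inv_mem hx, fun o ho => by rw [e1]; exact hx1 o ho⟩ }
  have hX0 : X0 = H := by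
    have h1 : X0 = H ∨ ⁅X, R⁆ ≤ X0 := by
      refine h.irr X0 ?_ (fun x hx => hx.1) ?_ ?_
      · intro x hx
        refine ⟨h.le hx, fun o ho => ?_⟩
        have h2 : ⁅x, o⁆ = 1 := by
          rw [commutatorElement_eq_one_iff_mul_comm]; exact (h.oH o ho x hx).symm
        rw [h2]; exact D.one_mem
      · refine le_norm fun r hr x hx => ⟨norm_mem h.rX hr hx.1, fun o ho => ?_⟩
        rw [h.comm_conj_r hx.1 ho hr]
        exact hx.2 _ (norm_mem' h.rO hr ho)
      · refine le_norm fun s hs x hx => ⟨norm_mem h.sX hs hx.1, fun o ho => ?_⟩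
        have h2 := norm_mem hSD hs (hx.2 _ (norm_mem' h.sO hs ho))
        have e : ⁅s * x * s⁻¹, o⁆ = s * ⁅x, s⁻¹ * o * s⁆ * s⁻¹ := by
          simp only [commutatorElement_def]; group
        rw [e]; exact h2
    rcases h1 with h1 | h1
    · exact h1
    · exfalso
      have h2 : (⁅X, O⁆ : Subgroup G) ≤ D := by
        rw [commutator_le]
        exact h.all_of (hD.trans (hXO.trans h.le)) (fun x hx r hr o ho =>
          (h1 (commutator_mem_commutator hx hr)).2 o ho)
      have h3 := Subgroup.relIndex_eq_one.mpr h2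
      omega
  -- the characters
  let ch : Y → O →* ℚ := fun y =>
    { toFun := fun o => if ⁅(y : G), (o : G)⁆ ∈ D then 1 else -1
      map_one' := by
        have : ⁅(y : G), ((1 : O) : G)⁆ ∈ D := by
          rw [Subgroup.coe_one, commutatorElement_one_right]; exact D.one_mem
        rw [if_pos this]
      map_mul' := by
        intro o o'
        have h1 := h.comm_mul_right (hY y.2) o.2 o'.2
        have h2 := par (cm (hY y.2) o.2) (cm (hY y.2) o'.2)
        rw [← h1] at h2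
        rw [Subgroup.coe_mul]
        by_cases c1 : ⁅(y : G), (o : G)⁆ ∈ D <;> by_cases c2 : ⁅(y : G), (o' : G)⁆ ∈ D
        · rw [if_pos c1, if_pos c2, if_pos (h2.mpr (by simp [c1, c2]))]; norm_num
        · rw [if_pos c1, if_neg c2, if_neg (fun hh => by have := h2.mp hh; simp [c1, c2] at this)]
          norm_num
        · rw [if_neg c1, if_pos c2, if_neg (fun hh => by have := h2.mp hh; simp [c1, c2] at this)]
          norm_num
        · rw [if_neg c1, if_neg c2, if_pos (h2.mpr (by simp [c1, c2]))]; norm_num }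
  have hch : ∀ (y : Y) (o : O), ch y o = if ⁅(y : G), (o : G)⁆ ∈ D then 1 else -1 := fun _ _ => rfl
  have hinj : ∀ y y' : Y, ch y = ch y' → (y : G)⁻¹ * y' ∈ H := by
    intro y y' hyy
    rw [← hX0]
    refine ⟨X.mul_mem (X.inv_mem (hY y.2)) (hY y'.2), fun o ho => ?_⟩
    have e1 : (y : G)⁻¹ = y := inv_eq_of_mul_eq_one_left (h.sq _ (hY y.2))
    rw [e1, h.comm_mul_left (hY y.2) (hY y'.2) ho, par (cm (hY y.2) ho) (cm (hY y'.2) ho)]
    have h1 := DFunLike.congr_fun hyy ⟨o, ho⟩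
    rw [hch, hch] at h1
    by_cases c1 : ⁅(y : G), o⁆ ∈ D <;> by_cases c2 : ⁅(y' : G), o⁆ ∈ D
    · simp [c1, c2]
    · rw [if_pos c1, if_neg c2] at h1; norm_num at h1
    · rw [if_neg c1, if_pos c2] at h1; norm_num at h1
    · simp [c1, c2]
  have h5 := card_homs_le (B := O) ((centralizer (Y : Set G)).subgroupOf O)
    (ι := Y ⧸ (H.subgroupOf Y)) (fun c => ch c.out) ?_ ?_
  · exact h5
  · intro c c' hcc
    have h6 := hinj _ _ hcc
    rw [← QuotientGroup.out_eq' c, ← QuotientGroup.out_eq' c', QuotientGroup.eq]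
    rw [Subgroup.mem_subgroupOf]
    exact h6
  · intro c k hk
    rw [Subgroup.mem_subgroupOf] at hk
    have h6 : ⁅((c.out : Y) : G), (k : G)⁆ = 1 := by
      rw [commutatorElement_eq_one_iff_mul_comm]
      exact hk _ (c.out : Y).2
    show (if ⁅((c.out : Y) : G), (k : G)⁆ ∈ D then (1 : ℚ) else -1) = 1
    rw [h6, if_pos D.one_mem]

end Dat

end Cfsg.Agent.Omega.NO3b.Dual

end

section


/-!
# (C2): one noncentral chief factor gives an FF-offender (helper329 #12800, helper857 #12910)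

`P₂ = E S`, `E = O²(P₂)`, `Q = O₂(P₂)`, `V` normalised by `S`, `W = ⟨V^E⟩` elementary abelian, at most one
noncentral chief factor of `P₂` in `W` (every normal subgroup `K ≤ W` of `P₂` is centralised by `E` or
contains `[W, E]`), `E` does not normalise `V`. Then either `Q` centralises `[W, E]`, or `O = [Q, E]`
centralises `C_W(E)`, `C_V(O) = C_V(E)`, `O` acts nontrivially on `V` and `|V : C_V(E)| ≤ |O : C_O(V)|`.
-/

set_option autoImplicit false

namespace Cfsg.Agent.Omega.NO3b.CTwo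

open Subgroup Cfsg.Agent.Omega.NO3b.Dual
open scoped commutatorElement

variable {G : Type*} [Group G]

theorem mem_sup_of_le_norm {A B : Subgroup G} (h : A ≤ normalizer (B : Set G)) {x : G}
    (hx : x ∈ A ⊔ B) : ∃ a ∈ A, ∃ b ∈ B, a * b = x := by
  have h1 : x ∈ ((A ⊔ B : Subgroup G) : Set G) := hx
  rw [coe_mul_of_left_le_normalizer_right A B h] at h1
  exact Set.mem_mul.mp h1

/-- If `V`, `W` are normalised by the 2-group `S`, `V ≤ W`, and `W ≤ V [W, S]`, then `W ≤ V`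
(`W` a commutative 2-group). -/
theorem le_of_le_sup_commutator [Finite G] {S V W : Subgroup G} (hS : IsPGroup 2 S)
    (hab : ∀ x ∈ W, ∀ y ∈ W, x * y = y * x) (hW2 : IsPGroup 2 W)
    (hSW : S ≤ normalizer (W : Set G)) (hSV : S ≤ normalizer (V : Set G)) (hVW : V ≤ W)
    (h : W ≤ V ⊔ ⁅W, S⁆) : W ≤ V := by
  have := Fact.mk Nat.prime_two
  have hT : IsPGroup 2 (W ⊔ S : Subgroup G) := hW2.to_sup_of_normal_left' hS hSW
  have hTn : Group.IsNilpotent (W ⊔ S : Subgroup G) := hT.isNilpotent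
  obtain ⟨n, hn⟩ := (Subgroup.isNilpotent_iff_lowerCentralSeries (W ⊔ S)).1 hTn
  have key : ∀ k : ℕ, W ≤ V ⊔ (W ⊓ (W ⊔ S).lowerCentralSeries k) := by
    intro k
    induction k with
    | zero =>
      rw [Subgroup.lowerCentralSeries_zero]
      exact (le_inf le_rfl le_sup_left).trans le_sup_right
    | succ k ih =>
      refine h.trans (sup_le le_sup_left ?_)
      rw [commutator_le]
      intro w hw s hs
      have hmem := ih hw
      -- `w = v c`
      have hcomm : ∀ z ∈ (V ⊔ (W ⊓ (W ⊔ S).lowerCentralSeries k) : Subgroup G),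
          ⁅z, s⁆ ∈ (V ⊔ (W ⊓ (W ⊔ S).lowerCentralSeries (k + 1)) : Subgroup G) := by
        intro z hz
        obtain ⟨v, hv, c, hc, rfl⟩ : ∃ v ∈ V, ∃ c ∈ W ⊓ (W ⊔ S).lowerCentralSeries k, v * c = z := by
          have hVn : V ≤ normalizer ((W ⊓ (W ⊔ S).lowerCentralSeries k : Subgroup G) : Set G) := by
            refine le_norm fun v hv x hx => ?_
            have h1 : v * x * v⁻¹ = x := by
              rw [hab v (hVW hv) x hx.1, mul_inv_cancel_right]
            rw [h1]; exact hx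
          exact mem_sup_of_le_norm hVn hz
        have h1 : ⁅v * c, s⁆ = (v * ⁅c, s⁆ * v⁻¹) * ⁅v, s⁆ := by
          simp only [commutatorElement_def]; group
        have hcs : ⁅c, s⁆ ∈ W := by
          have e : ⁅c, s⁆ = c * (s * c⁻¹ * s⁻¹) := by simp only [commutatorElement_def]; group
          rw [e]
          exact W.mul_mem hc.1 (norm_mem hSW hs (W.inv_mem hc.1))
        have h2 : v * ⁅c, s⁆ * v⁻¹ = ⁅c, s⁆ := by
          rw [hab v (hVW hv) _ hcs, mul_inv_cancel_right]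
        have hvs : ⁅v, s⁆ ∈ V := by
          have e : ⁅v, s⁆ = v * (s * v⁻¹ * s⁻¹) := by simp only [commutatorElement_def]; group
          rw [e]
          exact V.mul_mem hv (norm_mem hSV hs (V.inv_mem hv))
        rw [h1, h2]
        refine mul_mem (mem_sup_right ⟨hcs, ?_⟩) (mem_sup_left hvs)
        rw [Subgroup.lowerCentralSeries_succ]
        exact commutator_mem_commutator hc.2 (mem_sup_right hs)
      exact hcomm w hmem
  have h1 := key n
  rw [hn, inf_bot_eq, sup_bot_eq] at h1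
  exact h1

/-- The situation of (C2). -/
structure Sit (E S Q V W : Subgroup G) : Prop where
  sq : ∀ w ∈ W, w * w = 1
  two : IsPGroup 2 S
  QS : Q ≤ S
  VW : V ≤ W
  SV : S ≤ normalizer (V : Set G)
  EW : E ≤ normalizer (W : Set G)
  SW : S ≤ normalizer (W : Set G)
  EQ : E ≤ normalizer (Q : Set G)
  SQ : S ≤ normalizer (Q : Set G)
  SE : S ≤ normalizer (E : Set G)
  gen : ∀ K : Subgroup G, V ≤ K → E ≤ normalizer (K : Set G) → W ≤ K
  nV : ¬ E ≤ normalizer (V : Set G)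
  OO : (⁅Q, E⁆ : Subgroup G) ≤ ⁅⁅Q, E⁆, E⁆
  one : ∀ K : Subgroup G, K ≤ W → E ≤ normalizer (K : Set G) → S ≤ normalizer (K : Set G) →
    (∀ k ∈ K, ∀ e ∈ E, e * k = k * e) ∨ ⁅W, E⁆ ≤ K

namespace Sit

variable {E S Q V W : Subgroup G}

theorem norm_commutator {T A B : Subgroup G} (hA : T ≤ normalizer (A : Set G))
    (hB : T ≤ normalizer (B : Set G)) : T ≤ normalizer ((⁅A, B⁆ : Subgroup G) : Set G) := by
  intro s hs
  have h1 := hA hs
  have h2 := hB hs
  rw [mem_normalizer_iff_map_conj_eq] at h1 h2 ⊢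
  rw [map_commutator, h1, h2]

theorem norm_inf_cent {T A B : Subgroup G} (hA : T ≤ normalizer (A : Set G))
    (hB : T ≤ normalizer (B : Set G)) :
    T ≤ normalizer ((A ⊓ centralizer (B : Set G) : Subgroup G) : Set G) := by
  refine le_norm fun t ht x hx => ⟨norm_mem hA ht hx.1, fun o ho => ?_⟩
  have h1 := hx.2 _ (norm_mem' hB ht ho)
  calc o * (t * x * t⁻¹) = t * ((t⁻¹ * o * t) * x) * t⁻¹ := by group
    _ = t * (x * (t⁻¹ * o * t)) * t⁻¹ := by rw [h1]
    _ = t * x * t⁻¹ * o := by group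

theorem commutator_le_of_norm {A B : Subgroup G} (h : B ≤ normalizer (A : Set G)) :
    (⁅A, B⁆ : Subgroup G) ≤ A := (le_normalizer_iff_commutator_le_left).1 h

/-- `R = C_W(E)`. -/
def rr (E W : Subgroup G) : Subgroup G := W ⊓ centralizer (E : Set G)

theorem isPGroup_W (h : Sit E S Q V W) : IsPGroup 2 W := by
  intro g
  refine ⟨1, Subtype.ext ?_⟩
  have := h.sq _ g.2
  simp only [pow_one, Subgroup.coe_pow, Subgroup.coe_one]
  rw [pow_two]
  exact this

theorem ab (h : Sit E S Q V W) : ∀ x ∈ W, ∀ y ∈ W, x * y = y * x := by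
  intro x hx y hy
  have h1 := h.sq _ (W.mul_mem hx hy)
  have h2 := h.sq _ hx
  have h3 := h.sq _ hy
  have e1 : x⁻¹ = x := inv_eq_of_mul_eq_one_left h2
  have e2 : y⁻¹ = y := inv_eq_of_mul_eq_one_left h3
  have h4 : x * y = (x * y)⁻¹ := (inv_eq_of_mul_eq_one_left h1).symm
  rw [h4, mul_inv_rev, e1, e2]

/-- `W = V [W, E]`. -/
theorem le_sup (h : Sit E S Q V W) : W ≤ V ⊔ ⁅W, E⁆ := by
  refine h.gen _ le_sup_left (le_norm fun e he x hx => ?_)
  have hWn : (⁅W, E⁆ : Subgroup G) ≤ W := commutator_le_of_norm h.EW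
  have hVn : V ≤ normalizer ((⁅W, E⁆ : Subgroup G) : Set G) := by
    refine le_norm fun v hv c hc => ?_
    rw [h.ab v (h.VW hv) c (hWn hc), mul_inv_cancel_right]; exact hc
  obtain ⟨v, hv, c, hc, rfl⟩ := mem_sup_of_le_norm hVn hx
  have h1 : e * (v * c) * e⁻¹ = (v * ⁅v⁻¹, e⁆) * (e * c * e⁻¹) := by
    simp only [commutatorElement_def]; group
  rw [h1]
  refine mul_mem (mul_mem (mem_sup_left hv) (mem_sup_right ?_)) (mem_sup_right ?_)
  · exact commutator_mem_commutator (W.inv_mem (h.VW hv)) he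
  · exact norm_mem (norm_commutator h.EW le_normalizer) he hc

/-- (i) `[W, Q] ≤ C_W(E)`. -/
theorem commutator_Q_le [Finite G] (h : Sit E S Q V W) : (⁅W, Q⁆ : Subgroup G) ≤ rr E W := by
  have hQW : (⁅W, Q⁆ : Subgroup G) ≤ W := commutator_le_of_norm (h.QS.trans h.SW)
  rcases h.one _ hQW (norm_commutator h.EW h.EQ) (norm_commutator h.SW h.SQ) with h1 | h1
  · exact fun k hk => ⟨hQW hk, fun e he => h1 k hk e he⟩
  · exfalso
    have h2 : W ≤ V := le_of_le_sup_commutator (S := Q) (h.two.to_le h.QS) h.ab h.isPGroup_W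
      (h.QS.trans h.SW) (h.QS.trans h.SV) h.VW (h.le_sup.trans (sup_le_sup_left h1 _))
    have h3 : V = W := le_antisymm h.VW h2
    exact h.nV (h3 ▸ h.EW)

theorem rr_le : rr E W ≤ W := inf_le_left

theorem E_norm_rr (h : Sit E S Q V W) : E ≤ normalizer ((rr E W : Subgroup G) : Set G) :=
  norm_inf_cent h.EW le_normalizer

theorem S_norm_rr (h : Sit E S Q V W) : S ≤ normalizer ((rr E W : Subgroup G) : Set G) :=
  norm_inf_cent h.SW h.SE

/-- (ii) `O = [Q, E]` centralises `R = C_W(E)`. -/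
theorem O_cent_rr (h : Sit E S Q V W) : (⁅⁅Q, E⁆, rr E W⁆ : Subgroup G) = ⊥ := by
  refine commutator_commutator_eq_bot_of_rotate ?_ ?_
  · have h1 : (⁅E, rr E W⁆ : Subgroup G) = ⊥ := by
      rw [commutator_eq_bot_iff_le_centralizer]
      intro e he r hr
      exact (hr.2 e he).symm
    rw [h1, commutator_bot_left]
  · have h1 : (⁅rr E W, Q⁆ : Subgroup G) ≤ rr E W := commutator_le_of_norm (h.QS.trans h.S_norm_rr)
    rw [eq_bot_iff]
    refine (commutator_mono h1 le_rfl).trans ?_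
    rw [le_bot_iff, commutator_eq_bot_iff_le_centralizer]
    exact fun r hr e he => (hr.2 e he)

/-- (iv) If `O = [Q, E]` centralises `W`, then `Q` centralises `[W, E]`. -/
theorem Q_cent [Finite G] (h : Sit E S Q V W) (hO : (⁅⁅Q, E⁆, W⁆ : Subgroup G) = ⊥) :
    (⁅⁅W, E⁆, Q⁆ : Subgroup G) = ⊥ := by
  have h1 : (⁅⁅E, Q⁆, W⁆ : Subgroup G) = ⊥ := by rw [commutator_comm E Q]; exact hO
  have h2 : (⁅⁅Q, W⁆, E⁆ : Subgroup G) = ⊥ := by
    rw [commutator_comm Q W, eq_bot_iff]
    refine (commutator_mono h.commutator_Q_le le_rfl).trans ?_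
    rw [le_bot_iff, commutator_eq_bot_iff_le_centralizer]
    exact fun r hr e he => (hr.2 e he)
  exact commutator_commutator_eq_bot_of_rotate h1 h2

/-- **(C2)**: either `Q` centralises `[W, E]`, or the data of the dual offender lemma hold for
`O = [Q, E]`, `H = C_W(E)`. -/
theorem dat [Finite G] (h : Sit E S Q V W) :
    (⁅⁅W, E⁆, Q⁆ : Subgroup G) = ⊥ ∨ Dat E S ⁅Q, E⁆ W (rr E W) := by
  by_cases hO : (⁅⁅Q, E⁆, W⁆ : Subgroup G) = ⊥
  · exact Or.inl (h.Q_cent hO)
  · right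
    have hOQ : (⁅Q, E⁆ : Subgroup G) ≤ Q := commutator_le_of_norm h.EQ
    refine { sq := h.sq, le := rr_le, two := h.two, rH := fun r hr x hx => (hx.2 r hr), oH := ?_,
             rX := h.EW, sX := h.SW, rO := norm_commutator h.EQ le_normalizer,
             sO := norm_commutator h.SQ h.SE, sH := h.S_norm_rr, comm := ?_, irr := ?_, OO := h.OO,
             ne := ?_ }
    · intro o ho x hx
      have h1 := h.O_cent_rr
      rw [commutator_eq_bot_iff_le_centralizer] at h1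
      exact (h1 ho x hx).symm
    · intro x hx o ho
      exact h.commutator_Q_le (commutator_mem_commutator hx (hOQ ho))
    · intro Y hY1 hY2 hEY hSY
      rcases h.one Y hY2 hEY hSY with h1 | h1
      · left
        exact le_antisymm (fun y hy => ⟨hY2 hy, fun e he => h1 y hy e he⟩) hY1
      · exact Or.inr h1
    · by_contra hc
      push Not at hc
      apply hO
      rw [commutator_comm, commutator_eq_bot_iff_le_centralizer]
      exact fun x hx o ho => (hc x hx o ho).symm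

/-- **(C2)**, numerical form: `Q` centralises `[W, E]`, or `V` is an FF-module with the offender
`O = [Q, E] ≤ S`: `|V : C_V(E)| ≤ |O : C_O(V)|`, `C_V(O) = C_V(E)`, `[V, O] ≠ 1`, `[V, O] ≤ C_V(E)`. -/
theorem ctwo [Finite G] (h : Sit E S Q V W) :
    (⁅⁅W, E⁆, Q⁆ : Subgroup G) = ⊥ ∨
    ((rr E W).relIndex V ≤ (centralizer (V : Set G)).relIndex ⁅Q, E⁆ ∧
      (∀ v ∈ V, (v ∈ rr E W ↔ ∀ o ∈ (⁅Q, E⁆ : Subgroup G), v * o = o * v)) ∧
      (∃ v ∈ V, ∃ o ∈ (⁅Q, E⁆ : Subgroup G), v * o ≠ o * v) ∧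
      (⁅V, ⁅Q, E⁆⁆ : Subgroup G) ≤ V ⊓ rr E W) := by
  rcases h.dat with h1 | h1
  · exact Or.inl h1
  · right
    have hOQ : (⁅Q, E⁆ : Subgroup G) ≤ Q := commutator_le_of_norm h.EQ
    refine ⟨h1.relIndex_le h.VW, fun v hv => ⟨fun hr o ho => (h1.oH o ho v hr).symm,
      fun hc => h1.mem_of_comm (h.VW hv) hc⟩, ?_, ?_⟩
    · by_contra hc
      push Not at hc
      have h2 : V ≤ rr E W := fun v hv => h1.mem_of_comm (h.VW hv) (fun o ho => hc v hv o ho)
      have h3 : W ≤ rr E W := h.gen _ h2 h.E_norm_rr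
      apply h.nV
      refine le_norm fun e he v hv => ?_
      have h4 := (h2 hv).2 e he
      rw [h4, mul_inv_cancel_right]
      exact hv
    · rw [commutator_le]
      intro v hv o ho
      refine ⟨?_, h1.comm v (h.VW hv) o ho⟩
      have e : ⁅v, o⁆ = v * (o * v⁻¹ * o⁻¹) := by simp only [commutatorElement_def]; group
      rw [e]
      exact V.mul_mem hv (norm_mem h.SV (h.QS (hOQ ho)) (V.inv_mem hv))

end Sit

end Cfsg.Agent.Omega.NO3b.CTwo

end

section


/-!
# NO-3b: the counting inequality for `V` not FF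

`lemma1` : if `E` is a subgroup such that on every member `V` of a family `𝓛` of subgroups every
subgroup `B` of `E` is either trivial on `V` or satisfies `c * |B : C_B(V)| ≤ |V : C_V(B)|`, then
the same holds for `E` on the join `W` of `𝓛`.  (Only orders are counted: nothing needs to be
abelian or normal.)  `lemma1_pow` is the version with exponents.

`formulaF` : the product formula for two subgroups `W`, `W'` (the subgroups of two points) with
`C_W(W') ≤ E ≤ W` and `C_W'(W) ≤ E' ≤ W'`.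
-/

namespace Cfsg.Agent.Omega.NO3b.Ineq

open Subgroup

variable {G : Type*} [Group G]

theorem rel_ne [Finite G] (A B : Subgroup G) : A.relIndex B ≠ 0 :=
  Subgroup.index_ne_zero_of_finite (H := A.subgroupOf B)

/-- the count `|A : C_A(B)|`. -/
noncomputable def cidx (A B : Subgroup G) : ℕ := (centralizer (B : Set G)).relIndex A

theorem cidx_def (A B : Subgroup G) : cidx A B = (centralizer (B : Set G)).relIndex A := rfl

theorem cidx_pos [Finite G] (A B : Subgroup G) : 0 < cidx A B :=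
  Nat.pos_of_ne_zero (rel_ne _ _)

theorem cidx_eq_one_iff {A B : Subgroup G} : cidx A B = 1 ↔ A ≤ centralizer (B : Set G) :=
  Subgroup.relIndex_eq_one

theorem cidx_inf (A B : Subgroup G) : (A ⊓ centralizer (B : Set G)).relIndex A = cidx A B := by
  rw [cidx, inf_comm, Subgroup.inf_relIndex_right]

/-- the chain rule: `|A : C_A(B)| = |A : E| |E : C_E(B)|` for `C_A(B) ≤ E ≤ A`. -/
theorem cidx_chain {A B E : Subgroup G} (hEA : E ≤ A)
    (hCE : A ⊓ centralizer (B : Set G) ≤ E) :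
    cidx A B = E.relIndex A * cidx E B := by
  have h1 : E ⊓ centralizer (B : Set G) = A ⊓ centralizer (B : Set G) :=
    le_antisymm (inf_le_inf_right _ hEA) (le_inf hCE inf_le_right)
  rw [← cidx_inf A B, ← cidx_inf E B, h1, mul_comm]
  exact (Subgroup.relIndex_mul_relIndex _ _ _ hCE hEA).symm

/-- the chain rule in the second variable:
`|A : C_A(B)| = |A : C_A(E)| |C_A(E) : C_A(B)|` for `E ≤ B`. -/
theorem cidx_chain_right (A : Subgroup G) {B E : Subgroup G} (hEB : E ≤ B) :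
    cidx A B = cidx A E *
      (A ⊓ centralizer (B : Set G)).relIndex (A ⊓ centralizer (E : Set G)) := by
  have h1 : A ⊓ centralizer (B : Set G) ≤ A ⊓ centralizer (E : Set G) :=
    inf_le_inf_left _ (Subgroup.centralizer_le (by exact_mod_cast hEB))
  rw [← cidx_inf A B, ← cidx_inf A E, mul_comm]
  exact (Subgroup.relIndex_mul_relIndex _ _ _ h1 inf_le_left).symm

/-- `|V : C_V(E)| ≤ |D : C_D(E)|` for `V ≤ D`. -/
theorem cidx_mono_left [Finite G] {V D : Subgroup G} (h : V ≤ D) (E : Subgroup G) :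
    cidx V E ≤ cidx D E :=
  Subgroup.relIndex_le_of_le_right h (rel_ne _ _)

/-- the induction step of Lemma 1: with `E₁ = C_E(V)`, `V ≤ W`:
`|E : C_E(W)| = |E : C_E(V)| |E₁ : C_{E₁}(W)|` and
`|W : C_W(E)| ≥ |W : C_W(E₁)| |V : C_V(E)|`. -/
theorem step_left {V W E : Subgroup G} (hVW : V ≤ W) :
    cidx E W = cidx E V * cidx (E ⊓ centralizer (V : Set G)) W := by
  have h1 := cidx_chain (A := E) (B := W) (E := E ⊓ centralizer (V : Set G)) inf_le_left
    (inf_le_inf_left _ (Subgroup.centralizer_le (by exact_mod_cast hVW)))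
  rw [h1, cidx_inf]

theorem step_right [Finite G] {V W E : Subgroup G} (hVW : V ≤ W) :
    cidx W (E ⊓ centralizer (V : Set G)) * cidx V E ≤ cidx W E := by
  set E₁ := E ⊓ centralizer (V : Set G) with hE₁
  have h1 := cidx_chain_right W (B := E) (E := E₁) inf_le_left
  rw [h1]
  refine Nat.mul_le_mul_left _ ?_
  have hVD : V ≤ W ⊓ centralizer (E₁ : Set G) :=
    le_inf hVW (Subgroup.le_centralizer_iff.mpr (by rw [hE₁]; exact inf_le_right))
  have h2 : cidx V E = (W ⊓ centralizer (E : Set G)).relIndex V := by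
    rw [cidx, ← Subgroup.inf_relIndex_right (centralizer (E : Set G)) V,
      ← Subgroup.inf_relIndex_right (W ⊓ centralizer (E : Set G)) V]
    congr 1
    ext x
    simp only [Subgroup.mem_inf]
    constructor
    · rintro ⟨h, h'⟩
      exact ⟨⟨hVW h', h⟩, h'⟩
    · rintro ⟨⟨_, h⟩, h'⟩
      exact ⟨h, h'⟩
  rw [h2]
  exact Subgroup.relIndex_le_of_le_right hVD (rel_ne _ _)

/-- `E ≤ C(sSup 𝓛)` if `E` centralises every member of `𝓛`. -/
theorem le_centralizer_sSup {𝓛 : Set (Subgroup G)} {E : Subgroup G}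
    (h : ∀ V ∈ 𝓛, E ≤ centralizer (V : Set G)) : E ≤ centralizer ((sSup 𝓛 : Subgroup G) : Set G) := by
  rw [Subgroup.le_centralizer_iff]
  exact sSup_le fun V hV => Subgroup.le_centralizer_iff.mp (h V hV)

/-- **Lemma 1.** -/
theorem lemma1 [Finite G] {𝓛 : Set (Subgroup G)} {E : Subgroup G} {c : ℕ} (hc : 1 ≤ c)
    (h : ∀ V ∈ 𝓛, ∀ B ≤ E, ¬ B ≤ centralizer (V : Set G) → c * cidx B V ≤ cidx V B) :
    E ≤ centralizer ((sSup 𝓛 : Subgroup G) : Set G) ∨
      c * cidx E (sSup 𝓛) ≤ cidx (sSup 𝓛) E := by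
  induction hn : Nat.card E using Nat.strong_induction_on generalizing E with
  | _ n ih =>
    by_cases hE : ∀ V ∈ 𝓛, E ≤ centralizer (V : Set G)
    · exact Or.inl (le_centralizer_sSup hE)
    · push Not at hE
      obtain ⟨V, hV, hEV⟩ := hE
      right
      have hVW : V ≤ sSup 𝓛 := le_sSup hV
      set E₁ := E ⊓ centralizer (V : Set G) with hE₁
      have hE₁E : E₁ ≤ E := inf_le_left
      have hlt : Nat.card E₁ < n := by
        rw [← hn]
        refine lt_of_le_of_ne (Subgroup.card_le_of_le hE₁E) ?_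
        intro heq
        have : E₁ = E := Subgroup.eq_of_le_of_card_ge hE₁E heq.ge
        exact hEV (by rw [← this]; exact inf_le_right)
      have h1 := ih _ hlt (E := E₁) (fun V' hV' B hB hBV => h V' hV' B (hB.trans hE₁E) hBV) rfl
      have h2 : cidx E₁ (sSup 𝓛) ≤ cidx (sSup 𝓛) E₁ := by
        rcases h1 with h1 | h1
        · rw [cidx_eq_one_iff.mpr h1]
          exact cidx_pos _ _
        · exact le_trans (Nat.le_mul_of_pos_left _ hc) h1
      calc c * cidx E (sSup 𝓛) = (c * cidx E V) * cidx E₁ (sSup 𝓛) := by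
            rw [step_left hVW, mul_assoc]
        _ ≤ cidx V E * cidx (sSup 𝓛) E₁ :=
            Nat.mul_le_mul (h V hV E le_rfl hEV) h2
        _ = cidx (sSup 𝓛) E₁ * cidx V E := mul_comm _ _
        _ ≤ cidx (sSup 𝓛) E := step_right hVW

/-- **Lemma 1**, version with exponents: if `|B : C_B(V)| ^ a ≤ |V : C_V(B)| ^ b` for all members
`V` of `𝓛` and all `B ≤ E`, then the same holds for `E` on `sSup 𝓛`. -/
theorem lemma1_pow [Finite G] {𝓛 : Set (Subgroup G)} {E : Subgroup G} {a b : ℕ}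
    (h : ∀ V ∈ 𝓛, ∀ B ≤ E, cidx B V ^ a ≤ cidx V B ^ b) :
    cidx E (sSup 𝓛) ^ a ≤ cidx (sSup 𝓛) E ^ b := by
  induction hn : Nat.card E using Nat.strong_induction_on generalizing E with
  | _ n ih =>
    by_cases hE : ∀ V ∈ 𝓛, E ≤ centralizer (V : Set G)
    · rw [cidx_eq_one_iff.mpr (le_centralizer_sSup hE), one_pow]
      exact Nat.one_le_pow _ _ (cidx_pos _ _)
    · push Not at hE
      obtain ⟨V, hV, hEV⟩ := hE
      have hVW : V ≤ sSup 𝓛 := le_sSup hV
      set E₁ := E ⊓ centralizer (V : Set G) with hE₁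
      have hE₁E : E₁ ≤ E := inf_le_left
      have hlt : Nat.card E₁ < n := by
        rw [← hn]
        refine lt_of_le_of_ne (Subgroup.card_le_of_le hE₁E) ?_
        intro heq
        have : E₁ = E := Subgroup.eq_of_le_of_card_ge hE₁E heq.ge
        exact hEV (by rw [← this]; exact inf_le_right)
      have h2 := ih _ hlt (E := E₁) (fun V' hV' B hB => h V' hV' B (hB.trans hE₁E)) rfl
      calc cidx E (sSup 𝓛) ^ a = cidx E V ^ a * cidx E₁ (sSup 𝓛) ^ a := by
            rw [step_left hVW, mul_pow]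
        _ ≤ cidx V E ^ b * cidx (sSup 𝓛) E₁ ^ b := Nat.mul_le_mul (h V hV E le_rfl) h2
        _ = (cidx (sSup 𝓛) E₁ * cidx V E) ^ b := by rw [mul_pow, mul_comm]
        _ ≤ cidx (sSup 𝓛) E ^ b := Nat.pow_le_pow_left (step_right hVW) b

/-- **Formula (F)**: for `C_W(W') ≤ E ≤ W` and `C_{W'}(W) ≤ E' ≤ W'`,
`|W : E| |W' : E'| |E : C_E(W')| |E' : C_{E'}(W)|
  = |W' : C_{W'}(E)| |C_{W'}(E) : C_{W'}(W)| |W : C_W(E')| |C_W(E') : C_W(W')|`. -/
theorem formulaF {W W' E E' : Subgroup G} (hE : E ≤ W) (hE' : E' ≤ W')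
    (hC : W ⊓ centralizer (W' : Set G) ≤ E) (hC' : W' ⊓ centralizer (W : Set G) ≤ E') :
    (E.relIndex W * E'.relIndex W') * (cidx E W' * cidx E' W) =
      ((W' ⊓ centralizer (W : Set G)).relIndex (W' ⊓ centralizer (E : Set G)) *
        (W ⊓ centralizer (W' : Set G)).relIndex (W ⊓ centralizer (E' : Set G))) *
      (cidx W' E * cidx W E') := by
  have h1 := cidx_chain hE hC
  have h2 := cidx_chain hE' hC'
  have h3 := cidx_chain_right W' hE
  have h4 := cidx_chain_right W hE'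
  have h5 : (E.relIndex W * cidx E W') * (E'.relIndex W' * cidx E' W) =
      (cidx W E' * (W ⊓ centralizer (W' : Set G)).relIndex (W ⊓ centralizer (E' : Set G))) *
      (cidx W' E * (W' ⊓ centralizer (W : Set G)).relIndex (W' ⊓ centralizer (E : Set G))) := by
    rw [← h1, ← h2, ← h3, ← h4]
  calc _ = (E.relIndex W * cidx E W') * (E'.relIndex W' * cidx E' W) := by ring
    _ = _ := h5
    _ = _ := by ring

/-- The trichotomy: with `X = |W : E|`, `Y = |C_{W'}(E) : C_{W'}(W)|` and `X'`, `Y'` the same with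
the roles exchanged, either `Y < X` or `Y' < X'` or everything is exact: `X = Y`, `X' = Y'`,
`E` centralises `W'` and `E'` centralises `W`. -/
theorem trichotomy [Finite G] {W W' E E' : Subgroup G} (hE : E ≤ W) (hE' : E' ≤ W')
    (hC : W ⊓ centralizer (W' : Set G) ≤ E) (hC' : W' ⊓ centralizer (W : Set G) ≤ E')
    (hI : E ≤ centralizer (W' : Set G) ∨ cidx E W' < cidx W' E)
    (hI' : E' ≤ centralizer (W : Set G) ∨ cidx E' W < cidx W E') :
    (W' ⊓ centralizer (W : Set G)).relIndex (W' ⊓ centralizer (E : Set G)) < E.relIndex W ∨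
    (W ⊓ centralizer (W' : Set G)).relIndex (W ⊓ centralizer (E' : Set G)) < E'.relIndex W' ∨
    ((W' ⊓ centralizer (W : Set G)).relIndex (W' ⊓ centralizer (E : Set G)) = E.relIndex W ∧
      (W ⊓ centralizer (W' : Set G)).relIndex (W ⊓ centralizer (E' : Set G)) = E'.relIndex W' ∧
      E ≤ centralizer (W' : Set G) ∧ E' ≤ centralizer (W : Set G)) := by
  have hF := formulaF hE hE' hC hC'
  have hle : cidx E W' ≤ cidx W' E := by
    rcases hI with h | h
    · rw [cidx_eq_one_iff.mpr h]; exact cidx_pos _ _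
    · exact h.le
  have hle' : cidx E' W ≤ cidx W E' := by
    rcases hI' with h | h
    · rw [cidx_eq_one_iff.mpr h]; exact cidx_pos _ _
    · exact h.le
  have hX : 0 < E.relIndex W := Nat.pos_of_ne_zero (rel_ne _ _)
  have hX' : 0 < E'.relIndex W' := Nat.pos_of_ne_zero (rel_ne _ _)
  set X := E.relIndex W
  set X' := E'.relIndex W'
  set Y := (W' ⊓ centralizer (W : Set G)).relIndex (W' ⊓ centralizer (E : Set G))
  set Y' := (W ⊓ centralizer (W' : Set G)).relIndex (W ⊓ centralizer (E' : Set G))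
  by_cases h1 : Y < X
  · exact Or.inl h1
  by_cases h2 : Y' < X'
  · exact Or.inr (Or.inl h2)
  right; right
  rw [not_lt] at h1 h2
  have he : 0 < cidx E W' := cidx_pos _ _
  have he' : 0 < cidx E' W := cidx_pos _ _
  -- everything is an equality
  have hXX : X * X' ≤ Y * Y' := Nat.mul_le_mul h1 h2
  have hKK : cidx E W' * cidx E' W ≤ cidx W' E * cidx W E' := Nat.mul_le_mul hle hle'
  have hKpos : 0 < cidx E W' * cidx E' W := Nat.mul_pos he he'
  have hXpos : 0 < X * X' := Nat.mul_pos hX hX'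
  have hKeq : cidx E W' * cidx E' W = cidx W' E * cidx W E' := by
    refine le_antisymm hKK ?_
    by_contra hcon
    rw [not_le] at hcon
    have : (X * X') * (cidx E W' * cidx E' W) < (Y * Y') * (cidx W' E * cidx W E') :=
      lt_of_lt_of_le (Nat.mul_lt_mul_of_pos_left hcon hXpos) (Nat.mul_le_mul_right _ hXX)
    exact absurd hF this.ne
  have hXeq : X * X' = Y * Y' := by
    rw [hKeq] at hF
    exact Nat.eq_of_mul_eq_mul_right (hKeq ▸ hKpos) hF
  have hY : Y = X := by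
    refine le_antisymm ?_ h1
    by_contra hcon
    rw [not_le] at hcon
    have : X * X' < Y * Y' := Nat.mul_lt_mul_of_lt_of_le hcon h2 (lt_of_lt_of_le hX' h2)
    exact absurd hXeq this.ne
  have hY' : Y' = X' := by
    rw [hY] at hXeq
    exact (Nat.eq_of_mul_eq_mul_left hX hXeq).symm
  refine ⟨hY, hY', ?_, ?_⟩
  · rcases hI with h | h
    · exact h
    · have : cidx E W' * cidx E' W < cidx W' E * cidx W E' :=
        Nat.mul_lt_mul_of_lt_of_le h hle' (cidx_pos _ _)
      exact absurd hKeq this.ne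
  · rcases hI' with h | h
    · exact h
    · have : cidx E W' * cidx E' W < cidx W' E * cidx W E' :=
        Nat.mul_lt_mul_of_le_of_lt hle h (cidx_pos _ _)
      exact absurd hKeq this.ne

end Cfsg.Agent.Omega.NO3b.Ineq

end
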