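import Cfsg.Agent.Mrg.Omega.NO3b.NoEmp


/-!
# LEMMA SM: semi-mutual pairs of lines commute (helper833)

`Lines S J V` (helper58, helper25: `V` not FF, THEOREM TI).

* `Lines.comm_semi` : `U ⊴ X` elementary abelian, generated by lines which `O₂(X)` normalises, `V^a ≤ X`,
  `U ≤ N(V^a)`: then `[V^a, U] = 1`;
* `Wp S V x` : the product of all lines on the point `Z^x`;
* `Lines.comm_point` : `W_x ≤ O₂(C_y)`, `W_y ≤ C_x` implies `[W_y, W_x] = 1`.
-/

set_option autoImplicit false

namespace Cfsg.Agent.Omega.NO3b.NoEmp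

open Subgroup Cfsg Cfsg.Agent.ZN.ChoiceBase Cfsg.Agent.ZN.ChoiceSit
open Cfsg.Agent.ZN (o2 zc zl zj jj)
open Cfsg.Agent.MinSimple.EmptyTI (syl_of_le)
open Cfsg.Agent.Omega.NO3b.EZero (NotFF comm_of_norm cent_symm cj_cent cj_norm cj_eq_cj_iff mem_cj_self)
open scoped commutatorElement

universe u

variable {G : Type u} [Group G]

namespace Lines

variable [Finite G] {S : Sylow 2 G} {J V : Subgroup G} (h : Lines S J V)
  (hc : ∀ D : Subgroup G, D ≤ V → D ≠ ⊥ →
      centralizer (D : Set G) ⊓ centralizer (o2 (centralizer (D : Set G)) : Set G) ≤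
        o2 (centralizer (D : Set G)))
include h hc

/-- **LEMMA SM.** -/
theorem comm_semi {X U : Subgroup G} (hXU : X ≤ normalizer (U : Set G))
    (hUc : U ≤ centralizer (U : Set G)) (hU2 : ∀ u ∈ U, u ^ 2 = 1) {B : Set G}
    (hUB : U = ⨆ b ∈ B, cj b V) (hoB : ∀ b ∈ B, o2 X ≤ normalizer ((cj b V : Subgroup G) : Set G))
    {a : G} (haX : cj a V ≤ X) (hUa : U ≤ normalizer ((cj a V : Subgroup G) : Set G)) :
    cj a V ≤ centralizer (U : Set G) := by
  have hBU : ∀ b ∈ B, cj b V ≤ U := fun b hb => by rw [hUB]; exact le_biSup (fun b => cj b V) hb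
  -- `V₀ = V^a ∩ O₂(X)` centralises `U`
  have h0 : cj a V ⊓ o2 X ≤ centralizer (U : Set G) := by
    refine cent_symm ?_
    rw [hUB]
    refine iSup₂_le fun b hb => ?_
    by_cases hI : cj a V ⊓ cj b V = ⊥
    · intro w hw
      rw [mem_centralizer_iff]
      intro v hv
      have h1 : ⁅v, w⁆ ∈ cj a V ⊓ cj b V := by
        refine ⟨?_, ?_⟩
        · have h2 := hUa (hBU b hb hw)
          have e : ⁅v, w⁆ = v * (w * v⁻¹ * w⁻¹) := by simp only [commutatorElement_def]; group
          rw [e]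
          exact (cj a V).mul_mem hv.1 (norm_iff h2 ((cj a V).inv_mem hv.1))
        · have h2 := hoB b hb hv.2
          rw [commutatorElement_def]
          exact (cj b V).mul_mem (norm_iff h2 hw) ((cj b V).inv_mem hw)
      rw [hI, mem_bot, commutatorElement_eq_one_iff_mul_comm] at h1
      exact h1
    · have h1 := h.comm_of_inter hc hI
      exact (cent_symm h1).trans (centralizer_le inf_le_left)
  by_cases hI : cj a V ⊓ U = ⊥
  · intro v hv
    rw [mem_centralizer_iff]
    intro w hw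
    have h1 := comm_mem hUa (haX.trans hXU) hv hw
    rw [hI, mem_bot, commutatorElement_eq_one_iff_mul_comm] at h1
    exact h1.symm
  · have h1 : cj a V ≤ o2 X := by
      refine le_o2_of (D := ⊥) (U := U) haX ?_ (h.cj_sq a) ?_ hU2 hXU hUa bot_le bot_le ?_
        (fun h1 => hI (le_bot_iff.1 h1)) h0 (h.nff.cj a) ?_
      · exact fun y hy z hz => ((mem_centralizer_iff.1 (h.cj_comm a hy)) z hz).symm
      · exact fun y hy z hz => ((mem_centralizer_iff.1 (hUc hy)) z hz).symm
      · intro y _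
        rw [mem_centralizer_iff]
        intro d hd
        rw [mem_bot.1 hd, one_mul, mul_one]
      · intro y hy z hz hyz
        rw [cj_cj, cj_cj] at hyz ⊢
        by_contra h2
        exact hyz (h.comm_of_inter hc (fun h3 => h2 h3.le))
    exact (le_inf le_rfl h1).trans h0

end Lines

/-! ### The lines on a point -/

/-- The product of all lines on the point `Z^x`. -/
def Wp (S V : Subgroup G) (x : G) : Subgroup G :=
  ⨆ b ∈ {b : G | x⁻¹ * b ∈ centralizer (zc S : Set G)}, cj b V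

theorem line_le_Wp {S V : Subgroup G} {x b : G} (hb : x⁻¹ * b ∈ centralizer (zc S : Set G)) :
    cj b V ≤ Wp S V x :=
  le_biSup (fun b => cj b V) (show b ∈ {b : G | x⁻¹ * b ∈ centralizer (zc S : Set G)} from hb)

theorem Wp_le {S V A : Subgroup G} {x : G}
    (h : ∀ b : G, x⁻¹ * b ∈ centralizer (zc S : Set G) → cj b V ≤ A) : Wp S V x ≤ A :=
  iSup₂_le h

theorem sq_of_biSup {V U : Subgroup G} {B : Set G} (hUB : U = ⨆ b ∈ B, cj b V)
    (hUc : U ≤ centralizer (U : Set G)) (hsq : ∀ b ∈ B, ∀ v ∈ cj b V, v ^ 2 = 1) :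
    ∀ u ∈ U, u ^ 2 = 1 := by
  let K : Subgroup G :=
    { carrier := {u | u ∈ U ∧ u ^ 2 = 1}
      one_mem' := ⟨one_mem _, one_pow 2⟩
      mul_mem' := by
        rintro a b ⟨ha, ha2⟩ ⟨hb, hb2⟩
        refine ⟨U.mul_mem ha hb, ?_⟩
        have h1 := mem_centralizer_iff.1 (hUc ha) b hb
        rw [pow_two] at ha2 hb2 ⊢
        calc a * b * (a * b) = a * (b * a) * b := by group
          _ = a * (a * b) * b := by rw [h1]
          _ = a * a * (b * b) := by group
          _ = 1 := by rw [ha2, hb2, one_mul]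
      inv_mem' := by
        rintro a ⟨ha, ha2⟩
        exact ⟨U.inv_mem ha, by rw [inv_pow, ha2, inv_one]⟩ }
  have hK : U ≤ K := by
    conv_lhs => rw [hUB]
    refine iSup₂_le fun b hb v hv => ⟨?_, hsq b hb v hv⟩
    rw [hUB]
    exact (le_biSup (fun b => cj b V) hb) hv
  exact fun u hu => (hK hu).2

namespace Lines

variable [Finite G] {S : Sylow 2 G} {J V : Subgroup G} (h : Lines S J V)
include h

omit h in
theorem o2_le_S : o2 (centralizer (zc (S : Subgroup G) : Set G)) ≤ (S : Subgroup G) := o2_le_syl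
  (syl_of_le (by
    intro s hs
    rw [mem_centralizer_iff]
    exact fun z hz => ((mem_zc.1 hz).2.2 s hs).symm))

omit h in
theorem cj_o2_eq {x b : G} (hb : x⁻¹ * b ∈ centralizer (zc (S : Subgroup G) : Set G)) :
    cj x (o2 (centralizer (zc (S : Subgroup G) : Set G))) =
      cj b (o2 (centralizer (zc (S : Subgroup G) : Set G))) := by
  have h1 := cj_eq_of_mem_normalizer (le_normalizer_o2 _ hb)
  have h2 : b = x * (x⁻¹ * b) := by group
  conv_rhs => rw [h2, ← cj_cj, h1]

/-- `O₂(C_x)` normalises the lines on `x`. -/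
theorem o2_le_line {x b : G} (hb : x⁻¹ * b ∈ centralizer (zc (S : Subgroup G) : Set G)) :
    cj x (o2 (centralizer (zc (S : Subgroup G) : Set G))) ≤ normalizer ((cj b V : Subgroup G) : Set G) := by
  rw [cj_o2_eq hb]
  exact cj_norm (o2_le_S.trans h.S_le)

/-- The lines on `x` are in `O₂(C_x)`. -/
theorem line_le_o2 {x b : G} (hb : x⁻¹ * b ∈ centralizer (zc (S : Subgroup G) : Set G)) :
    cj b V ≤ cj x (o2 (centralizer (zc (S : Subgroup G) : Set G))) := by
  rw [cj_o2_eq hb]
  exact cj_mono b h.low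

theorem Wp_le_o2 (x : G) : Wp (S : Subgroup G) V x ≤ cj x (o2 (centralizer (zc (S : Subgroup G) : Set G))) :=
  Wp_le fun _ hb => h.line_le_o2 hb

theorem Wp_comm (x : G) : Wp (S : Subgroup G) V x ≤
    centralizer ((Wp (S : Subgroup G) V x : Subgroup G) : Set G) := by
  refine Wp_le fun b hb => cent_symm (Wp_le fun c hc => ?_)
  exact h.comm_lines ((h.line_le_o2 hc).trans (h.o2_le_line hb)) ((h.line_le_o2 hb).trans (h.o2_le_line hc))

theorem Wp_sq (x : G) : ∀ u ∈ Wp (S : Subgroup G) V x, u ^ 2 = 1 :=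
  sq_of_biSup rfl (h.Wp_comm x) fun b _ => h.cj_sq b

omit h in
theorem cj_Wp {x c : G} (hc : c ∈ centralizer (zc (S : Subgroup G) : Set G)) :
    cj (x * c * x⁻¹) (Wp (S : Subgroup G) V x) ≤ Wp (S : Subgroup G) V x := by
  rw [cj_le_iff]
  refine Wp_le fun b hb => ?_
  rw [← cj_le_iff, cj_cj]
  refine line_le_Wp ?_
  have e : x⁻¹ * (x * c * x⁻¹ * b) = c * (x⁻¹ * b) := by group
  rw [e]
  exact mul_mem hc hb

omit h in
theorem cent_le_norm_Wp (x : G) : cj x (centralizer (zc (S : Subgroup G) : Set G)) ≤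
    normalizer ((Wp (S : Subgroup G) V x : Subgroup G) : Set G) := by
  intro y hy
  have hy1 := mem_cj.1 hy
  have e : y = x * (x⁻¹ * y * x) * x⁻¹ := by group
  rw [mem_normalizer_iff_cj]
  refine le_antisymm ?_ ?_
  · rw [e]; exact cj_Wp hy1
  · have e' : y⁻¹ = x * (x⁻¹ * y * x)⁻¹ * x⁻¹ := by group
    have h1 := cj_Wp (V := V) (x := x) (inv_mem hy1)
    rw [← e', cj_le_iff, inv_inv] at h1
    exact h1

/-- **Semi-mutual points commute**: `W_x ≤ O₂(C_y)`, `W_y ≤ C_x` implies `[W_y, W_x] = 1`. -/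
theorem comm_point (hc : ∀ D : Subgroup G, D ≤ V → D ≠ ⊥ →
      centralizer (D : Set G) ⊓ centralizer (o2 (centralizer (D : Set G)) : Set G) ≤
        o2 (centralizer (D : Set G))) {x y : G}
    (h1 : Wp (S : Subgroup G) V x ≤ cj y (o2 (centralizer (zc (S : Subgroup G) : Set G))))
    (h2 : Wp (S : Subgroup G) V y ≤ cj x (centralizer (zc (S : Subgroup G) : Set G))) :
    Wp (S : Subgroup G) V y ≤ centralizer ((Wp (S : Subgroup G) V x : Subgroup G) : Set G) := by
  refine Wp_le fun b hb => ?_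
  refine h.comm_semi hc (X := cj x (centralizer (zc (S : Subgroup G) : Set G))) (cent_le_norm_Wp x)
    (h.Wp_comm x) (h.Wp_sq x) rfl (fun c hc => ?_) ((line_le_Wp hb).trans h2)
    (h1.trans (h.o2_le_line hb))
  rw [o2_cj]
  exact h.o2_le_line hc

end Lines

end Cfsg.Agent.Omega.NO3b.NoEmp
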